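import Cfsg.Agent.H33.BaseH

/-! Base sizes of solvable linear groups, outer induction, part A: reductions. -/

namespace Cfsg.Agent.H33
universe u
open MulAction Pointwise

/-- a regular tuple -/
def Reg (A : Type*) {V ι : Type*} [Group A] [MulAction A V] (t : ι → V) : Prop :=
  ∀ a : A, a • t = t → ∀ x : V, a • x = x

/-- irreducibility -/
def Irr (A V : Type*) [Group A] [AddCommGroup V] [DistribMulAction A V] : Prop :=
  ∀ U : AddSubgroup V, Inv A U → U = ⊥ ∨ U = ⊤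

theorem Irr.cr {A V : Type*} [Group A] [AddCommGroup V] [DistribMulAction A V] (h : Irr A V) : CR A V := fun U hU => by
  obtain rfl | rfl := h U hU
  exacts [⟨⊤, fun _ _ _ => trivial, by simp⟩, ⟨⊥, fun a v hv => by simp_all, by simp⟩]

/-- the induction hypothesis -/
def BaseT (ι : Type) (cop : Prop) (n : ℕ) : Prop := ∀ (A V : Type u) [Group A] [Finite A] [AddCommGroup V] [Finite V]
  [DistribMulAction A V], Nat.card V < n → Group.IsSolvable A → (cop → (Nat.card A).Coprime (Nat.card V)) → CR A V →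
  ∃ t : ι → V, Reg A t

theorem baseT_ind {ι : Type} {cop : Prop} (h : ∀ (A V : Type u) [Group A] [Finite A] [AddCommGroup V] [Finite V]
    [DistribMulAction A V] [FaithfulSMul A V] [Nontrivial V], BaseT.{u} ι cop (Nat.card V) → Group.IsSolvable A →
    (cop → (Nat.card A).Coprime (Nat.card V)) → Irr A V → ∃ t : ι → V, Reg A t) (n : ℕ) : BaseT.{u} ι cop n := by
  induction n with
  | zero => exact fun _ _ _ _ _ _ _ h => (Nat.not_lt_zero _ h).elim
  | succ n ih =>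
  intro A V _ _ _ _ _ hV hA hc hcr
  have hn : BaseT.{u} ι cop (Nat.card V) := fun A V _ _ _ _ _ h => ih A V (by omega)
  obtain _ | _ := subsingleton_or_nontrivial V
  · exact ⟨0, fun _ _ _ => Subsingleton.elim _ _⟩
  by_cases hirr : Irr A V
  · let ρ := DistribMulAction.toModuleAut ℤ V (S := A)
    have : Finite ρ.range := .of_surjective _ ρ.rangeRestrict_surjective
    obtain ⟨t, h⟩ := h ρ.range V hn (Group.isSolvable_of_surjective ρ.rangeRestrict_surjective)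
      (fun h => (hc h).coprime_dvd_left (Subgroup.card_range_dvd ρ)) fun U hU => hirr U fun a => hU ⟨_, a, rfl⟩
    exact ⟨t, fun a => h ⟨_, a, rfl⟩⟩
  simp only [Irr, not_forall, not_or] at hirr
  obtain ⟨Y, h1, h2, h3⟩ := hirr
  obtain ⟨W, h4, h5, h6⟩ := hcr Y h1
  have h7 : ∀ W : AddSubgroup V, Inv A W → W ≠ ⊤ → ∃ t : ι → W, ∀ a : A, (∀ i, a • (t i).1 = t i) → ∀ x ∈ W, a • x = x := fun W h h' => by
    letI := subAct ⊤ W fun a _ => h a
    obtain ⟨t, h1⟩ := hn (⊤ : Subgroup A) W (lt_of_le_of_ne W.card_le_card_addGroup fun e => h' (W.eq_top_of_card_eq e))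
      inferInstance (fun h => ((hc h).coprime_dvd_left (Subgroup.card_subgroup_dvd_card _)).coprime_dvd_right
      W.card_addSubgroup_dvd_card) fun X hX => by
      obtain ⟨Y, h1, h2, h3⟩ := hcr (X.map W.subtype) (by rintro a _ ⟨v, hv, rfl⟩; exact ⟨_, hX ⟨a, trivial⟩ v hv, rfl⟩)
      refine ⟨Y.addSubgroupOf W, fun a v hv => h1 a v hv, eq_bot_iff.2 fun x hx => ?_, eq_top_iff.2 fun x _ => ?_⟩
      · exact Subtype.ext (AddSubgroup.mem_bot.1 (h2 ▸ ⟨⟨x, hx.1, rfl⟩, hx.2⟩))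
      · obtain ⟨_, ⟨y, hy, rfl⟩, z, hz, e⟩ := AddSubgroup.mem_sup.1 (h3.ge (AddSubgroup.mem_top x.1))
        refine AddSubgroup.mem_sup.2 ⟨y, hy, x - y, ?_, by simp⟩
        simpa [AddSubgroup.mem_addSubgroupOf, ← e] using hz
    exact ⟨t, fun a ha x hx => congrArg Subtype.val (h1 ⟨a, trivial⟩ (funext fun i => Subtype.ext (ha i)) ⟨x, hx⟩)⟩
  obtain ⟨t, h8⟩ := h7 Y h1 h3
  obtain ⟨t', h9⟩ := h7 W h4 (by rintro rfl; exact h2 (by simpa using h5))
  have h10 : ∀ (a : A), ∀ x ∈ Y, ∀ y ∈ W, a • (x + y) = x + y → a • x = x ∧ a • y = y := fun a x hx y hy e => by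
    have e1 : a • x - x = y - a • y := by rw [sub_eq_sub_iff_add_eq_add, ← smul_add, e, add_comm]
    have e2 : a • x - x = 0 := AddSubgroup.mem_bot.1 (h5 ▸ ⟨Y.sub_mem (h1 a x hx) hx, e1 ▸ W.sub_mem hy (h4 a y hy)⟩)
    exact ⟨sub_eq_zero.1 e2, (sub_eq_zero.1 (e1 ▸ e2)).symm⟩
  refine ⟨fun i => t i + t' i, fun a e x => ?_⟩
  obtain ⟨y, hy, z, hz, rfl⟩ := AddSubgroup.mem_sup.1 (h6.ge (AddSubgroup.mem_top x))
  have := fun i => h10 a _ (t i).2 _ (t' i).2 (congrFun e i)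
  rw [smul_add, h8 a (fun i => (this i).1) y hy, h9 a (fun i => (this i).2) z hz]

variable (A V : Type u) [Group A] [AddCommGroup V] [DistribMulAction A V]

/-- imprimitivity data -/
def Impr : Prop := ∃ (H : Subgroup A) (W : AddSubgroup V) (_ : DistribMulAction H W) (Ω : Type u) (_ : Finite Ω)
  (_ : MulAction A Ω), W ≠ ⊥ ∧ W ≠ ⊤ ∧ Irr H W ∧ Nat.card Ω < Nat.card V ∧ ∀ (ι C : Type) (P : C → ι → W) (κ : Ω → C),
  (∀ c, Reg H (P c)) → (∀ (a : H) c c', a • P c = P c' → c = c') →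
  (∀ a : A, (∀ ω, κ (a • ω) = κ ω) → ∀ ω : Ω, a • ω = ω) → ∃ t : ι → V, Reg A t

/-- quasi-primitivity -/
def Quasi : Prop := ∀ R : Set (Module.End ℤ V), (∀ r ∈ R, ∀ s ∈ R, r * s = s * r) →
  (∀ a : A, ∀ r ∈ R, ∃ s ∈ R, ∀ v, s v = a • r (a⁻¹ • v)) → ∀ r ∈ R, r ≠ 0 → ∀ v, r v = 0 → v = 0

variable {A V} [Finite V]

theorem impr (hirr : Irr A V) {W : AddSubgroup V} (hW : W ≠ ⊥) (hW' : W ≠ ⊤) [Fintype (orbit A W)]
    (hind : ∀ f : orbit A W → V, (∀ ω, f ω ∈ ω.1) → ∑ ω, f ω = 0 → ∀ ω, f ω = 0) : Impr A V := by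
  classical
  choose g hg using fun ω : orbit A W => ω.2
  have hg : ∀ ω, g ω • W = ω := hg
  let h : A → orbit A W → stabilizer A W := fun a ω => ⟨(g ω)⁻¹ * a * g (a⁻¹ • ω), by
    rw [mem_stabilizer_iff, mul_smul, mul_smul, hg, orbit.coe_smul, smul_inv_smul, ← hg, inv_smul_smul]⟩
  letI := subAct (stabilizer A W) W fun a ha v hv => (show a • W = W from ha) ▸ AddSubgroup.smul_mem_pointwise_smul v a W hv
  let Φ : (orbit A W → W) →+ V := ∑ ω, ((DistribSMul.toAddMonoidHom V (g ω)).comp W.subtype).comp (Pi.evalAddMonoidHom _ ω)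
  have h3 : ∀ x, Φ x = ∑ ω, g ω • (x ω).1 := fun x => by simp [Φ]
  have h4 : ∀ a x, a • Φ x = Φ fun ω => h a ω • x (a⁻¹ • ω) := fun a x => by
    rw [h3, h3, Finset.smul_sum, ← Equiv.sum_comp (toPerm a⁻¹)]
    exact Finset.sum_congr rfl fun ω _ => (by simp [mul_smul] : _ = g ω • ((g ω)⁻¹ * a * g (a⁻¹ • ω)) • (x (a⁻¹ • ω)).1)
  have h5 : Function.Injective Φ := (injective_iff_map_eq_zero Φ).2 fun x e => funext fun ω => Subtype.ext
    ((smul_eq_zero_iff_eq (g ω)).1 (hind (fun ω => g ω • (x ω).1)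
      (fun ω => hg ω ▸ AddSubgroup.smul_mem_pointwise_smul _ _ _ (x ω).2) (h3 x ▸ e) ω))
  let ω₀ : orbit A W := ⟨W, mem_orbit_self W⟩
  have h7 : ∀ X : AddSubgroup W, X ≠ ⊥ → Inv (stabilizer A W) X → ∀ v, ∃ x, (∀ ω, x ω ∈ X) ∧ Φ x = v := by
    intro X hX' hX'' v
    obtain ⟨u, hu, hu'⟩ := (AddSubgroup.bot_or_exists_ne_zero X).resolve_left hX'
    obtain ⟨x, hx, e⟩ := ((hirr ((AddSubgroup.pi Set.univ fun _ => X).map Φ) (by
      rintro a _ ⟨x, hx, rfl⟩
      exact ⟨_, fun ω _ => hX'' _ _ (hx _ trivial), (h4 a x).symm⟩)).resolve_left fun e => hu' (by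
        have : Φ (Pi.single ω₀ u) = Φ 0 := by
          rw [map_zero, ← AddSubgroup.mem_bot, ← e]
          exact ⟨_, fun ω _ => by rw [Pi.single_apply]; split_ifs; exacts [hu, X.zero_mem], rfl⟩
        simpa using congrFun (h5 this) ω₀)).ge (AddSubgroup.mem_top v)
    exact ⟨x, fun ω => hx ω trivial, e⟩
  have := (AddSubgroup.nontrivial_iff_ne_bot W).2 hW
  refine ⟨stabilizer A W, W, inferInstance, orbit A W, inferInstance, inferInstance, hW, hW', fun X hX => or_iff_not_imp_left.2 fun e =>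
    eq_top_iff.2 fun v _ => ?_, ?_, fun ι C P κ P1 P2 hκ => ⟨fun i => Φ fun ω => P (κ ω) i, fun a e v => ?_⟩⟩
  · obtain ⟨x, hx, e⟩ := h7 X e hX (Φ (Pi.single ω₀ v))
    simpa [h5 e] using hx ω₀
  · obtain ⟨u, hu⟩ := exists_ne (0 : W)
    have := Nat.card_le_card_of_injective (fun o : Option (orbit A W) => Φ (o.elim 0 (Pi.single · u))) (by
      intro o o' e
      have := h5 e
      rcases o with _ | o <;> rcases o' with _ | o'
      · rfl
      · exact (hu (by simpa using (congrFun this o').symm)).elim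
      · exact (hu (by simpa using congrFun this o)).elim
      · by_contra h; exact hu (by simpa [Pi.single_apply, mt (congrArg some) h] using congrFun this o))
    rwa [Finite.card_option] at this
  have h8 : ∀ ω, h a ω • P (κ (a⁻¹ • ω)) = P (κ ω) := fun ω => funext fun i =>
    congrFun (h5 ((h4 a _).symm.trans (congrFun e i))) ω
  have h9 := hκ a⁻¹ fun ω => P2 _ _ _ (h8 ω)
  obtain ⟨x, -, rfl⟩ := h7 ⊤ top_ne_bot (fun _ _ _ => trivial) v
  rw [h4]
  exact congrArg Φ (funext fun ω => by rw [P1 _ _ (by simpa only [h9] using h8 ω), h9])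

theorem impr_or_quasi [Finite A] [Nontrivial V] (hirr : Irr A V) : Impr A V ∨ Quasi A V := by
  classical
  refine or_iff_not_imp_right.2 fun hq => ?_
  simp only [Quasi, not_forall] at hq
  obtain ⟨R, hc, hR, r₀, hr₀, hq⟩ := hq
  obtain ⟨W, ⟨h1, T, h2, h3⟩, h4⟩ := (Set.toFinite {W : AddSubgroup V | W ≠ ⊥ ∧ ∃ T ⊆ R,
    ∀ v, v ∈ W ↔ ∀ r ∈ T, r v = 0}).exists_minimal ⟨⊤, by simp, ∅, by simp⟩
  have h5 : ∀ r ∈ R, (∀ v ∈ W, r v = 0) ∨ ∀ v ∈ W, r v = 0 → v = 0 := fun r hr => by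
    refine or_iff_not_imp_right.2 fun h v hv => (h4 (y := W ⊓ r.toAddMonoidHom.ker) ⟨fun e => h fun v hv h' =>
      AddSubgroup.mem_bot.1 (e ▸ ⟨hv, h'⟩), insert r T, Set.insert_subset hr h2, fun v => ?_⟩ inf_le_left hv).2
    simp [h3, and_comm]
  have hW : W ≠ ⊤ := by
    rintro rfl
    obtain ⟨h, v, h', h''⟩ := hq
    exact h'' ((h5 r₀ hr₀).resolve_left (fun h' => h (LinearMap.ext fun v => h' v trivial)) v trivial h')
  have := Fintype.ofFinite (orbit A W)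
  have h6 : ∀ ω : orbit A W, ∃ T ⊆ R, ∀ v, v ∈ ω.1 ↔ ∀ r ∈ T, r v = 0 := by
    rintro ⟨_, a, rfl⟩
    refine ⟨{s ∈ R | ∃ r ∈ T, ∀ v, s v = a • r (a⁻¹ • v)}, Set.sep_subset _ _, fun v => ?_⟩
    rw [AddSubgroup.mem_pointwise_smul_iff_inv_smul_mem, h3]
    refine ⟨fun h s ⟨_, r, hr, e⟩ => by rw [e, h r hr, smul_zero], fun h r hr => ?_⟩
    obtain ⟨s, hs, e⟩ := hR a r (h2 hr)
    exact (smul_eq_zero_iff_eq a).1 ((e v).symm.trans (h s ⟨hs, r, hr, e⟩))
  have h7 : ∀ ω : orbit A W, ∀ r ∈ R, (∀ v ∈ ω.1, r v = 0) ∨ ∀ v ∈ ω.1, r v = 0 → v = 0 := by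
    rintro ⟨_, a, rfl⟩ r hr
    obtain ⟨s, hs, e⟩ := hR a⁻¹ r hr
    simp only [AddSubgroup.mem_pointwise_smul_iff_inv_smul_mem]
    exact (h5 s hs).imp (fun h v hv => by simpa [e, smul_eq_zero_iff_eq] using h _ hv) fun h v hv h' => by
      simpa [e, h', smul_eq_zero_iff_eq] using h _ hv
  have h8 : ∀ ω : orbit A W, Nat.card ω.1 = Nat.card W := by
    rintro ⟨_, a, rfl⟩
    exact AddSubgroup.card_map_of_injective (MulAction.injective a)
  refine impr hirr h1 hW fun f hf e ω => ?_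
  suffices ∀ s : Finset (orbit A W), ω ∉ s → ∀ f : orbit A W → V, (∀ ω, f ω ∈ ω.1) → f ω + ∑ x ∈ s, f x = 0 → f ω = 0 from
    this (Finset.univ.erase ω) (by simp) f hf (by rwa [Finset.add_sum_erase _ _ (Finset.mem_univ _)])
  intro s
  induction s using Finset.induction_on with
  | empty => simp
  | insert x s hx ih =>
    intro hω f hf e
    obtain ⟨T, h2, h3⟩ := h6 x
    obtain ⟨r, hr, h9⟩ : ∃ r ∈ T, ∀ v ∈ ω.1, r v = 0 → v = 0 := by
      by_contra! h
      refine hω (Finset.mem_insert.2 (.inl (Subtype.ext (AddSubgroup.eq_of_le_of_card_ge (fun v hv => (h3 v).2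
        fun r hr => (h7 ω r (h2 hr)).resolve_right (by simpa using h r hr) v hv) (by rw [h8, h8])))))
    refine h9 _ (hf ω) (ih (fun h => hω (Finset.mem_insert_of_mem h)) (fun y => r (f y)) (fun y => ?_) ?_)
    · obtain ⟨T', h2', h3'⟩ := h6 y
      exact (h3' _).2 fun s hs => by
        rw [← Module.End.mul_apply, hc s (h2' hs) r (h2 hr), Module.End.mul_apply, (h3' _).1 (hf y) s hs, map_zero]
    · simpa [Finset.sum_insert hx, (h3 _).1 (hf x) r hr] using congrArg r e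

end Cfsg.Agent.H33
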