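import Cfsg.Agent.H33.OutC
import Cfsg.Agent.H99.FixSolv
import Cfsg.Agent.H11.BaseDefs2

/-! Base sizes of solvable linear groups, outer induction, part D: the quasi-primitive case. -/

namespace Cfsg.Agent.H33
universe u
open MulAction Subgroup commutatorElement

variable (A V : Type u) [Group A] [AddCommGroup V] [DistribMulAction A V]

/-- conjugation of endomorphisms -/
noncomputable def cjE : A →* ConjAct (Module.End ℤ V)ˣ :=
  ConjAct.toConjAct.toMonoidHom.comp (DistribMulAction.toModuleEnd ℤ V (S := A)).toHomUnits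

variable {A V}
theorem cjE_apply (a : A) (r : Module.End ℤ V) (v : V) : (cjE A V a • r) v = a • r (a⁻¹ • v) := rfl

omit [Group A] [DistribMulAction A V] in
theorem clos_comm {T : Set (Module.End ℤ V)} {x : Module.End ℤ V} (h : ∀ t ∈ T, t * x = x * t) :
    ∀ r ∈ Subring.closure T, r * x = x * r := fun r hr =>
  ((Subring.closure_le (t := Subring.centralizer {x})).2 (by rintro t ht _ rfl; exact (h t ht).symm) hr x rfl).symm

theorem Quasi.dom [Nontrivial V] (hq : Quasi A V) {T : Set (Module.End ℤ V)} (hc : ∀ r ∈ T, ∀ s ∈ T, r * s = s * r)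
    (hT : ∀ a, ∀ r ∈ T, cjE A V a • r ∈ T) : (∀ r s : Subring.closure T, r * s = s * r) ∧
    (∀ a, ∀ r ∈ Subring.closure T, cjE A V a • r ∈ Subring.closure T) ∧ IsDomain (Subring.closure T) := by
  have h1 : ∀ r ∈ Subring.closure T, ∀ s ∈ Subring.closure T, r * s = s * r := fun r hr s hs =>
    clos_comm (fun t ht => (clos_comm (fun t' ht' => hc t' ht' t ht) s hs).symm) r hr
  have h2 : ∀ a, ∀ r ∈ Subring.closure T, cjE A V a • r ∈ Subring.closure T := fun a r hr =>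
    (Subring.closure_le (t := (Subring.closure T).comap (MulSemiringAction.toRingHom _ (Module.End ℤ V) (cjE A V a)))).2
      (fun r hr => Subring.subset_closure (hT a r hr)) hr
  have : NoZeroDivisors (Subring.closure T) := ⟨fun {r s} e => or_iff_not_imp_left.2 fun h => Subtype.ext
    (LinearMap.ext fun v => hq _ h1 (fun a r hr => ⟨_, h2 a r hr, fun _ => rfl⟩) r r.2 (fun e => h (Subtype.ext e)) _
      (LinearMap.congr_fun (congrArg Subtype.val e) v))⟩
  exact ⟨fun r s => Subtype.ext (h1 r r.2 s s.2), h2, NoZeroDivisors.to_isDomain _⟩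

variable [Finite A] [Finite V]

theorem Quasi.heis [FaithfulSMul A V] [Nontrivial V] (hq : Quasi A V) (hA : Group.IsSolvable A) :
    ∃ (K B : Type u) (_ : Field K) (_ : Finite K) (_ : Group B) (_ : Finite B) (_ : Module K V)
      (_ : DistribMulAction B V) (H : H11.Heis K B V A), ∀ g, H.α g = 1 → ∃ k : K, ∀ v : V, g • v = k • v := by
  obtain ⟨N, hN, h1, h2⟩ := H99.exists_class_two_selfCent A
  let ρ := DistribMulAction.toModuleEnd ℤ V (S := A)
  let U := N ⊓ centralizer (N : Set A)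
  let R := Subring.closure (ρ '' U)
  obtain ⟨h3, h4, h5⟩ := hq.dom (T := ρ '' U) (by
    rintro _ ⟨u, hu, rfl⟩ _ ⟨u', hu', rfl⟩; rw [← map_mul, hu'.2 u hu.1, map_mul]) (by
    rintro a _ ⟨u, hu, rfl⟩
    exact ⟨_, (inferInstance : U.Normal).conj_mem u hu a, by rw [map_mul, map_mul]; rfl⟩)
  letI : CommRing R := { (inferInstance : Ring R) with mul_comm := h3 }
  have : Finite (Module.End ℤ V) := DFunLike.finite _
  have : Finite (V ≃ₗ[ℤ] V) := DFunLike.finite _
  letI := (Finite.isField_of_domain R).toField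
  have hl : ∀ n ∈ N, ∀ (k : R) (v : V), n • k • v = k • n • v := fun n hn k v => (LinearMap.congr_fun (clos_comm (x := ρ n) (by
    rintro _ ⟨u, hu, rfl⟩; rw [← map_mul, ← hu.2 n hn, map_mul]) k k.2) v).symm
  have h6 : ∀ g, (∀ x ∈ N, Commute g x) → ∃ k : R, ∀ v : V, g • v = k • v := fun g hg =>
    ⟨⟨ρ g, Subring.subset_closure ⟨g, ⟨h2 g hg, fun x hx => (hg x hx).symm⟩, rfl⟩⟩, fun _ => rfl⟩
  have h7 : ∀ {b : V ≃ₗ[ℤ] V} {k : R} {n : A}, (∀ v, b v = k • n • v) → k ≠ 0 := fun {b k n} h e =>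
    let ⟨v, hv⟩ := exists_ne (0 : V); hv (b.map_eq_zero_iff.1 (by rw [h, e, zero_smul]))
  let B : Subgroup (V ≃ₗ[ℤ] V) := ⟨⟨⟨{b | ∃ n ∈ N, ∃ k : R, ∀ v, b v = k • n • v},
    by
    rintro _ _ ⟨n, hn, k, h⟩ ⟨n', hn', k', h'⟩
    exact ⟨_, mul_mem hn hn', k * k', fun v => by
      rw [LinearEquiv.mul_apply, h, h', hl n hn, mul_smul, mul_smul]⟩⟩, 1, one_mem _, 1, by simp⟩, by
    rintro b ⟨n, hn, k, h⟩
    exact ⟨_, inv_mem hn, k⁻¹, fun v => b.symm_apply_eq.2 (by rw [h, hl n hn, smul_inv_smul₀ (h7 h), smul_inv_smul])⟩⟩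
  let σ := DistribMulAction.toModuleAut ℤ V (S := A)
  let α := B.normalizerMonoidHom.comp (σ.codRestrict _ fun g => mem_normalizer_fintype (by
    rintro b ⟨n, hn, k, h⟩
    exact ⟨_, hN.conj_mem n hn g, ⟨_, h4 g k k.2⟩, fun v => (congrArg (g • ·) (h (g⁻¹ • v))).trans (by
      change _ = g • k • g⁻¹ • (g * n * g⁻¹) • v; simp [mul_smul])⟩))
  have h8 : ∀ g (b : B) (v : V), α g b • v = g • b • g⁻¹ • v := fun _ _ _ => rfl
  let sc : Rˣ →* B := (DistribMulAction.toModuleAut ℤ V (S := Rˣ)).codRestrict B fun k => ⟨1, one_mem _, k, by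
    simp [Units.smul_def]⟩
  have h9 : ∀ (b : B) (k : R), (∀ v : V, b • v = k • v) → ∃ k, b = sc k := fun b k h =>
    ⟨Units.mk0 k (h7 (b := b) (n := 1) fun v => (h v).trans (by simp)), Subtype.ext (LinearEquiv.ext h)⟩
  have h10 : ∀ n ∈ N, σ n ∈ B := fun n hn => ⟨n, hn, 1, by simp [σ]⟩
  refine ⟨R, B, inferInstance, inferInstance, inferInstance, inferInstance, inferInstance, inferInstance,
    ⟨sc, fun _ _ => rfl, fun b k' v => ?_,
    fun b h => Subtype.ext (LinearEquiv.ext h), fun b c => ?_, fun b h' => ?_, exists_ne 0, α,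
    fun g b v => by rw [h8, inv_smul_smul], fun D h h' => ?_⟩, fun g hg => h6 g fun x hx => ?_⟩
  · obtain ⟨n, hn, k, h⟩ := b.2
    exact (h _).trans (by rw [hl n hn, smul_comm]; exact congrArg _ (h v).symm)
  · obtain ⟨n, hn, k, h⟩ := b.2
    obtain ⟨n', hn', k', h'⟩ := c.2
    obtain ⟨l, hl'⟩ := h6 _ (h1 n hn n' hn')
    obtain ⟨l', e⟩ := h9 (b * c * (c * b)⁻¹) l fun v => by
      obtain ⟨v, rfl⟩ := (toPerm (c * b)).surjective v
      rw [toPerm_apply, mul_smul, inv_smul_smul, ← hl']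
      change b.1 (c.1 v) = _ • c.1 (b.1 v)
      have := hl ⁅n, n'⁆ (mul_mem (hN.conj_mem n' hn' n) (inv_mem hn'))
      rw [h, h', h', h, hl n hn, hl n' hn', this, this, smul_comm]
      simp [mul_smul, commutatorElement_def]
    exact ⟨l', mul_inv_eq_iff_eq_mul.1 e⟩
  · obtain ⟨n, hn, k, h⟩ := b.2
    obtain ⟨l, hl'⟩ := h6 n fun x hx => eq_of_smul_eq_smul (α := V) fun v => by
      have : b.1 (x • v) = x • b.1 v := LinearEquiv.congr_fun (congrArg Subtype.val (h' ⟨_, h10 x hx⟩)) v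
      rw [h, h, hl x hx] at this
      simpa [mul_smul] using smul_right_injective V (h7 h) this
    exact h9 _ (k * l) fun v => (h v).trans (by rw [hl', mul_smul])
  · let f := DistribMulAction.toModuleEnd ℤ V (S := B)
    obtain ⟨h3, -, h5⟩ := hq.dom (T := f '' D) (by
      rintro _ ⟨u, hu, rfl⟩ _ ⟨u', hu', rfl⟩; rw [← map_mul, h' u hu u' hu', map_mul]) (by
      rintro a _ ⟨u, hu, rfl⟩; exact ⟨_, h a u hu, rfl⟩)
    letI : CommRing (Subring.closure (f '' D)) := { (inferInstance : Ring _) with mul_comm := h3 }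
    exact isCyclic_of_injective_ringHom ((f.comp D.subtype).codRestrict (Subring.closure (f '' D))
      fun d => Subring.subset_closure ⟨_, d.2, rfl⟩) fun a b e =>
      Subtype.ext (Subtype.ext (LinearEquiv.ext (LinearMap.congr_fun (congrArg Subtype.val e))))
  · exact eq_of_smul_eq_smul (α := V) fun v => by
      have := h8 g ⟨_, h10 x hx⟩ (g • v)
      rw [hg, inv_smul_smul] at this
      rw [mul_smul, mul_smul]; exact this.symm

omit [Finite A] [Finite V] in
theorem reg_of_scalar {ι K : Type*} [Nonempty ι] [Field K] [Module K V] [Nontrivial V] {t : ι → V}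
    (h : ∀ g : A, g • t = t → ∃ k : K, ∀ v : V, g • v = k • v) : ∃ t : ι → V, Reg A t := by
  have h1 : ∀ (g : A) (k : K) (w : V), w ≠ 0 → g • w = w → (∀ v : V, g • v = k • v) → ∀ v : V, g • v = v :=
    fun g k w hw e h v => by
    rw [h, show k = 1 from smul_left_injective K hw ((h w).symm.trans (e.trans (one_smul K w).symm)), one_smul]
  by_cases h2 : t = 0
  · obtain ⟨w, hw⟩ := exists_ne (0 : V)
    exact ⟨fun _ => w, fun g e => let ⟨k, hk⟩ := h g (by simp [h2]); h1 g k w hw (congrFun e (Classical.arbitrary ι)) hk⟩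
  · obtain ⟨i, hi⟩ := Function.ne_iff.1 h2
    exact ⟨t, fun g e => let ⟨k, hk⟩ := h g e; h1 g k _ hi (congrFun e i) hk⟩

theorem base_three (h3 : H11.HeisBase3.{u}) : ∀ n, BaseT.{u} (Fin 3) False n := baseT_ind fun A V _ _ _ _ _ _ _ hn hA _ hi => by
  have : Fact (Nat.Prime 5) := ⟨by norm_num⟩
  obtain ⟨H, W, _, Ω, _, _, h1, h2, h4, h5, h6⟩ | hq := impr_or_quasi hi
  · obtain ⟨t, ht⟩ := hn H W (lt_of_le_of_ne W.card_le_card_addGroup fun e => h2 (W.eq_top_of_card_eq e))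
      inferInstance False.elim h4.cr
    have := (AddSubgroup.nontrivial_iff_ne_bot W).2 h1
    obtain ⟨P, P1, P2⟩ := many_three inferInstance ht
    obtain ⟨κ, hκ⟩ := colour (mc_big le_rfl hn 1) _ A Ω rfl h5 hA (Nat.coprime_one_right _)
    exact h6 _ _ P κ P1 P2 hκ
  obtain ⟨K, B, _, _, _, _, _, _, H, h⟩ := hq.heis hA
  obtain ⟨x, y, z, h1⟩ := h3 K B V A H
  exact reg_of_scalar (t := ![x, y, z]) fun g e => h g (h1 g (congrFun e 0) (congrFun e 1) (congrFun e 2))

theorem base_two (h3 : H11.HeisBase3.{u}) (h2 : H11.HeisBase2.{u}) : ∀ n, BaseT.{u} (Fin 2) True n :=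
  baseT_ind fun A V _ _ _ _ _ _ _ hn hA hc hi => by
  have hc := hc trivial
  obtain ⟨p, hp, h1⟩ := Nat.exists_prime_and_dvd (Finite.one_lt_card (α := V)).ne'
  have := Fact.mk hp
  have hp' := hc.coprime_dvd_right h1
  have h4 : ∀ v : V, p • v = 0 := fun v => by
    obtain ⟨w, hw⟩ := exists_prime_addOrderOf_dvd_card' p h1
    refine ((hi (nsmulAddMonoidHom p).ker fun a v hv => ?_).resolve_left fun e => hp.ne_one ?_).ge (AddSubgroup.mem_top v)
    · exact (smul_comm p a v).trans ((congrArg _ hv).trans (smul_zero a))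
    · rw [← hw, AddMonoid.addOrderOf_eq_one_iff]
      exact AddSubgroup.mem_bot.1 (e ▸ (hw ▸ addOrderOf_nsmul_eq_zero w : p • w = 0))
  by_cases h5 : p = 2
  · obtain ⟨v, w, h⟩ := base_all _ A V (Nat.lt_succ_self _) (Nat.coprime_two_right.1 (h5 ▸ hp')) hi.cr
    exact ⟨![v, w], fun a e => h a (congrFun e 0) (congrFun e 1)⟩
  obtain ⟨H, W, _, Ω, _, _, h1, h2, h7, h8, h6⟩ | hq := impr_or_quasi hi
  · obtain ⟨t, ht⟩ := hn H W (lt_of_le_of_ne W.card_le_card_addGroup fun e => h2 (W.eq_top_of_card_eq e))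
      inferInstance (fun _ => (hc.coprime_dvd_left H.card_subgroup_dvd_card).coprime_dvd_right
      W.card_addSubgroup_dvd_card) h7.cr
    have := (AddSubgroup.nontrivial_iff_ne_bot W).2 h1
    obtain ⟨P, P1, P2⟩ := many_two p (fun w => Subtype.ext (h4 w)) (hp'.coprime_dvd_left H.card_subgroup_dvd_card) ht
    obtain ⟨κ, hκ⟩ := colour (q := p) (m := p) (by
      by_cases h : p = 3
      · subst h; exact mc_three (base_three h3 _)
      · exact mc_big (hp.five_le_of_ne_two_of_ne_three h5 h) (base_three h3 _) p) _ A Ω rfl h8 hA hp'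
    exact h6 _ _ P κ P1 P2 hκ
  obtain ⟨K, B, _, _, _, _, _, _, H, h⟩ := hq.heis hA
  obtain ⟨x, y, h1⟩ := h2 K B V A H (fun e => h5 (by
    obtain ⟨v, hv⟩ := exists_ne (0 : V)
    rw [← addOrderOf_eq_prime (h4 v) hv, addOrderOf_eq_prime (by rw [← Nat.cast_smul_eq_nsmul K, Nat.cast_two, e,
      zero_smul]) hv])) (hc.coprime_dvd_right (by
    rw [Module.natCard_eq_pow_finrank (K := K) (V := V)]; exact dvd_pow_self _ Module.finrank_pos.ne'))
  exact reg_of_scalar (t := ![x, y]) fun g e => h g (h1 g (congrFun e 0) (congrFun e 1))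

theorem base2Mod_of (h3 : H11.HeisBase3.{u}) (h2 : H11.HeisBase2.{u}) : H11.Base2Mod.{u} :=
  fun A V _ _ _ _ _ hA hc hi => let ⟨t, h⟩ := base_two h3 h2 _ A V (Nat.lt_succ_self _) hA (fun _ => hc) (Irr.cr hi)
    ⟨t 0, t 1, fun g e e' => h g (funext (Fin.forall_fin_two.2 ⟨e, e'⟩))⟩

theorem s4374_of (h3 : H11.HeisBase3.{u}) {A : Type*} {V : Type u} [Group A] [Finite A]
    [AddCommGroup V] [Finite V] [DistribMulAction A V] [FaithfulSMul A V] (hA : Group.IsSolvable A)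
    (hcr : (∀ U : AddSubgroup V, (∀ a : A, ∀ v ∈ U, a • v ∈ U) → ∃ W : AddSubgroup V, (∀ a : A, ∀ w ∈ W, a • w ∈ W) ∧
      U ⊓ W = ⊥ ∧ U ⊔ W = ⊤)) : ∃ v₁ v₂ v₃ : V, ∀ a : A, a • v₁ = v₁ → a • v₂ = v₂ → a • v₃ = v₃ → a = 1 := by
  let ρ := DistribMulAction.toModuleAut ℤ V (S := A)
  have : Finite ρ.range := .of_surjective _ ρ.rangeRestrict_surjective
  obtain ⟨t, h⟩ := base_three h3 _ ρ.range V (Nat.lt_succ_self _)
    (Group.isSolvable_of_surjective ρ.rangeRestrict_surjective) False.elim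
    fun U hU => let ⟨W, h1, h2⟩ := hcr U fun a => hU ⟨_, a, rfl⟩
      ⟨W, by rintro ⟨_, a, rfl⟩; exact h1 a, h2⟩
  exact ⟨t 0, t 1, t 2, fun a h1 h2 h3 => eq_of_smul_eq_smul (α := V) fun x => (h ⟨_, a, rfl⟩ (funext fun i => by
    fin_cases i; exacts [h1, h2, h3]) x).trans (one_smul A x).symm⟩

end Cfsg.Agent.H33
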