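import Mathlib

/-! Base size two for odd order linear groups, part A: complete reducibility, transport of the
induction hypothesis to invariant subgroups and to abelian sections of groups. -/

namespace Cfsg.Agent.H33
universe u

section
variable (A : Type*) {V : Type*} [Group A] [AddCommGroup V] [DistribMulAction A V]

/-- invariant subgroup -/
def Inv (U : AddSubgroup V) : Prop := ∀ a : A, ∀ v ∈ U, a • v ∈ U

variable (V) in
/-- complete reducibility -/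
def CR : Prop := ∀ U : AddSubgroup V, Inv A U → ∃ W, Inv A W ∧ U ⊓ W = ⊥ ∧ U ⊔ W = ⊤

variable (V) in
/-- a regular pair -/
def HasBase : Prop := ∃ v w : V, ∀ a : A, a • v = v → a • w = w → ∀ x : V, a • x = x

variable {A}
theorem Inv.inf {U W : AddSubgroup V} (h : Inv A U) (h' : Inv A W) : Inv A (U ⊓ W) :=
  fun a v hv => ⟨h a v hv.1, h' a v hv.2⟩

theorem Inv.sup {U W : AddSubgroup V} (h : Inv A U) (h' : Inv A W) : Inv A (U ⊔ W) := fun a v hv => by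
  obtain ⟨x, hx, y, hy, rfl⟩ := AddSubgroup.mem_sup.1 hv
  rw [smul_add]
  exact add_mem (AddSubgroup.mem_sup_left (h a x hx)) (AddSubgroup.mem_sup_right (h' a y hy))

theorem cr_of_gen [Finite V] (h : ∀ Z : AddSubgroup V, Inv A Z → Z ≠ ⊤ → ∃ Y, Inv A Y ∧ ¬ Y ≤ Z ∧
    ∀ X, Inv A X → X ≤ Y → X = ⊥ ∨ X = Y) : CR A V := fun U hU => by
  obtain ⟨W, ⟨h1, h2⟩, h3⟩ := (Set.toFinite {W : AddSubgroup V | Inv A W ∧ U ⊓ W = ⊥}).exists_maximal
    ⟨⊥, fun a v hv => by simp_all, by simp⟩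
  refine ⟨W, h1, h2, by_contra fun h4 => ?_⟩
  obtain ⟨Y, h5, h6, h7⟩ := h _ (hU.sup h1) h4
  have h8 := (h7 _ ((hU.sup h1).inf h5) inf_le_right).resolve_right fun e => h6 (e ▸ inf_le_left)
  refine h6 ((le_sup_right.trans (h3 (y := W ⊔ Y) ⟨h1.sup h5, eq_bot_iff.2 ?_⟩ le_sup_left)).trans le_sup_right)
  rintro x ⟨hx, hx'⟩
  obtain ⟨w, hw, y, hy, rfl⟩ := AddSubgroup.mem_sup.1 hx'
  have : y = 0 := AddSubgroup.mem_bot.1 (h8 ▸ ⟨by
    simpa using sub_mem (AddSubgroup.mem_sup_left (T := W) hx) (AddSubgroup.mem_sup_right (S := U) hw), hy⟩)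
  exact h2 ▸ ⟨hx, by simpa [this] using hw⟩

/-- the action of a subgroup on an invariant subgroup -/
@[reducible] def subAct (H : Subgroup A) (W : AddSubgroup V) (h : ∀ a ∈ H, ∀ v ∈ W, a • v ∈ W) : DistribMulAction H W where
  smul a v := ⟨a.1 • v.1, h a a.2 v v.2⟩
  one_smul v := Subtype.ext (one_smul A v.1)
  mul_smul a b v := Subtype.ext (mul_smul a.1 b.1 v.1)
  smul_zero a := Subtype.ext (smul_zero a.1)
  smul_add a v w := Subtype.ext (smul_add a.1 v.1 w.1)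
end

/-- the induction hypothesis -/
def Base (n : ℕ) : Prop := ∀ (A V : Type u) [Group A] [Finite A] [AddCommGroup V] [Finite V]
  [DistribMulAction A V], Nat.card V < n → Odd (Nat.card A) → CR A V → HasBase A V

theorem Base.sub {n : ℕ} (hn : Base.{u} n) {A V : Type u} [Group A] [Finite A] [AddCommGroup V] [Finite V]
    [DistribMulAction A V] (hA : Odd (Nat.card A)) (H : Subgroup A) (W : AddSubgroup V) (hW : Nat.card W < n)
    (h : ∀ a ∈ H, ∀ v ∈ W, a • v ∈ W) (hcr : ∀ X ≤ W, (∀ a ∈ H, ∀ v ∈ X, a • v ∈ X) →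
      ∃ Y : AddSubgroup V, (∀ a ∈ H, ∀ v ∈ Y, a • v ∈ Y) ∧ X ⊓ Y = ⊥ ∧ W ≤ X ⊔ Y) :
    ∃ v ∈ W, ∃ w ∈ W, ∀ a ∈ H, a • v = v → a • w = w → ∀ x ∈ W, a • x = x := by
  letI := subAct H W h
  obtain ⟨v, w, h1⟩ := hn H W hW (hA.of_dvd_nat H.card_subgroup_dvd_card) fun X hX => by
    obtain ⟨Y, h1, h2, h3⟩ := hcr (X.map W.subtype) (AddSubgroup.map_subtype_le _) (by
      rintro a ha _ ⟨v, hv, rfl⟩; exact ⟨_, hX ⟨a, ha⟩ v hv, rfl⟩)
    refine ⟨Y.addSubgroupOf W, fun a v hv => h1 a a.2 v hv, eq_bot_iff.2 fun x hx => ?_, eq_top_iff.2 fun x _ => ?_⟩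
    · exact Subtype.ext (AddSubgroup.mem_bot.1 (h2 ▸ ⟨⟨x, hx.1, rfl⟩, hx.2⟩))
    · obtain ⟨_, ⟨y, hy, rfl⟩, z, hz, e⟩ := AddSubgroup.mem_sup.1 (h3 x.2)
      refine AddSubgroup.mem_sup.2 ⟨y, hy, x - y, ?_, by simp⟩
      simpa [AddSubgroup.mem_addSubgroupOf, ← e] using hz
  exact ⟨v, v.2, w, w.2, fun a ha h2 h3 x hx => congrArg Subtype.val
    (h1 ⟨a, ha⟩ (Subtype.ext h2) (Subtype.ext h3) ⟨x, hx⟩)⟩

section
variable {G : Type*} [Group G] (K L N : Subgroup G)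

/-- `K` normalizes `X` -/
def Nz (X : Subgroup G) : Prop := ∀ k ∈ K, ∀ x ∈ X, k * x * k⁻¹ ∈ X

/-- an abelian section `N / L` normalized by `K` -/
structure Sec : Prop where
  le : L ≤ N
  nL : Nz K L
  nN : Nz K N
  comm : ∀ x ∈ N, ∀ y ∈ N, x * y * x⁻¹ * y⁻¹ ∈ L

variable {K L N}
theorem Sec.normal (h : Sec K L N) : (L.subgroupOf N).Normal :=
  ⟨fun x hx y => by simpa [Subgroup.mem_subgroupOf] using mul_mem (h.comm y y.2 x x.2) hx⟩

/-- the section as an additive group -/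
def Sec.M (_ : Sec K L N) : Type _ := Additive (N ⧸ L.subgroupOf N)

noncomputable instance (h : Sec K L N) : AddCommGroup h.M :=
  letI := h.normal
  letI : CommGroup (N ⧸ L.subgroupOf N) := { (inferInstance : Group (N ⧸ L.subgroupOf N)) with
    mul_comm := fun x y => by
      obtain ⟨x, rfl⟩ := QuotientGroup.mk_surjective x
      obtain ⟨y, rfl⟩ := QuotientGroup.mk_surjective y
      rw [← QuotientGroup.mk_mul, ← QuotientGroup.mk_mul, QuotientGroup.eq]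
      simpa [Subgroup.mem_subgroupOf, mul_assoc] using h.comm _ (inv_mem y.2) _ (inv_mem x.2) }
  inferInstanceAs (AddCommGroup (Additive (N ⧸ L.subgroupOf N)))

instance [Finite G] (h : Sec K L N) : Finite h.M := inferInstanceAs (Finite (N ⧸ L.subgroupOf N))

theorem Sec.card (h : Sec K L N) : Nat.card h.M = L.relIndex N := rfl

/-- the projection -/
noncomputable def Sec.π (h : Sec K L N) : N →* Multiplicative h.M := letI := h.normal; QuotientGroup.mk' (L.subgroupOf N)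

/-- the projection -/
noncomputable def Sec.p (h : Sec K L N) (x : N) : h.M := (h.π x).toAdd

theorem Sec.p_surj (h : Sec K L N) (v : h.M) : ∃ x, h.p x = v := QuotientGroup.mk_surjective v
theorem Sec.p_mul (h : Sec K L N) (x y : N) : h.p (x * y) = h.p x + h.p y := rfl
theorem Sec.p_inv (h : Sec K L N) (x : N) : h.p x⁻¹ = -h.p x := rfl
theorem Sec.p_eq (h : Sec K L N) {x y : N} : h.p x = h.p y ↔ x.1 * y.1⁻¹ ∈ L :=
  letI := h.normal; QuotientGroup.eq_iff_div_mem.trans (by simp [Subgroup.mem_subgroupOf, div_eq_mul_inv])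
theorem Sec.p_eq_zero (h : Sec K L N) {x : N} : h.p x = 0 ↔ x.1 ∈ L :=
  (h.p_eq (y := 1)).trans (by simp)

/-- conjugation -/
def Sec.cj (h : Sec K L N) (k : K) : N →* N where
  toFun x := ⟨k * x * k.1⁻¹, h.nN k k.2 x x.2⟩
  map_one' := by simp
  map_mul' x y := Subtype.ext (by simp [mul_assoc])

/-- conjugation -/
noncomputable def Sec.cq (h : Sec K L N) (k : K) : Multiplicative h.M →* Multiplicative h.M :=
  letI := h.normal
  QuotientGroup.map (L.subgroupOf N) (L.subgroupOf N) (h.cj k) (fun x hx => h.nL k k.2 x hx)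

noncomputable instance (h : Sec K L N) : DistribMulAction K h.M :=
  { smul k v := (h.cq k (.ofAdd v)).toAdd
    one_smul v := by
      obtain ⟨x, rfl⟩ := h.p_surj v
      exact congrArg h.p (Subtype.ext (by simp [Sec.cj]) : h.cj 1 x = x)
    mul_smul a b v := by
      obtain ⟨x, rfl⟩ := h.p_surj v
      exact congrArg h.p (Subtype.ext (by simp [Sec.cj, mul_assoc]) : h.cj (a * b) x = h.cj a (h.cj b x))
    smul_zero a := map_one (h.cq a)
    smul_add a v w := map_mul (h.cq a) (.ofAdd v) (.ofAdd w) }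

theorem Sec.smul_p (h : Sec K L N) (k : K) (x : N) : k • h.p x = h.p (h.cj k x) := rfl

theorem Sec.smul_p_eq (h : Sec K L N) {k : K} {x : N} : k • h.p x = h.p x ↔ k.1 * x * k.1⁻¹ * x.1⁻¹ ∈ L := h.p_eq

theorem Sec.cr [Finite G] (h : Sec K L N) (hg : ∀ Z, Nz K Z → L ≤ Z → Z < N → ∃ Y ≤ N, Nz K Y ∧ ¬ Y ≤ Z ∧
    ∀ X ≤ Y, Nz K X → L ⊓ Y ≤ X → X ≤ L ∨ X = Y) : CR K h.M := by
  let c : AddSubgroup h.M → Subgroup G := fun Z => (Z.toSubgroup.comap h.π).map N.subtype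
  have c1 : ∀ Z (x : N), x.1 ∈ c Z ↔ h.p x ∈ Z := fun Z x =>
    ⟨fun ⟨y, hy, e⟩ => (Subtype.ext e : y = x) ▸ hy, fun hx => ⟨x, hx, rfl⟩⟩
  have c2 : ∀ Z, Inv K Z → Nz K (c Z) := by
    rintro Z hZ k hk _ ⟨x, hx, rfl⟩
    exact (c1 Z (h.cj ⟨k, hk⟩ x)).2 (hZ ⟨k, hk⟩ _ hx)
  have c3 : ∀ Z, L ≤ c Z := fun Z x hx => (c1 Z ⟨x, h.le hx⟩).2 (by rw [h.p_eq_zero.2 hx]; exact zero_mem _)
  refine cr_of_gen fun Z hZ hZ' => ?_
  obtain ⟨Y, h1, h2, h3, h4⟩ := hg (c Z) (c2 Z hZ) (c3 Z) (lt_of_le_of_ne (Subgroup.map_subtype_le _) fun e => hZ'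
    (eq_top_iff.2 fun v _ => by obtain ⟨x, rfl⟩ := h.p_surj v; exact (c1 Z x).1 (e.ge x.2)))
  refine ⟨((Y.subgroupOf N).map h.π).toAddSubgroup', ?_, fun h5 => h3 fun y hy =>
    (c1 Z ⟨y, h1 hy⟩).2 (h5 ⟨⟨y, h1 hy⟩, hy, rfl⟩), fun X hX h5 => ?_⟩
  · rintro k _ ⟨x, hx, rfl⟩
    exact ⟨h.cj k x, h2 k k.2 x hx, rfl⟩
  refine (h4 (c X ⊓ Y) inf_le_right (fun k hk x hx => ⟨c2 X hX k hk x hx.1, h2 k hk x hx.2⟩)
    (inf_le_inf_right _ (c3 X))).imp (fun h6 => eq_bot_iff.2 fun v hv => ?_) fun h6 => le_antisymm h5 ?_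
  · obtain ⟨x, hx, e⟩ := h5 hv
    obtain rfl : h.p x = v := e
    exact h.p_eq_zero.2 (h6 ⟨(c1 X x).2 hv, hx⟩)
  · rintro _ ⟨x, hx, rfl⟩
    exact (c1 X x).1 (h6.ge hx).1
end

theorem Base.sec {n : ℕ} (hn : Base.{u} n) {G : Type u} [Group G] [Finite G] (hG : Odd (Nat.card G))
    {K L N : Subgroup G} (h : Sec K L N) (hc : L.relIndex N < n) (hcr : CR K h.M) :
    ∃ x ∈ N, ∃ y ∈ N, ∀ k ∈ K, k * x * k⁻¹ * x⁻¹ ∈ L → k * y * k⁻¹ * y⁻¹ ∈ L →
      ∀ z ∈ N, k * z * k⁻¹ * z⁻¹ ∈ L := by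
  obtain ⟨v, w, h1⟩ := hn K h.M hc (hG.of_dvd_nat K.card_subgroup_dvd_card) hcr
  obtain ⟨x, rfl⟩ := h.p_surj v
  obtain ⟨y, rfl⟩ := h.p_surj w
  exact ⟨x, x.2, y, y.2, fun k hk h2 h3 z hz => (h.smul_p_eq (k := ⟨k, hk⟩) (x := ⟨z, hz⟩)).1
    (h1 _ (h.smul_p_eq.2 h2) (h.smul_p_eq.2 h3) _)⟩

theorem smul_eq_of_sq {G X : Type*} [Group G] [MulAction G X] (hG : Odd (Nat.card G)) {g : G} {x : X}
    (h : (g * g) • x = x) : g • x = x := by
  obtain ⟨k, hk⟩ := hG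
  have : (g * g) ^ (k + 1) = g := by rw [← sq, ← pow_mul, mul_add, mul_one, add_comm _ 2, show 2 + 2 * k = 2 * k + 1 + 1 by ring,
    pow_succ, ← hk, pow_card_eq_one', one_mul]
  rw [← this]
  exact (MulAction.stabilizer G x).pow_mem h _

end Cfsg.Agent.H33
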