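import Cfsg.Agent.H33.BaseA
import Cfsg.Agent.S0205

/-! Base size two for odd order linear groups, part B: Gluck's permutation lemma and the
imprimitive case. -/

namespace Cfsg.Agent.H33
universe u
open MulAction Pointwise

theorem three_cases {G X : Type*} [Group G] [MulAction G X] (hG : Odd (Nat.card G)) {k : G} {a b c : X}
    (h : ∀ x, k • x ∈ ({a, b, c} : Set X) ↔ x ∈ ({a, b, c} : Set X)) :
    (k • a = a ∧ k • b = b ∧ k • c = c) ∨ ∃ l ∈ Subgroup.zpowers k, l • a = b ∧ l • b = c ∧ l • c = a := by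
  have h1 : ∀ x : X, k • k • x = x → k • x = x := fun x h => smul_eq_of_sq hG (by rwa [mul_smul])
  have h2 : ∀ x y : X, k • x = k • y → x = y := fun x y => smul_left_cancel k
  have ha := (h a).2 (by simp)
  have hb := (h b).2 (by simp)
  have hc := (h c).2 (by simp)
  have : (k • a = a ∧ k • b = b ∧ k • c = c) ∨ (k • a = b ∧ k • b = c ∧ k • c = a) ∨
      (k • b = a ∧ k • c = b ∧ k • a = c) := by
    have := h1 a; have := h1 b; have := h1 c; have := h2 a b; have := h2 a c; have := h2 b c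
    grind
  exact this.imp_right fun h => h.elim (fun h => ⟨k, by simp, h⟩) fun h => ⟨k⁻¹, by simp,
    inv_smul_eq_iff.2 h.1.symm, inv_smul_eq_iff.2 h.2.1.symm, inv_smul_eq_iff.2 h.2.2.symm⟩

theorem gluck_block {n : ℕ} (hn : Base.{u} n) {S Ω : Type u} [Group S] [Finite S] [Finite Ω] [MulAction S Ω]
    (hΩ : Nat.card Ω < n) (hS : Odd (Nat.card S)) {N K : Subgroup S} [hN : N.Normal] [hK : K.Normal]
    (h1 : ∀ X : Subgroup S, X.Normal → X < N → X = ⊥) (h2 : ∀ x ∈ N, ∀ y ∈ N, x * y = y * x) (hNK : N ≤ K) (ω : Ω)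
    (h3 : ∀ k ∈ K, k • ω ∈ orbit N ω) :
    ∃ D ⊆ orbit N ω, ∀ k ∈ K, (∀ x, k • x ∈ D ↔ x ∈ D) → ∀ x ∈ orbit N ω, k • x = x := by
  have h4 : ∀ k : S, k • ω = ω → ∀ u ∈ N, ∀ v ∈ N, k • u • ω = v • ω → k • u⁻¹ • ω = v⁻¹ • ω := fun k hk u hu v hv e => by
    have e1 : k⁻¹ • ω = ω := inv_smul_eq_iff.2 hk.symm
    have e2 : (k * u * k⁻¹)⁻¹ • v • ω = ω := by rw [inv_smul_eq_iff, mul_smul, mul_smul, e1, e]
    rw [← mul_smul, h2 _ (inv_mem (hN.conj_mem u hu k)) v hv, mul_smul, ← eq_inv_smul_iff] at e2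
    simpa [mul_smul, e1] using e2
  have hs : Sec K (N ⊓ stabilizer S ω) N := ⟨inf_le_left, fun k hk x hx => ⟨hN.conj_mem x hx.1 k, by
    obtain ⟨u, hu⟩ := h3 _ (inv_mem hk)
    have hu : u.1 • ω = k⁻¹ • ω := hu
    change (k * x * k⁻¹) • ω = ω
    rw [mul_smul, mul_smul, ← hu, ← mul_smul x, h2 x hx.1 u u.2, mul_smul,
      show x • ω = ω from hx.2, hu, smul_inv_smul]⟩, fun k _ x hx => hN.conj_mem x hx k,
    fun x hx y hy => by simp [h2 x hx y hy]⟩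
  obtain ⟨x, hx, y, hy, h5⟩ := hn.sec hS hs (by
    rw [Subgroup.inf_relIndex_left, Subgroup.relIndex, show (stabilizer S ω).subgroupOf N = stabilizer N ω from rfl,
      index_stabilizer]
    exact (Set.ncard_le_card _).trans_lt hΩ) (hs.cr fun Z hZ _ hZN => by
      obtain ⟨Y, ⟨hY1, hY2, hY3⟩, hY4⟩ := (Set.toFinite {Y : Subgroup S | Y ≤ N ∧ Nz K Y ∧ Y ≠ ⊥}).exists_minimal
        ⟨N, le_rfl, hs.nN, ne_bot_of_gt hZN⟩
      have h6 : ∀ (s : S) X, Nz K X → Nz K (X.map (MulAut.conj s).toMonoidHom) := by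
        rintro s X hX k hk _ ⟨x, hx, rfl⟩
        exact ⟨_, hX _ (hK.conj_mem k hk s⁻¹) x hx, by simp [mul_assoc]⟩
      obtain ⟨s, hs⟩ : ∃ s : S, ¬ Y.map (MulAut.conj s).toMonoidHom ≤ Z := by
        by_contra! h
        exact hY3 (eq_bot_iff.2 fun y hy => h1 _ inferInstance (Z.normalCore_le.trans_lt hZN) ▸
          fun s => h s ⟨y, hy, rfl⟩)
      refine ⟨_, ?_, h6 s Y hY2, hs, fun X hX hX' _ => or_iff_not_imp_left.2 fun h => le_antisymm hX ?_⟩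
      · rintro _ ⟨y, hy, rfl⟩; exact hN.conj_mem y (hY1 hy) s
      have h7 : X.map (MulAut.conj s⁻¹).toMonoidHom ≤ Y := by
        rintro _ ⟨x, hx, rfl⟩
        obtain ⟨y, hy, rfl⟩ := hX hx
        simpa [mul_assoc] using hy
      rintro _ ⟨y, hy, rfl⟩
      obtain ⟨x, hx, rfl⟩ := hY4 (y := X.map (MulAut.conj s⁻¹).toMonoidHom) ⟨h7.trans hY1, h6 _ X hX', fun e =>
        h (by rw [(Subgroup.map_eq_bot_iff_of_injective _ (MulAut.conj s⁻¹).injective).1 e]; exact bot_le)⟩ h7 hy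
      simpa [mul_assoc] using hx)
  have h6 : ∀ k ∈ K, k • ω = ω → k • x • ω = x • ω → k • y • ω = y • ω → ∀ z ∈ orbit N ω, k • z = z := by
    rintro k hk e1 e2 e3 _ ⟨z, rfl⟩
    have e1 : k⁻¹ • ω = ω := inv_smul_eq_iff.2 e1.symm
    have : ∀ z ∈ N, k * z * k⁻¹ * z⁻¹ ∈ N ⊓ stabilizer S ω ↔ k • z • ω = z • ω := fun z hz => by
      rw [Subgroup.mem_inf, and_iff_right (mul_mem (hN.conj_mem z hz k) (inv_mem hz)),
        h2 _ (hN.conj_mem z hz k) _ (inv_mem hz), mem_stabilizer_iff, mul_smul, inv_smul_eq_iff, mul_smul, mul_smul, e1]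
    exact (this z z.2).1 (h5 k hk ((this x hx).2 e2) ((this y hy).2 e3) z z.2)
  have h7 : ∀ y ∈ N, ({ω, x • ω, y • ω} : Set Ω) ⊆ orbit N ω := by
    rintro y hy _ (rfl | rfl | rfl)
    exacts [mem_orbit_self _, ⟨⟨x, hx⟩, rfl⟩, ⟨⟨y, hy⟩, rfl⟩]
  by_contra! h
  obtain ⟨a, ha, a1, a2⟩ := h _ (h7 y hy)
  obtain ⟨b, hb, b1, b2⟩ := h _ (h7 _ (inv_mem hy))
  obtain ⟨a', -, a3, a4, a5⟩ := (three_cases hS a1).resolve_left fun h => by
    obtain ⟨z, hz, e⟩ := a2; exact e (h6 a ha h.1 h.2.1 h.2.2 z hz)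
  obtain ⟨b', -, b3, -, b5⟩ := (three_cases hS b1).resolve_left fun h => by
    obtain ⟨z, hz, e⟩ := b2
    exact e (h6 b hb h.1 h.2.1 (by simpa using h4 b h.1 _ (inv_mem hy) _ (inv_mem hy) h.2.2) z hz)
  have b6 := h4 (x⁻¹ * b') (by rw [mul_smul, b3, inv_smul_smul]) _ (inv_mem hy) _ (inv_mem hx) (by rw [mul_smul, b5])
  simp only [inv_inv] at b6
  have c1 : (x⁻¹ * a' * (x⁻¹ * b')⁻¹) • ω = ω := by
    rw [mul_smul, inv_smul_eq_iff.2 (by rw [mul_smul, b3, inv_smul_smul] : (x⁻¹ * b') • ω = ω).symm, mul_smul, a3,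
      inv_smul_smul]
  have c2 : (x⁻¹ * a' * (x⁻¹ * b')⁻¹) • x • ω = x⁻¹ • ω := by rw [← b6, mul_smul, inv_smul_smul, mul_smul, a5]
  have c3 := h4 _ c1 x hx _ (inv_mem hx) c2
  have c4 : x • ω = ω := smul_eq_of_sq hS (by
    rw [mul_smul, ← eq_inv_smul_iff, ← c2]
    exact (smul_eq_of_sq hS (by rw [mul_smul, c2, c3, inv_inv])).symm)
  have c5 : y • ω = ω := by rw [← a4, c4, a3, c4]
  obtain ⟨z, hz, e⟩ := a2
  have := (a1 ω).2 (by simp)
  simp only [c4, c5, Set.mem_insert_iff, Set.mem_singleton_iff, or_self] at this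
  exact e (h6 a ha this (by rwa [c4]) (by rwa [c5]) z hz)

theorem gluck_step {n : ℕ} (hn : Base.{u} n) {S Ω : Type u} [Group S] [Finite S] [Finite Ω] [MulAction S Ω]
    [FaithfulSMul S Ω] (hΩ : Nat.card Ω < n) (hS : Odd (Nat.card S))
    (ih : ∀ (Ω' : Type u) [Finite Ω'] [MulAction S Ω'], Nat.card Ω' < Nat.card Ω →
      ∃ Δ : Set Ω', ∀ s : S, (∀ ω, s • ω ∈ Δ ↔ ω ∈ Δ) → ∀ ω : Ω', s • ω = ω) :
    ∃ Δ : Set Ω, ∀ s : S, (∀ ω, s • ω ∈ Δ ↔ ω ∈ Δ) → ∀ ω : Ω, s • ω = ω := by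
  rcases subsingleton_or_nontrivial S with h | h
  · exact ⟨∅, fun s _ ω => by rw [Subsingleton.elim s 1, one_smul]⟩
  have := S0205.result hS
  obtain ⟨N, ⟨hN, hN'⟩, h1⟩ := (Set.toFinite {N : Subgroup S | N.Normal ∧ N ≠ ⊥}).exists_minimal ⟨⊤, inferInstance, by simp⟩
  have h1 : ∀ X : Subgroup S, X.Normal → X < N → X = ⊥ := fun X hX h => by_contra fun h' => h.2 (h1 ⟨hX, h'⟩ h.le)
  have h2 : ∀ x ∈ N, ∀ y ∈ N, x * y = y * x := fun x hx y hy => commutatorElement_eq_one_iff_mul_comm.1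
    (Subgroup.mem_bot.1 (h1 _ inferInstance (Group.IsSolvable.commutator_lt_of_ne_bot hN') ▸
      Subgroup.commutator_mem_commutator hx hy))
  let B : SubMulAction S (Set Ω) := ⟨Set.range (orbit N), by
    rintro s _ ⟨ω, rfl⟩; exact ⟨_, (smul_orbit_eq_orbit_smul N ω s).symm⟩⟩
  let b : Ω → B := fun ω => ⟨_, ω, rfl⟩
  have b1 : ∀ (s : S) ω, s • b ω = b (s • ω) := fun s ω => Subtype.ext (smul_orbit_eq_orbit_smul N ω s)
  have b2 : b.Surjective := by rintro ⟨_, ω, rfl⟩; exact ⟨ω, rfl⟩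
  have b3 : ∀ (O : B) ω, ω ∈ O.1 ↔ b ω = O := by
    rintro ⟨_, ω', rfl⟩ ω; exact orbit_eq_iff.symm.trans (Subtype.ext_iff (a1 := b ω) (a2 := b ω')).symm
  obtain ⟨Γ, hΓ⟩ := ih B (by
    have := Fintype.ofFinite Ω
    have := Fintype.ofFinite B
    rw [Nat.card_eq_fintype_card, Nat.card_eq_fintype_card]
    refine Fintype.card_lt_of_surjective_not_injective b b2 fun hb => hN' (eq_bot_iff.2 fun x hx => ?_)
    exact eq_of_smul_eq_smul (α := Ω) fun ω => by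
      rw [one_smul]; exact hb ((b3 (b ω) _).1 ⟨⟨x, hx⟩, rfl⟩))
  let K := (toPermHom S B).ker
  have hK : ∀ s, s ∈ K ↔ ∀ O : B, s • O = O := fun s => Equiv.ext_iff
  have : ∀ O : B, ∃ D ⊆ O.1, (∀ k ∈ K, (∀ x, k • x ∈ D ↔ x ∈ D) → ∀ x ∈ O.1, k • x = x) ∧
      (O ∈ Γ ↔ 2 * D.ncard < O.1.ncard) := fun O => by
    obtain ⟨ω, rfl⟩ := b2 O
    obtain ⟨D, h3, h4⟩ := gluck_block hn hΩ hS (K := K) h1 h2 (fun x hx => (hK x).2 fun O => by
      obtain ⟨ω, rfl⟩ := b2 O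
      rw [b1]; exact (b3 _ _).1 ⟨⟨x, hx⟩, rfl⟩) ω fun k hk => (b3 (b ω) _).2 (by rw [← b1, (hK k).1 hk])
    by_cases h5 : b ω ∈ Γ ↔ 2 * D.ncard < (orbit N ω).ncard
    · exact ⟨D, h3, h4, h5⟩
    refine ⟨orbit N ω \ D, Set.sdiff_subset, fun k hk h6 => h4 k hk fun x => ?_, ?_⟩
    · have h7 : k • x ∈ orbit N ω ↔ x ∈ orbit N ω := by
        rw [b3 (b ω), b3 (b ω), ← b1, (hK k).1 hk]
      have := h6 x; have := @h3 x; have := @h3 (k • x); grind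
    · have h7 := Set.ncard_sdiff_add_ncard_of_subset h3
      obtain ⟨m, hm⟩ : Odd (orbit N ω).ncard := by
        rw [← index_stabilizer]
        exact hS.of_dvd_nat ((Subgroup.index_dvd_card _).trans N.card_subgroup_dvd_card)
      change _ ↔ _ < (orbit N ω).ncard
      by_cases h6 : b ω ∈ Γ <;> simp only [h6, true_iff, false_iff] at h5 ⊢ <;> omega
  choose D D1 D2 D3 using this
  refine ⟨{ω | ω ∈ D (b ω)}, fun s hs ω => ?_⟩
  have h3 : ∀ O ω, s • ω ∈ D (s • O) ↔ ω ∈ D O := fun O ω => by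
    by_cases h : b ω = O
    · rw [← h, b1]; exact hs ω
    · exact iff_of_false (fun h' => h (smul_left_cancel s (by rw [b1, (b3 _ _).1 (D1 _ h')])))
        fun h' => h ((b3 _ _).1 (D1 _ h'))
  have h4 : s ∈ K := (hK s).2 (hΓ s fun O => by
    rw [D3, D3, show D (s • O) = s • D O from Set.ext fun x => by
      rw [Set.mem_smul_set_iff_inv_smul_mem, ← h3 O, smul_inv_smul], SubMulAction.val_smul, Set.ncard_smul_set,
      Set.ncard_smul_set])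
  exact D2 (b ω) s h4 (fun x => by rw [← h3 (b ω) x, (hK s).1 h4]) ω (mem_orbit_self _)

theorem gluck {n : ℕ} (hn : Base.{u} n) (m : ℕ) : ∀ (S Ω : Type u) [Group S] [Finite S] [Finite Ω] [MulAction S Ω],
    Nat.card Ω = m → m < n → Odd (Nat.card S) →
    ∃ Δ : Set Ω, ∀ s : S, (∀ ω, s • ω ∈ Δ ↔ ω ∈ Δ) → ∀ ω : Ω, s • ω = ω := by
  induction m using Nat.strong_induction_on with
  | _ m ih =>
    intro S Ω _ _ _ _ h1 h2 hS
    have hS' := hS.of_dvd_nat (Subgroup.card_range_dvd (toPermHom S Ω))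
    obtain ⟨Δ, h⟩ := gluck_step hn (S := (toPermHom S Ω).range) (Ω := Ω) (h1 ▸ h2) hS' fun Ω' _ _ h =>
      ih _ (h1 ▸ h) _ Ω' rfl (by omega) hS'
    exact ⟨Δ, fun s hs => h ⟨_, s, rfl⟩ hs⟩

end Cfsg.Agent.H33
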