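import Cfsg.Agent.H33.BaseB

/-! Base size two for odd order linear groups, part C: the imprimitive case. -/

namespace Cfsg.Agent.H33
universe u
open MulAction Pointwise

variable {A V : Type u} [Group A] [Finite A] [AddCommGroup V] [Finite V] [DistribMulAction A V]

omit [Finite A] [Finite V] in
theorem two_pairs (hA : Odd (Nat.card A)) {H : Subgroup A} {W : AddSubgroup V} (hW : W ≠ ⊥)
    (h : ∃ v ∈ W, ∃ w ∈ W, ∀ a ∈ H, a • v = v → a • w = w → ∀ x ∈ W, a • x = x) :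
    ∃ P : Prop → V × V, (∀ i, (P i).1 ∈ W ∧ (P i).2 ∈ W ∧ ∀ a ∈ H, a • P i = P i → ∀ x ∈ W, a • x = x) ∧
      ∀ a ∈ H, ∀ i j, a • P i = P j → (i ↔ j) := by
  classical
  suffices ∃ x y : V × V, (∀ z, z = x ∨ z = y → z.1 ∈ W ∧ z.2 ∈ W ∧ ∀ a ∈ H, a • z = z → ∀ x ∈ W, a • x = x) ∧
      ∀ a ∈ H, a • x ≠ y by
    obtain ⟨x, y, h1, h2⟩ := this
    refine ⟨fun i => if i then x else y, fun i => h1 _ (by grind), fun a ha i j e => ?_⟩
    have := h2 a ha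
    have : a • y ≠ x := fun e => h2 _ (inv_mem ha) (inv_smul_eq_iff.2 e.symm)
    by_cases hi : i <;> by_cases hj : j <;> simp_all
  obtain ⟨v, hv, w, hw, h⟩ := h
  by_cases e : v = w
  · subst e
    obtain ⟨u, hu, hu'⟩ : ∃ u ∈ W, u ≠ 0 ∧ (v = 0 ∨ u = v) := by
      by_cases e : v = 0
      · obtain ⟨u, hu, hu'⟩ := (AddSubgroup.bot_or_exists_ne_zero W).resolve_left hW
        exact ⟨u, hu, hu', .inl e⟩
      · exact ⟨v, hv, e, .inr rfl⟩
    refine ⟨(v, 0), (v, u), ?_, fun a _ e => hu'.1 (by simpa using (congrArg Prod.snd e).symm)⟩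
    rintro _ (rfl | rfl)
    exacts [⟨hv, zero_mem _, fun a ha e => h a ha (congrArg Prod.fst e) (congrArg Prod.fst e)⟩,
      ⟨hv, hu, fun a ha e => h a ha (congrArg Prod.fst e) (congrArg Prod.fst e)⟩]
  refine ⟨(v, w), (w, v), ?_, fun a _ e' => e ?_⟩
  · rintro _ (rfl | rfl)
    exacts [⟨hv, hw, fun a ha e => h a ha (congrArg Prod.fst e) (congrArg Prod.snd e)⟩,
      ⟨hw, hv, fun a ha e => h a ha (congrArg Prod.snd e) (congrArg Prod.fst e)⟩]
  obtain ⟨e1, e2⟩ := Prod.ext_iff.1 e'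
  exact (smul_eq_of_sq hA (by rw [mul_smul]; exact (congrArg _ e1).trans e2)).symm.trans e1

theorem imp (hn : Base.{u} (Nat.card V)) (hA : Odd (Nat.card A)) (hirr : ∀ U : AddSubgroup V, Inv A U → U = ⊥ ∨ U = ⊤)
    {W : AddSubgroup V} (hW : W ≠ ⊥) (hW' : W ≠ ⊤) [Fintype (orbit A W)]
    (hind : ∀ f : orbit A W → V, (∀ ω, f ω ∈ ω.1) → ∑ ω, f ω = 0 → ∀ ω, f ω = 0) : HasBase A V := by
  classical
  choose g hg using fun ω : orbit A W => ω.2
  have hg : ∀ ω, g ω • W = ω := hg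
  let h := fun a ω => (g ω)⁻¹ * a * g (a⁻¹ • ω)
  have h1 : ∀ a ω, h a ω ∈ stabilizer A W := fun a ω => by
    rw [mem_stabilizer_iff, mul_smul, mul_smul, hg, orbit.coe_smul, smul_inv_smul, ← hg, inv_smul_smul]
  have h2 : ∀ a ∈ stabilizer A W, ∀ v ∈ W, a • v ∈ W := fun a ha v hv =>
    (show a • W = W from ha) ▸ AddSubgroup.smul_mem_pointwise_smul v a W hv
  let Φ : (orbit A W → V) →+ V := ∑ ω, (DistribSMul.toAddMonoidHom V (g ω)).comp (Pi.evalAddMonoidHom _ ω)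
  have h3 : ∀ x, Φ x = ∑ ω, g ω • x ω := fun x => by simp [Φ]
  have h4 : ∀ a x, a • Φ x = Φ fun ω => h a ω • x (a⁻¹ • ω) := fun a x => by
    rw [h3, h3, Finset.smul_sum, ← Equiv.sum_comp (toPerm a⁻¹)]
    simp [h, mul_smul]
  have h5 : ∀ x y : orbit A W → V, (∀ ω, x ω ∈ W) → (∀ ω, y ω ∈ W) → Φ x = Φ y → x = y := fun x y hx hy e =>
    funext fun ω => sub_eq_zero.1 ((smul_eq_zero_iff_eq (g ω)).1 (hind (fun ω => g ω • (x - y) ω)
      (fun ω => hg ω ▸ AddSubgroup.smul_mem_pointwise_smul _ _ _ (sub_mem (hx ω) (hy ω)))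
      (by rw [← h3, map_sub, e, sub_self]) ω))
  let ω₀ : orbit A W := ⟨W, mem_orbit_self W⟩
  have h6 : ∀ v ∈ W, ∀ ω ω' : orbit A W, (Pi.single ω v : _ → V) ω' ∈ W := fun v hv ω ω' => by
    rw [Pi.single_apply]; split_ifs; exacts [hv, zero_mem _]
  have h7 : ∀ X ≤ W, X ≠ ⊥ → (∀ a ∈ stabilizer A W, ∀ v ∈ X, a • v ∈ X) → ∀ v, ∃ x, (∀ ω, x ω ∈ X) ∧ Φ x = v := by
    intro X hX hX' hX'' v
    obtain ⟨u, hu, hu'⟩ := (AddSubgroup.bot_or_exists_ne_zero X).resolve_left hX'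
    obtain ⟨x, hx, e⟩ := ((hirr ((AddSubgroup.pi Set.univ fun _ => X).map Φ) (by
      rintro a _ ⟨x, hx, rfl⟩
      exact ⟨_, fun ω _ => hX'' _ (h1 a ω) _ (hx _ trivial), (h4 a x).symm⟩)).resolve_left fun e => hu' (by
        have : Φ (Pi.single ω₀ u) = Φ 0 := by
          rw [map_zero, ← AddSubgroup.mem_bot, ← e]
          exact ⟨_, fun ω _ => by rw [Pi.single_apply]; split_ifs; exacts [hu, X.zero_mem], rfl⟩
        simpa using congrFun (h5 _ _ (h6 u (hX hu) _) (fun _ => zero_mem _) this) ω₀)).ge (AddSubgroup.mem_top v)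
    exact ⟨x, fun ω => hx ω trivial, e⟩
  obtain ⟨P, P1, P2⟩ := two_pairs hA hW (hn.sub hA (stabilizer A W) W
    (lt_of_le_of_ne W.card_le_card_addGroup fun e => hW' (W.eq_top_of_card_eq e)) h2 fun X hX hX' => by
      by_cases e : X = ⊥
      · exact ⟨W, h2, by simp [e], le_sup_right⟩
      refine ⟨⊥, by simp, by simp, fun v hv => AddSubgroup.mem_sup_left ?_⟩
      obtain ⟨x, hx, e⟩ := h7 X hX e hX' (Φ (Pi.single ω₀ v))
      simpa [h5 _ _ (fun ω => hX (hx ω)) (h6 v hv _) e] using hx ω₀)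
  obtain ⟨u, hu, hu'⟩ := (AddSubgroup.bot_or_exists_ne_zero W).resolve_left hW
  obtain ⟨Δ, hΔ⟩ := gluck hn _ A (orbit A W) rfl (by
    have := Nat.card_le_card_of_injective (fun o : Option (orbit A W) => Φ (o.elim 0 (Pi.single · u))) (by
      have : ∀ o : Option (orbit A W), ∀ ω, (o.elim 0 (Pi.single · u) : orbit A W → V) ω ∈ W := by
        rintro (_ | o) ω; exacts [zero_mem _, h6 u hu _ _]
      intro o o' e
      have := h5 _ _ (this o) (this o') e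
      rcases o with _ | o <;> rcases o' with _ | o'
      · rfl
      · exact (hu' (by simpa using (congrFun this o').symm)).elim
      · exact (hu' (by simpa using congrFun this o)).elim
      · by_contra h; exact hu' (by simpa [Pi.single_apply, mt (congrArg some) h] using congrFun this o))
    rwa [Finite.card_option] at this) hA
  refine ⟨Φ fun ω => (P (ω ∈ Δ)).1, Φ fun ω => (P (ω ∈ Δ)).2, fun a e1 e2 v => ?_⟩
  rw [h4] at e1 e2
  have h8 : ∀ ω, h a ω • P (a⁻¹ • ω ∈ Δ) = P (ω ∈ Δ) := fun ω => Prod.ext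
    (congrFun (h5 _ _ (fun ω => h2 _ (h1 a ω) _ (P1 _).1) (fun ω => (P1 _).1) e1) ω)
    (congrFun (h5 _ _ (fun ω => h2 _ (h1 a ω) _ (P1 _).2.1) (fun ω => (P1 _).2.1) e2) ω)
  have h9 := hΔ a⁻¹ fun ω => P2 _ (h1 a ω) _ _ (h8 ω)
  obtain ⟨x, hx, rfl⟩ := h7 W le_rfl hW h2 v
  rw [h4]
  exact congrArg Φ (funext fun ω => by
    rw [(P1 _).2.2 _ (h1 a ω) (by simpa only [h9] using h8 ω) _ (hx _), h9])

theorem dich (hn : Base.{u} (Nat.card V)) (hA : Odd (Nat.card A)) [Nontrivial V]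
    (hirr : ∀ U : AddSubgroup V, Inv A U → U = ⊥ ∨ U = ⊤) (R : Set (Module.End ℤ V))
    (hc : ∀ r ∈ R, ∀ s ∈ R, r * s = s * r) (hR : ∀ a : A, ∀ r ∈ R, ∃ s ∈ R, ∀ v, s v = a • r (a⁻¹ • v)) :
    HasBase A V ∨ ∀ r ∈ R, r ≠ 0 → ∀ v, r v = 0 → v = 0 := by
  classical
  obtain ⟨W, ⟨h1, T, h2, h3⟩, h4⟩ := (Set.toFinite {W : AddSubgroup V | W ≠ ⊥ ∧ ∃ T ⊆ R,
    ∀ v, v ∈ W ↔ ∀ r ∈ T, r v = 0}).exists_minimal ⟨⊤, by simp, ∅, by simp⟩
  have h5 : ∀ r ∈ R, (∀ v ∈ W, r v = 0) ∨ ∀ v ∈ W, r v = 0 → v = 0 := fun r hr => by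
    refine or_iff_not_imp_right.2 fun h v hv => (h4 (y := W ⊓ r.toAddMonoidHom.ker) ⟨fun e => h fun v hv h' =>
      AddSubgroup.mem_bot.1 (e ▸ ⟨hv, h'⟩), insert r T, Set.insert_subset hr h2, fun v => ?_⟩ inf_le_left hv).2
    simp [h3, and_comm]
  by_cases hW : W = ⊤
  · exact .inr fun r hr h v => (h5 r hr).resolve_left (fun h' => h (LinearMap.ext fun v => h' v (by simp [hW])))
      v (by simp [hW])
  have := Fintype.ofFinite (orbit A W)
  have h6 : ∀ ω : orbit A W, ∃ T ⊆ R, ∀ v, v ∈ ω.1 ↔ ∀ r ∈ T, r v = 0 := by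
    rintro ⟨_, a, rfl⟩
    refine ⟨{s ∈ R | ∃ r ∈ T, ∀ v, s v = a • r (a⁻¹ • v)}, Set.sep_subset _ _, fun v => ?_⟩
    rw [AddSubgroup.mem_pointwise_smul_iff_inv_smul_mem, h3]
    refine ⟨fun h s ⟨_, r, hr, e⟩ => by rw [e, h r hr, smul_zero], fun h r hr => ?_⟩
    obtain ⟨s, hs, e⟩ := hR a r (h2 hr)
    exact (smul_eq_zero_iff_eq a).1 ((e v).symm.trans (h s ⟨hs, r, hr, e⟩))
  have h7 : ∀ ω : orbit A W, ∀ r ∈ R, (∀ v ∈ ω.1, r v = 0) ∨ ∀ v ∈ ω.1, r v = 0 → v = 0 := by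
    rintro ⟨_, a, rfl⟩ r hr
    obtain ⟨s, hs, e⟩ := hR a⁻¹ r hr
    simp only [AddSubgroup.mem_pointwise_smul_iff_inv_smul_mem]
    exact (h5 s hs).imp (fun h v hv => by simpa [e, smul_eq_zero_iff_eq] using h _ hv) fun h v hv h' => by
      simpa [e, h', smul_eq_zero_iff_eq] using h _ hv
  have h8 : ∀ ω : orbit A W, Nat.card ω.1 = Nat.card W := by
    rintro ⟨_, a, rfl⟩
    exact AddSubgroup.card_map_of_injective (MulAction.injective a)
  refine .inl (imp hn hA hirr h1 hW fun f hf e ω => ?_)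
  suffices ∀ s : Finset (orbit A W), ω ∉ s → ∀ f : orbit A W → V, (∀ ω, f ω ∈ ω.1) → f ω + ∑ x ∈ s, f x = 0 → f ω = 0 from
    this (Finset.univ.erase ω) (by simp) f hf (by rwa [Finset.add_sum_erase _ _ (Finset.mem_univ _)])
  intro s
  induction s using Finset.induction_on with
  | empty => simp
  | insert x s hx ih =>
    intro hω f hf e
    obtain ⟨T, h2, h3⟩ := h6 x
    obtain ⟨r, hr, h9⟩ : ∃ r ∈ T, ∀ v ∈ ω.1, r v = 0 → v = 0 := by
      by_contra! h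
      refine hω (Finset.mem_insert.2 (.inl (Subtype.ext (AddSubgroup.eq_of_le_of_card_ge (fun v hv => (h3 v).2
        fun r hr => (h7 ω r (h2 hr)).resolve_right (by simpa using h r hr) v hv) (by rw [h8, h8])))))
    refine h9 _ (hf ω) (ih (fun h => hω (Finset.mem_insert_of_mem h)) (fun y => r (f y)) (fun y => ?_) ?_)
    · obtain ⟨T', h2', h3'⟩ := h6 y
      exact (h3' _).2 fun s hs => by
        rw [← Module.End.mul_apply, hc s (h2' hs) r (h2 hr), Module.End.mul_apply, (h3' _).1 (hf y) s hs, map_zero]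
    · simpa [Finset.sum_insert hx, (h3 _).1 (hf x) r hr] using congrArg r e

end Cfsg.Agent.H33
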