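import Cfsg.Agent.H33.BaseA

/-! Base size two for odd order linear groups, part D: general lemmas for the primitive case. -/

namespace Cfsg.Agent.H33
open MulAction

theorem card_range_flip_le {X Y K : Type*} [Group X] [Group Y] [Finite Y] [Field K] (Φ : Y →* X →* Kˣ) :
    Nat.card Φ.flip.range ≤ Nat.card Φ.range := by
  have : Finite Φ.range := .of_surjective _ Φ.rangeRestrict_surjective
  choose x hx using fun t : Φ.flip.range => t.2
  let ev : Φ.flip.range → Φ.range →* K := fun t =>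
    (Units.coeHom K).comp ((MonoidHom.eval (x t)).comp Φ.range.subtype)
  have := Fintype.ofFinite Φ.range
  have := ((linearIndependent_monoidHom Φ.range K).comp ev fun t t' e => Subtype.ext (by
    rw [← hx, ← hx]
    exact MonoidHom.ext fun y => Units.ext (DFunLike.congr_fun e ⟨Φ y, y, rfl⟩ :))).cardinalMk_le_finrank
  rw [Module.finrank_fintype_fun_eq_card, ← Nat.card_eq_fintype_card] at this
  exact Cardinal.toNat_le_toNat this (Cardinal.natCast_lt_aleph0) |>.trans_eq (Cardinal.toNat_natCast _)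

theorem linInd_of_eigen {K W X ι : Type*} [Field K] [AddCommGroup W] [Module K W] (f : X → Module.End K W)
    (χ : ι → X → K) (hχ : χ.Injective) (T : ι → W) (hT : ∀ i, T i ≠ 0) (h : ∀ x i, f x (T i) = χ i x • T i) :
    LinearIndependent K T := by
  classical
  refine linearIndependent_iff'.2 fun s => ?_
  induction s using Finset.induction_on with
  | empty => simp
  | insert j s hj ih =>
    intro c hc
    rw [Finset.sum_insert hj] at hc
    have h1 : ∀ i ∈ s, c i = 0 := fun i hi => by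
      obtain ⟨x, hx⟩ := Function.ne_iff.1 (hχ.ne (ne_of_mem_of_not_mem hi hj))
      refine (mul_eq_zero.1 (ih (fun i => c i * (χ i x - χ j x)) ?_ i hi)).resolve_right (sub_ne_zero.2 hx)
      have := congrArg (fun w => f x w - χ j x • w) hc
      simp only [map_add, map_sum, map_smul, h, smul_add, Finset.smul_sum, map_zero, smul_zero, sub_zero] at this
      rw [← this, smul_comm, add_sub_add_left_eq_sub, ← Finset.sum_sub_distrib]
      exact Finset.sum_congr rfl fun i _ => by module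
    rw [Finset.sum_eq_zero fun i hi => by rw [h1 i hi, zero_smul], add_zero] at hc
    exact Finset.forall_mem_insert _ _ _ |>.2 ⟨(smul_eq_zero.1 hc).resolve_right (hT j), h1⟩

theorem dvd_card_sub_one {G M : Type*} [Group G] [Finite M] [MulAction G M] (o : M) (ho : ∀ g : G, g • o = o)
    {c : ℕ} (h : ∀ x ≠ o, c ∣ (orbit G x).ncard) : c ∣ Nat.card M - 1 := by
  classical
  have := Fintype.ofFinite (orbitRel.Quotient G M)
  rw [Nat.card_congr (selfEquivSigmaOrbits' G M), Nat.card_sigma,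
    ← Finset.add_sum_erase _ _ (Finset.mem_univ (Quotient.mk'' o)), orbitRel.Quotient.orbit_mk,
    show orbit G o = {o} from Set.eq_singleton_iff_unique_mem.2 ⟨mem_orbit_self o, by rintro _ ⟨g, rfl⟩; exact ho g⟩]
  simp only [Nat.card_unique, add_tsub_cancel_left]
  refine Finset.dvd_sum fun ω hω => ?_
  obtain ⟨x, rfl⟩ := Quotient.mk''_surjective ω
  exact h x fun e => (Finset.mem_erase.1 hω).1 (e ▸ rfl)

theorem small {G M : Type*} [Group G] [Finite G] [AddCommGroup M] [Finite M] [DistribMulAction G M] (hcr : CR G M)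
    (C : Subgroup G) [hC : C.Normal] (r k : ℕ) [Fact r.Prime] (hM : Nat.card M = r ^ k)
    (h : ∀ g ∈ C, ∀ s, s.Prime → s ≠ r → orderOf (toPermHom G M g) = s → ∀ x : M, g • x = x → x = 0)
    (h' : ∀ n, n ∣ r ^ k - 1 → Odd n → n ≡ 1 [MOD r] → n = 1) (hG : Odd (Nat.card G)) :
    Nat.card (C.map (toPermHom G M)) ∣ r ^ k - 1 := by
  let X := C.map (toPermHom G M)
  obtain ⟨P⟩ : Nonempty (Sylow r X) := inferInstance
  have h1 : P.1.index ∣ r ^ k - 1 := hM ▸ dvd_card_sub_one (G := X) (0 : M) (by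
      rintro ⟨_, g, -, rfl⟩; exact smul_zero g) fun x hx => by
    have h1 : IsPGroup r (stabilizer X x) := by
      rw [IsPGroup.iff_card]
      refine ⟨_, Nat.eq_prime_pow_of_unique_prime_dvd Nat.card_pos.ne' fun {s} hs h1 => by_contra fun h2 => ?_⟩
      have := Fact.mk hs
      obtain ⟨⟨⟨_, g, hg, rfl⟩, h3⟩, h4⟩ := exists_prime_orderOf_dvd_card' s h1
      exact hx (h g hg s hs h2 (by simpa using h4) x h3)
    obtain ⟨Q, hQ⟩ := h1.exists_le_sylow
    rw [← index_stabilizer, show P.1.index = Q.1.index from Nat.eq_of_mul_eq_mul_left Nat.card_pos (by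
      rw [P.1.card_mul_index, Nat.card_congr (P.equiv Q).toEquiv, Q.1.card_mul_index])]
    exact Subgroup.index_dvd_of_le hQ
  have h2 : Nat.card (Sylow r X) = 1 := h' _ (P.card_dvd_index.trans h1) (hG.of_dvd_nat (P.card_dvd_index.trans
    (P.1.index_dvd_card.trans ((C.card_map_dvd _).trans C.card_subgroup_dvd_card)))) (card_sylow_modEq_one r X)
  have := (Nat.card_eq_one_iff_unique.1 h2).1
  let W : AddSubgroup M := ⨅ p : P, (DistribSMul.toAddMonoidHom M p.1.2.choose).eqLocus (AddMonoidHom.id M)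
  have hW : ∀ v, v ∈ W ↔ ∀ p : P, p • v = v := fun v => AddSubgroup.mem_iInf.trans (forall_congr' fun p =>
    (DFunLike.congr_fun p.1.2.choose_spec.2 v).congr_left)
  obtain ⟨W', h3, h4, h5⟩ := hcr W fun a v hv => (hW _).2 (by
    rintro ⟨⟨_, g, hg, rfl⟩, hp⟩
    obtain ⟨j, hj⟩ := P.2 ⟨_, hp⟩
    let y : X := ⟨_, _, hC.conj_mem g hg a⁻¹, rfl⟩
    obtain ⟨Q, hQ⟩ := (IsPGroup.of_card (G := Subgroup.zpowers y) (p := r) ((Nat.card_zpowers y).trans
      ((Nat.dvd_prime_pow Fact.out).1 (orderOf_dvd_of_pow_eq_one (n := r ^ j) (Subtype.ext (by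
        have := congrArg (fun z : P.1 => z.1.1) hj
        simp only [SubmonoidClass.coe_pow, OneMemClass.coe_one] at this ⊢
        simp only [y, map_mul, map_inv, conj_pow, this, mul_one, mul_inv_cancel])))).choose_spec.2)).exists_le_sylow
    have := (hW v).1 hv ⟨y, Subsingleton.elim Q P ▸ hQ (Subgroup.mem_zpowers y)⟩
    change (a⁻¹ * g * a⁻¹⁻¹) • v = v at this
    rwa [inv_inv, mul_smul, mul_smul, inv_smul_eq_iff] at this)
  let S : SubMulAction P M := ⟨W', by rintro ⟨⟨_, g, hg, rfl⟩, hp⟩ x hx; exact h3 g x hx⟩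
  obtain rfl : W' = ⊥ := by_contra fun h6 => by
    obtain ⟨i, -, hi⟩ := (Nat.dvd_prime_pow Fact.out).1 (hM ▸ W'.card_addSubgroup_dvd_card)
    obtain ⟨b, hb, hb'⟩ := P.2.exists_fixed_point_of_prime_dvd_card_of_fixed_point S (a := ⟨0, W'.zero_mem⟩)
      (show r ∣ Nat.card W' from hi ▸ dvd_pow_self r fun e => h6 (by simpa [e] using hi)) (by
        rintro ⟨⟨_, g, hg, rfl⟩, hp⟩; exact Subtype.ext (smul_zero g))
    exact hb' (Subtype.ext (AddSubgroup.mem_bot.1 (h4 ▸ ⟨(hW _).2 fun p => congrArg Subtype.val (hb p), b.2⟩)).symm)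
  rwa [show P.1 = ⊥ from eq_bot_iff.2 fun p hp => Subtype.ext (Equiv.ext fun v => (hW v).1
    ((sup_bot_eq W).symm.trans h5 ▸ trivial) ⟨p, hp⟩), Subgroup.index_bot] at h1

section
variable {A : Type*} (V : Type*) [Group A] [AddCommGroup V] [DistribMulAction A V]

/-- fixed space -/
def Fx (g : A) : AddSubgroup V := (DistribSMul.toAddMonoidHom V g).eqLocus (AddMonoidHom.id V)

variable {V}
theorem mem_Fx {g : A} {v : V} : v ∈ Fx V g ↔ g • v = v := Iff.rfl

theorem card_Fx_conj (x g : A) : Nat.card (Fx V (x * g * x⁻¹)) = Nat.card (Fx V g) :=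
  Nat.card_congr ((toPerm x).subtypeEquiv fun v => by simp [mem_Fx, mul_smul]).symm

theorem card_Fx_sq [Finite V] (x g : A) :
    Nat.card (Fx V g) ^ 2 ≤ Nat.card (Fx V (g * x * g⁻¹ * x⁻¹)) * Nat.card V := by
  let H := Fx V g
  let H' := Fx V (x * g * x⁻¹)
  have h1 : Nat.card (H ⊓ H' : AddSubgroup V) ≤ Nat.card (Fx V (g * x * g⁻¹ * x⁻¹)) :=
    AddSubgroup.card_le_of_le fun v hv => by
      rw [mem_Fx, show g * x * g⁻¹ * x⁻¹ = g * (x * g * x⁻¹)⁻¹ by group, mul_smul, inv_smul_eq_iff.2 (mem_Fx.1 hv.2).symm]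
      exact hv.1
  have h2 := (H'.addSubgroupOf H).card_mul_index
  rw [← AddSubgroup.inf_addSubgroupOf_left, Nat.card_congr (AddSubgroup.addSubgroupOfEquivOfLe inf_le_left).toEquiv,
    AddSubgroup.inf_addSubgroupOf_left] at h2
  rw [sq, ← H'.card_mul_index, mul_left_comm, card_Fx_conj]
  exact Nat.mul_le_mul_left _ (h2.ge.trans (Nat.mul_le_mul h1
    (Nat.le_of_dvd (Nat.pos_of_ne_zero H'.index_ne_zero_of_finite) (H'.relIndex_dvd_index_of_normal H))))

theorem sum_Fx [Fintype A] [DecidableEq A] [Finite V] [FaithfulSMul A V] (hA : Odd (Nat.card A)) (h : ¬ HasBase A V) :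
    2 * Nat.card V ^ 2 ≤ ∑ g ∈ Finset.univ.erase (1 : A), Nat.card (Fx V g) ^ 2 := by
  classical
  have := Fintype.ofFinite V
  have h1 : ∀ g : A, Nat.card (Fx V g) ^ 2 = (Finset.univ.filter fun z : V × V => g • z = z).card := fun g => by
    rw [sq, ← Nat.card_prod, ← Fintype.card_subtype, ← Nat.card_eq_fintype_card]
    exact Nat.card_congr ((Equiv.subtypeProdEquivProd.symm).trans (Equiv.subtypeEquivRight fun z =>
      (Prod.ext_iff (x := g • z) (y := z)).symm))
  simp only [h1, Finset.card_filter]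
  rw [Finset.sum_comm, sq, ← Nat.card_prod, Nat.card_eq_fintype_card, mul_comm, ← smul_eq_mul, ← Finset.card_univ,
    ← Finset.sum_const]
  refine Finset.sum_le_sum fun z _ => ?_
  simp only [HasBase, not_exists, not_forall] at h
  obtain ⟨a, h2, h3, x, h4⟩ := h z.1 z.2
  have h5 : a ≠ 1 := fun e => h4 (by rw [e, one_smul])
  have h6 : a • z = z := Prod.ext h2 h3
  rw [← Finset.card_filter]
  refine Finset.one_lt_card.2 ⟨a, by simp [h5, h6], a⁻¹, by simp [h5, inv_smul_eq_iff, h6], fun e => h4 ?_⟩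
  exact smul_eq_of_sq hA (by rw [eq_inv_iff_mul_eq_one.1 e, one_smul])
end

end Cfsg.Agent.H33
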