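import Cfsg.Agent.H33.BaseD
import Cfsg.Agent.S0205

/-! Base size two for odd order linear groups, part E: structure in the primitive case. -/

namespace Cfsg.Agent.H33
open MulAction Subgroup

variable {A : Type*} (V : Type*) {K : Type*} [Group A] [AddCommGroup V] [DistribMulAction A V] [Field K] [Module K V]

/-- a maximal abelian normal subgroup acting by scalars -/
structure Prim (U : Subgroup A) (ι : U →* K) : Prop where
  nU : U.Normal
  comm : U ≤ centralizer U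
  max : ∀ X : Subgroup A, X.Normal → U ≤ X → X ≤ centralizer X → X ≤ U
  hι : ∀ (u : U) (v : V), u.1 • v = ι u • v
  lin : ∀ c ∈ centralizer (U : Set A), ∀ (k : K) (v : V), c • k • v = k • c • v
  hf : 2 ^ (centralizer (U : Set A)).index ≤ Nat.card K

variable {V} {U : Subgroup A} {ι : U →* K} (h : Prim V U ι) [FaithfulSMul A V]
include h

theorem Prim.inj : Function.Injective ι := fun x y e =>
  Subtype.ext (eq_of_smul_eq_smul (α := V) fun v => by rw [h.hι, h.hι, e])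

theorem Prim.fpf {u : A} (hu : u ∈ U) (h1 : u ≠ 1) : Fx V u = ⊥ := eq_bot_iff.2 fun v hv => by
  have : (ι ⟨u, hu⟩ - 1) • v = 0 := by rw [sub_smul, ← h.hι, one_smul, sub_eq_zero]; exact hv
  exact (smul_eq_zero.1 this).resolve_left fun e =>
    h1 (congrArg Subtype.val (h.inj ((sub_eq_zero.1 e).trans ι.map_one.symm)))

theorem Prim.card_dvd [Finite K] : Nat.card U ∣ Nat.card K - 1 :=
  Nat.card_units K ▸ card_dvd_of_injective ι.toHomUnits fun _ _ e => h.inj (congrArg Units.val e)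

theorem Prim.half [Finite V] {g : A} (hg : g ∉ centralizer (U : Set A)) : Nat.card (Fx V g) ^ 2 ≤ Nat.card V := by
  obtain ⟨u, hu, e⟩ : ∃ u ∈ U, g * u * g⁻¹ * u⁻¹ ≠ 1 := by
    by_contra! h'
    exact hg fun u hu => (mul_inv_eq_iff_eq_mul.1 (mul_inv_eq_one.1 (h' u hu))).symm
  simpa [h.fpf (mul_mem (h.nU.conj_mem u hu g) (inv_mem hu)) e] using card_Fx_sq (V := V) u g

theorem Prim.third [Finite V] (hA : Odd (Nat.card A)) {g x : A} (hg : g ∈ centralizer (U : Set A))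
    (hx : x ∈ centralizer (U : Set A)) (h1 : g * x * g⁻¹ * x⁻¹ ∈ U) (h2 : g * x * g⁻¹ * x⁻¹ ≠ 1) :
    Nat.card (Fx V g) ^ 3 ≤ Nat.card V := by
  let ζ := ι ⟨_, h1⟩
  have h3 : ∀ v : V, g • x • v = ζ • x • g • v := fun v => by simp [ζ, ← h.hι, mul_smul]
  have h4 : ζ ≠ 1 := fun e => h2 (congrArg Subtype.val (h.inj (e.trans ι.map_one.symm)))
  have h5 : ζ ^ 2 ≠ 1 := fun e => h2 (by
    simpa using smul_eq_of_sq (x := (1 : A)) hA (by
      simpa [sq] using congrArg Subtype.val (h.inj ((ι.map_pow _ 2).trans (e.trans ι.map_one.symm)))))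
  have h6 : ζ ≠ 0 := (ι.toHomUnits _).ne_zero
  let F : Fx V g × Fx V g × Fx V g →+ V := (Fx V g).subtype.coprod ((DistribSMul.toAddMonoidHom V x).comp
    ((Fx V g).subtype.coprod ((DistribSMul.toAddMonoidHom V x).comp (Fx V g).subtype)))
  rw [pow_three, ← Nat.card_prod, ← Nat.card_prod]
  refine Nat.card_le_card_of_injective F ((injective_iff_map_eq_zero F).2 fun ⟨a, b, c⟩ e0 => ?_)
  change a.1 + x • (b.1 + x • c.1) = 0 at e0
  rw [smul_add] at e0
  have e1 := congrArg (g • ·) e0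
  simp only [smul_add, h3, mem_Fx.1 a.2, mem_Fx.1 b.2, mem_Fx.1 c.2, h.lin x hx, smul_zero] at e1
  have e2 := congrArg (g • ·) e1
  simp only [smul_add, h3, mem_Fx.1 a.2, mem_Fx.1 b.2, mem_Fx.1 c.2, h.lin x hx, h.lin g hg, smul_zero] at e2
  generalize hb' : x • b.1 = b' at e0 e1 e2
  generalize hc' : x • x • c.1 = c' at e0 e1 e2
  have ha : a.1 = 0 := (smul_eq_zero.1 (show ((1 - ζ) * (1 - ζ ^ 2)) • a.1 = 0 by
    linear_combination (norm := module) ζ ^ 3 • e0 - (ζ + ζ ^ 2) • e1 + e2)).resolve_left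
    (mul_ne_zero (sub_ne_zero.2 h4.symm) (sub_ne_zero.2 h5.symm))
  obtain rfl : b' = 0 := (smul_eq_zero.1 (show (ζ * (1 - ζ)) • b' = 0 by
    linear_combination (norm := module) e1 - ζ ^ 2 • e0 - (1 - ζ ^ 2) • ha)).resolve_left
    (mul_ne_zero h6 (sub_ne_zero.2 h4.symm))
  obtain rfl : c' = 0 := by simpa [ha] using e0
  simp only [smul_eq_zero_iff_eq] at hb' hc'
  exact Prod.ext (Subtype.ext ha) (Prod.ext (Subtype.ext hb') (Subtype.ext hc'))

omit h [FaithfulSMul A V] in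
/-- the commutator pairing -/
noncomputable def cm (ι : U →* K) {X Y : Subgroup A} (hX : X ≤ centralizer U) (hY : Y ≤ centralizer U)
    (h : ∀ x ∈ X, ∀ y ∈ Y, x * y * x⁻¹ * y⁻¹ ∈ U) : Y →* X →* Kˣ :=
  MonoidHom.mk' (fun y => MonoidHom.mk' (fun x => ι.toHomUnits ⟨_, h x x.2 y y.2⟩) fun x x' => by
    rw [mul_comm (G := Kˣ), ← map_mul]
    · refine congrArg _ (Subtype.ext ?_)
      have := hX x.2 _ (h x' x'.2 y y.2)
      simp only [coe_mul, mul_inv_rev]
      calc _ = x.1 * (x' * y * x'.1⁻¹ * y.1⁻¹) * (y * x.1⁻¹ * y.1⁻¹) := by group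
        _ = _ := by rw [← this]; group) fun y y' => MonoidHom.ext fun x => by
    refine Eq.trans (congrArg ι.toHomUnits (Subtype.ext ?_)) (map_mul _ _ _)
    have := hY y.2 _ (h x x.2 y' y'.2)
    simp only [coe_mul, mul_inv_rev]
    calc _ = x.1 * y * x.1⁻¹ * y.1⁻¹ * (y * (x * y' * x.1⁻¹ * y'.1⁻¹)) * y.1⁻¹ := by group
      _ = _ := by rw [← this]; group

theorem Prim.cm_eq {X Y : Subgroup A} (hX : X ≤ centralizer U) (hY : Y ≤ centralizer U)
    (h' : ∀ x ∈ X, ∀ y ∈ Y, x * y * x⁻¹ * y⁻¹ ∈ U) (x : X) (y : Y) : cm ι hX hY h' y x = 1 ↔ x.1 * y = y * x := by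
  rw [← mul_inv_eq_iff_eq_mul, ← mul_inv_eq_one (a := _ * _), Units.ext_iff, Units.val_one, ← ι.map_one]
  exact h.inj.eq_iff.trans Subtype.ext_iff

theorem Prim.pairing [Finite A] {X Y : Subgroup A} (hX : X ≤ centralizer U) (hY : Y ≤ centralizer U)
    (h' : ∀ x ∈ X, ∀ y ∈ Y, x * y * x⁻¹ * y⁻¹ ∈ U) :
    (centralizer (Y : Set A)).relIndex X ≤ (centralizer (X : Set A)).relIndex Y := by
  have := card_range_flip_le (cm ι hX hY h')
  rw [← index_ker, ← index_ker] at this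
  unfold relIndex
  convert this using 2 <;> ext x <;> simp only [mem_subgroupOf, mem_centralizer_iff, MonoidHom.mem_ker,
    MonoidHom.ext_iff, MonoidHom.flip_apply, MonoidHom.one_apply, h.cm_eq, Subtype.forall, SetLike.mem_coe]
  simp only [eq_comm]

omit [FaithfulSMul A V] in
theorem Prim.exists_E [Finite A] (hA : Odd (Nat.card A)) : ∃ E : Subgroup A, ∃ s : Sec ⊤ U E, E.Normal ∧
    E ≤ centralizer U ∧ CR (⊤ : Subgroup A) s.M ∧ centralizer (U : Set A) ⊓ centralizer E ≤ U := by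
  have := S0205.result hA
  have := h.nU
  have hN : ∀ X : Subgroup A, Nz ⊤ X ↔ X.Normal := fun X =>
    ⟨fun h => ⟨fun x hx g => h g trivial x hx⟩, fun h g _ x hx => h.conj_mem x hx g⟩
  have hq : ∀ x y : A, x * y * x⁻¹ * y⁻¹ ∈ U ↔ Commute (x : A ⧸ U) y := fun x y => by
    rw [← QuotientGroup.eq_one_iff, ← commutatorElement_eq_one_iff_commute]; rfl
  obtain ⟨E, ⟨h1, h2, h3⟩, h4⟩ := (Set.toFinite {E : Subgroup A | Sec ⊤ U E ∧ E ≤ centralizer U ∧
      ∀ Z, Nz ⊤ Z → U ≤ Z → Z < E → ∃ Y ≤ E, Nz ⊤ Y ∧ ¬ Y ≤ Z ∧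
      ∀ X ≤ Y, Nz ⊤ X → U ⊓ Y ≤ X → X ≤ U ∨ X = Y}).exists_maximal ⟨U, ⟨le_rfl, (hN U).2 this, (hN U).2 this,
      fun x hx y hy => mul_mem (this.conj_mem y hy x) (inv_mem hy)⟩, h.comm, fun Z _ h h' => (h'.2 h).elim⟩
  have hE := (hN E).1 h1.nN
  refine ⟨E, h1, hE, h2, h1.cr h3, by_contra fun h5 => ?_⟩
  obtain ⟨Y, ⟨h6, h7, h8⟩, h9⟩ := (Set.toFinite {Y : Subgroup A | Y.Normal ∧ U < Y ∧
    Y ≤ centralizer (U : Set A) ⊓ centralizer E}).exists_minimal ⟨_, inferInstance,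
    lt_of_le_of_ne (le_inf h.comm (le_centralizer_iff.1 h2)) fun e => h5 e.ge, le_rfl⟩
  have h10 : ∀ X ≤ Y, X.Normal → U ≤ X → X ≤ U ∨ X = Y := fun X hX hX' hU => or_iff_not_imp_left.2 fun h =>
    le_antisymm hX (h9 ⟨hX', lt_of_le_of_ne hU fun e => h e.ge, hX.trans h8⟩ hX)
  have h11 : ∀ x ∈ Y, ∀ y ∈ Y, Commute (x : A ⧸ U) y := fun x hx y hy => (hq x y).1 (by
    have := Group.IsSolvable.commutator_lt_of_ne_bot (H := Y.map (QuotientGroup.mk' U)) (by
      simpa [Subgroup.map_eq_bot_iff] using h7.2)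
    refine (h10 (⁅Y, Y⁆ ⊔ U) (sup_le (commutator_le_left _ _) h7.le) inferInstance le_sup_right).resolve_right
      (fun e => this.ne ?_) (mem_sup_left (commutator_mem_commutator hx hy))
    rw [← map_commutator]
    conv_rhs => rw [← e, Subgroup.map_sup, QuotientGroup.map_mk'_self, sup_bot_eq])
  have h12 : ∀ x ∈ E, ∀ y ∈ Y, Commute (x : A ⧸ U) y := fun x hx y hy =>
    (show Commute x y from (h8 hy).2 x hx).map (QuotientGroup.mk' U)
  have h13 := le_sup_right.trans (h4 (y := E ⊔ Y) ⟨⟨h1.le.trans le_sup_left, h1.nL, (hN _).2 inferInstance, ?_⟩,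
    sup_le h2 (h8.trans inf_le_left), fun Z hZ hZ' hZ'' => ?_⟩ le_sup_left)
  · exact h7.2 (h.max Y h6 h7.le fun y hy x hx => (h8 hy).2 x (h13 hx))
  · intro x hx y hy
    obtain ⟨a, ha, b, hb, rfl⟩ := mem_sup_of_normal_right.1 hx
    obtain ⟨c, hc, d, hd, rfl⟩ := mem_sup_of_normal_right.1 hy
    exact (hq _ _).2 ((((hq a c).1 (h1.comm a ha c hc)).mul_right (h12 a ha d hd)).mul_left
      ((h12 c hc b hb).symm.mul_right (h11 b hb d hd)))
  by_cases hY : Y ≤ Z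
  · obtain ⟨Y', h14, h15, h16, h17⟩ := h3 (Z ⊓ E) (fun k hk x hx => ⟨hZ k hk x hx.1, h1.nN k hk x hx.2⟩)
      (le_inf hZ' h1.le) (lt_of_le_of_ne inf_le_right fun e => hZ''.2 (sup_le (e.ge.trans inf_le_left) hY))
    exact ⟨Y', h14.trans le_sup_left, h15, fun h => h16 (le_inf h h14), h17⟩
  · exact ⟨Y, le_sup_right, (hN Y).2 h6, hY, fun X hX hX' h => h10 X hX ((hN X).1 hX') ((le_inf le_rfl h7.le).trans h)⟩

section
variable [Finite A] {E : Subgroup A} (s : Sec ⊤ U E) (hE : E ≤ centralizer U)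
  (hC : centralizer (U : Set A) ⊓ centralizer E ≤ U)
include s hE hC

omit h s [Finite A] in
theorem rel_cent {X : Subgroup A} (hX : X ≤ centralizer U) : (centralizer (E : Set A)).relIndex X = U.relIndex X := by
  rw [← inf_relIndex_right, ← inf_relIndex_right U, le_antisymm (le_inf (fun x hx => hC ⟨hX hx.2, hx.1⟩) inf_le_right)
    (inf_le_inf_right X (le_centralizer_iff.1 hE))]

theorem Prim.sq : ∃ e, U.relIndex E = e ^ 2 := by
  obtain ⟨B, ⟨h1, h2, h3⟩, h4⟩ := (Set.toFinite {B : Subgroup A | U ≤ B ∧ B ≤ E ∧ B ≤ centralizer B}).exists_maximal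
    ⟨U, le_rfl, s.le, h.comm⟩
  have h5 : (centralizer (B : Set A)).relIndex E = B.relIndex E := by
    rw [← inf_relIndex_right, le_antisymm _ (le_inf h3 h2)]
    refine fun x hx => h4 (y := B ⊔ zpowers x) ⟨h1.trans le_sup_left, sup_le h2 (by simpa using hx.2), ?_⟩ le_sup_left
      (mem_sup_right (mem_zpowers x))
    have : B ⊔ zpowers x ≤ centralizer B := sup_le h3 (by simpa using hx.1)
    refine sup_le (le_centralizer_iff.1 this) (zpowers_le.2 (le_centralizer_iff.1 (sup_le (le_centralizer_iff.1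
      (le_sup_right.trans this)) (le_centralizer (zpowers x))) (mem_zpowers x)))
  have h6 := h.pairing hE (h2.trans hE) fun x hx y hy => s.comm x hx y (h2 hy)
  have h7 := h.pairing (h2.trans hE) hE fun x hx y hy => s.comm x (h2 hx) y hy
  rw [h5, rel_cent hE hC (h2.trans hE)] at h6 h7
  exact ⟨_, by rw [← relIndex_mul_relIndex U B E h1 h2, le_antisymm h6 h7, pow_two]⟩

theorem Prim.le_finrank [Finite V] [Nontrivial V] : U.relIndex E ≤ Module.finrank K V ^ 2 := by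
  let ρ : E →* Module.End K V := ⟨⟨fun g => ⟨⟨(g.1 • ·), smul_add g.1⟩, h.lin g (hE g.2)⟩,
    LinearMap.ext (one_smul A)⟩, fun a b => LinearMap.ext (mul_smul a.1 b.1)⟩
  let Φ := cm ι hE hE s.comm
  have := Fintype.ofFinite (E ⧸ U.subgroupOf E)
  have := (linInd_of_eigen (fun x : E => LinearMap.mulLeft K (ρ x) * LinearMap.mulRight K (ρ x⁻¹))
    (fun (i : E ⧸ U.subgroupOf E) x => Φ i.out x) (fun i j e => ?_) (fun i => ρ i.out)
    (fun i => (ρ.toHomUnits _).ne_zero) fun x i => LinearMap.ext fun v => ?_).fintype_card_le_finrank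
  · rwa [Module.finrank_linearMap, ← pow_two, ← Nat.card_eq_fintype_card] at this
  · rw [← i.out_eq, ← j.out_eq]
    refine Quotient.sound' (QuotientGroup.leftRel_apply.2 (hC ⟨hE (i.out⁻¹ * j.out).2, fun x hx => ?_⟩))
    refine (h.cm_eq hE hE s.comm ⟨x, hx⟩ (i.out⁻¹ * j.out)).1 ?_
    rw [map_mul, map_inv, MonoidHom.mul_apply, MonoidHom.inv_apply, inv_mul_eq_one]
    exact Units.ext (congrFun e _)
  · exact Eq.trans (by simp [ρ, mul_smul]) (h.hι ⟨_, s.comm x x.2 _ i.out.2⟩ (i.out.1 • v))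
end

end Cfsg.Agent.H33
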