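import Cfsg.Agent.H33.BaseE

/-! Base size two for odd order linear groups, part F: numerics for the primitive case. -/

namespace Cfsg.Agent.H33
open MulAction Subgroup

theorem fix_out {M : Type*} [AddCommGroup M] [Finite M] (σ : Equiv.Perm M) (s : ℕ) [Fact s.Prime] (hσ : σ ^ s = 1)
    (H : AddSubgroup M) (hH : ¬ s ∣ Nat.card H) (h : ∀ y, σ y - y ∈ H) (y₀ : M) : ∃ y, σ y = y ∧ y - y₀ ∈ H := by
  have := Fintype.ofFinite {y // y - y₀ ∈ H}
  have h1 : Nat.card {y // y - y₀ ∈ H} = Nat.card H :=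
    Nat.card_congr ((Equiv.subRight y₀).subtypeEquiv (q := (· ∈ H)) fun _ => Iff.rfl)
  obtain ⟨y, hy⟩ := Equiv.Perm.exists_fixed_point_of_prime (p := s) (n := 1) (α := {y // y - y₀ ∈ H}) (by
    rwa [← Nat.card_eq_fintype_card, h1])
    (σ := σ.subtypePerm fun y => ⟨fun h' => by simpa using sub_mem h' (h y), fun h' => by simpa using add_mem (h y) h'⟩)
    (by rw [Equiv.Perm.subtypePerm_pow]; ext x; simp [hσ])
  exact ⟨y, congrArg Subtype.val hy, y.2⟩

theorem pow18 (e : ℕ) (h : 23 ≤ e) : e ^ 18 ≤ 4 ^ (2 * e - 3) := by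
  induction e, h using Nat.le_induction with
  | base => norm_num
  | succ e he ih =>
    have : (7 * (e + 1)) ^ 18 ≤ (8 * e) ^ 18 := Nat.pow_le_pow_left (by omega) _
    rw [mul_pow, mul_pow] at this
    rw [show 2 * (e + 1) - 3 = 2 * e - 3 + 2 by omega, pow_add]
    omega

theorem num_big {u e c q d : ℕ} (he : Odd e) (h5 : 5 ≤ e) (hu : u ∣ q - 1) (hq : 2 ≤ q) (hr : ∀ r, r.Prime → r ∣ e → r ∣ u)
    (hd : e ≤ d) (hc : c ≤ e ^ 4) (h : e = 5 ∨ e = 7 → c ≤ 3) (h' : e = 9 → c ≤ 5) : (u * e ^ 2 * c) ^ 3 ≤ (q ^ d) ^ 2 := by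
  have h1 : u ≤ q - 1 := Nat.le_of_dvd (by omega) hu
  have h2 : ∀ r, r.Prime → r ∣ e → r ∣ q - 1 := fun r h h' => (hr r h h').trans hu
  have h0 : q ^ (2 * e) ≤ (q ^ d) ^ 2 := by rw [← pow_mul]; exact Nat.pow_le_pow_right (by omega) (by omega)
  have h3 : ∀ b c', b ≤ q → c ≤ c' → (e ^ 2 * c') ^ 3 ≤ b ^ (2 * e - 3) → (u * e ^ 2 * c) ^ 3 ≤ (q ^ d) ^ 2 :=
    fun b c' hb hc' h => by
    refine le_trans ?_ h0
    rw [mul_assoc, mul_pow, show 2 * e = 3 + (2 * e - 3) by omega, pow_add]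
    exact Nat.mul_le_mul (Nat.pow_le_pow_left (by omega) _) ((Nat.pow_le_pow_left (Nat.mul_le_mul_left _ hc') _).trans
      (h.trans (Nat.pow_le_pow_left hb _)))
  have h4 : (e ^ 2 * e ^ 4) ^ 3 = e ^ 18 := by ring
  by_cases h6 : 23 ≤ e
  · obtain ⟨r, h7, h8⟩ := Nat.exists_prime_and_dvd (show e ≠ 1 by omega)
    have := Nat.le_of_dvd (by omega) (h2 r h7 h8)
    have : r ≠ 2 := fun e => by subst e; exact Nat.not_even_iff_odd.2 he (even_iff_two_dvd.2 h8)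
    have := h7.two_le
    exact h3 4 _ (by omega) hc (h4.trans_le (pow18 e h6))
  have h7 : e < q → 11 ≤ e → (u * e ^ 2 * c) ^ 3 ≤ (q ^ d) ^ 2 := fun h h' =>
    h3 e _ h.le hc (h4.trans_le (Nat.pow_le_pow_right (by omega) (by omega)))
  have a3 := h2 3 (by norm_num)
  have a5 := h2 5 (by norm_num)
  have a7 := h2 7 (by norm_num)
  have a : e.Prime → 11 ≤ e → _ := fun h => h7 (by have := Nat.le_of_dvd (by omega) (h2 e h dvd_rfl); omega)
  have : e = 5 ∨ e = 7 ∨ e = 9 ∨ e = 15 ∨ e = 21 ∨ e = 11 ∨ e = 13 ∨ e = 17 ∨ e = 19 := by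
    obtain ⟨k, rfl⟩ := he; omega
  clear h4 h6 h2 hr
  rcases this with rfl | rfl | rfl | rfl | rfl | rfl | rfl | rfl | rfl
  · by_cases h8 : q = 6
    · refine le_trans (Nat.pow_le_pow_left (Nat.mul_le_mul (Nat.mul_le_mul_right _ h1) (h (by simp))) _)
        (le_trans ?_ h0)
      subst h8; norm_num
    exact h3 7 _ (by clear * - h8 a5 hq; omega) (h (by simp)) (by norm_num)
  · exact h3 8 _ (by clear * - a7 hq; omega) (h (by simp)) (by norm_num)
  · exact h3 4 _ (by clear * - a3 hq; omega) (h' rfl) (by norm_num)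
  · exact h7 (by clear * - a3 a5 hq; omega) (by norm_num)
  · exact h7 (by clear * - a3 a7 hq; omega) (by norm_num)
  all_goals exact a (by norm_num) (by norm_num)

end Cfsg.Agent.H33
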