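import Cfsg.Agent.H33.BaseF

/-! Base size two for odd order linear groups, part G: counting in the primitive case. -/

namespace Cfsg.Agent.H33
universe u
open MulAction Subgroup

/-- the action of the whole group -/
@[reducible] noncomputable def Sec.act {G : Type*} [Group G] {L N : Subgroup G} (s : Sec ⊤ L N) : DistribMulAction G s.M :=
  DistribMulAction.compHom s.M (topEquiv (G := G)).symm.toMonoidHom

theorem Sec.cr_act {G : Type*} [Group G] {L N : Subgroup G} (s : Sec ⊤ L N) (h : CR (⊤ : Subgroup G) s.M) :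
    letI := s.act; CR G s.M := fun X hX =>
  let ⟨W, h1, h2⟩ := h X fun a v hv => hX a.1 v hv
  ⟨W, fun a => h1 ⟨a, trivial⟩, h2⟩

attribute [local instance] Sec.act

theorem Sec.act_eq {G : Type*} [Group G] {L N : Subgroup G} (s : Sec ⊤ L N) {g : G} {x : N} :
    g • s.p x = s.p x ↔ g * x * g⁻¹ * x.1⁻¹ ∈ L := s.p_eq

variable {A V K : Type*} [Group A] [Finite A] [AddCommGroup V] [Finite V] [DistribMulAction A V]

theorem two_step [Fintype A] [DecidableEq A] [DecidableEq V] (v : V)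
    (h : ∑ g ∈ Finset.univ.filter (fun g : A => g ≠ 1 ∧ g • v = v), Nat.card (Fx V g) < Nat.card V) : HasBase A V := by
  have := Fintype.ofFinite V
  by_contra h1
  simp only [HasBase, not_exists, not_forall] at h1
  refine h.not_ge ?_
  rw [Nat.card_eq_fintype_card, ← Finset.card_univ]
  refine (Finset.card_le_card (t := (Finset.univ.filter fun g : A => g ≠ 1 ∧ g • v = v).biUnion
    fun g => Finset.univ.filter fun w => g • w = w) fun w _ => ?_).trans (Finset.card_biUnion_le.trans_eq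
    (Finset.sum_congr rfl fun g _ => by rw [← Fintype.card_subtype, ← Nat.card_eq_fintype_card]; rfl))
  obtain ⟨a, h2, h3, x, h4⟩ := h1 v w
  simpa using ⟨a, ⟨fun e => h4 (by rw [e, one_smul]), h2⟩, h3⟩

variable [Field K] [Module K V] [FaithfulSMul A V] {U : Subgroup A} {ι : U →* K} (h : Prim V U ι) (hA : Odd (Nat.card A))
include h

include hA in
theorem Prim.fin (h1 : ∀ g ∈ centralizer (U : Set A), g ≠ 1 →
    Nat.card (centralizer (U : Set A)) * Nat.card (Fx V g) ^ 2 ≤ Nat.card V ^ 2) (h2 : Nat.card A < Nat.card V) :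
    HasBase A V := by
  classical
  have := Fintype.ofFinite A
  by_contra h3
  refine (sum_Fx hA h3).not_gt (lt_of_le_of_lt ((Finset.sum_le_sum (g := fun g => (if g ∈ centralizer (U : Set A) then
    Nat.card V ^ 2 / Nat.card (centralizer (U : Set A)) else 0) + Nat.card V) fun g hg => ?_).trans
    (Finset.sum_le_sum_of_subset (Finset.subset_univ _))) ?_)
  · split_ifs with h4
    · exact le_add_right ((Nat.le_div_iff_mul_le Nat.card_pos).2 ((mul_comm _ _).trans_le (h1 g h4 (Finset.mem_erase.1 hg).1)))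
    · exact le_add_left (h.half h4)
  rw [Finset.sum_add_distrib, ← Finset.sum_filter, Finset.sum_const, Finset.sum_const, ← Fintype.card_subtype,
    Finset.card_univ, ← Nat.card_eq_fintype_card, ← Nat.card_eq_fintype_card, smul_eq_mul, smul_eq_mul, two_mul]
  exact Nat.add_lt_add_of_le_of_lt (Nat.mul_div_le _ _) (by rw [pow_two]; exact Nat.mul_lt_mul_of_pos_right h2 Nat.card_pos)

theorem Prim.one [Nontrivial V] (h1 : centralizer (U : Set A) ≤ U) (hK : Nat.card K ≤ Nat.card V) : HasBase A V := by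
  classical
  have := Fintype.ofFinite A
  obtain ⟨v, hv⟩ := exists_ne (0 : V)
  have h2 : ∀ g ∈ centralizer (U : Set A), g • v = v → g = 1 := fun g hg e => by_contra fun h2 =>
    hv (AddSubgroup.mem_bot.1 (h.fpf (h1 hg) h2 ▸ mem_Fx.2 e))
  have h3 : (Finset.univ.filter fun g : A => g ≠ 1 ∧ g • v = v).card < (centralizer (U : Set A)).index := by
    refine lt_of_lt_of_le (Finset.card_lt_card (t := Finset.univ.filter fun g : A => g • v = v)
      ⟨fun g => by simp +contextual, fun h => by simpa using @h 1⟩) ?_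
    rw [← Fintype.card_subtype, ← Nat.card_eq_fintype_card]
    refine Nat.card_le_card_of_injective (fun g => (g.1 : A ⧸ centralizer (U : Set A))) fun a b e => Subtype.ext ?_
    exact inv_mul_eq_one.1 (h2 _ (QuotientGroup.eq.1 e) (by rw [mul_smul, b.2, inv_smul_eq_iff, a.2]))
  refine two_step v (lt_of_le_of_lt (Finset.sum_le_card_nsmul _ _ (Nat.card V).sqrt fun g hg => ?_) ?_)
  · have := (Finset.mem_filter.1 hg).2
    exact Nat.le_sqrt'.2 (h.half fun h4 => this.1 (h2 g h4 this.2))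
  have h4 : ∀ n f : ℕ, n < f → n ^ 2 < 2 ^ f := fun n f h => lt_of_lt_of_le (by
    clear h
    induction n with
    | zero => simp
    | succ n ih =>
      have := n.lt_two_pow_self
      simp only [Nat.succ_eq_add_one, pow_succ] at *
      nlinarith) (Nat.pow_le_pow_right two_pos h)
  refine lt_of_pow_lt_pow_left₀ 2 (by simp) ?_
  rw [smul_eq_mul, mul_pow, pow_two (Nat.card V)]
  exact Nat.mul_lt_mul_of_lt_of_le ((h4 _ _ h3).trans_le (h.hf.trans hK)) (Nat.sqrt_le' _) Nat.card_pos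

variable {E : Subgroup A} (s : Sec ⊤ U E) (hE : E ≤ centralizer U) (hC : centralizer (U : Set A) ⊓ centralizer E ≤ U)
include s hE hC

omit [Finite V] in
theorem Prim.dvd_u {r : ℕ} (hr : r.Prime) (h1 : r ∣ U.relIndex E) : r ∣ Nat.card U := by
  have := Fact.mk hr
  obtain ⟨v, rfl⟩ := exists_prime_addOrderOf_dvd_card' (G := s.M) r h1
  obtain ⟨x, rfl⟩ := s.p_surj v
  refine addOrderOf_dvd_of_nsmul_eq_zero ((congrArg Multiplicative.toAdd (map_pow s.π x _)).symm.trans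
    (s.p_eq_zero.2 (hC ⟨hE (x ^ _).2, fun y hy => (h.cm_eq hE hE s.comm ⟨y, hy⟩ _).1 ?_⟩)))
  rw [map_pow, MonoidHom.pow_apply]
  exact (map_pow ι.toHomUnits _ _).symm.trans (by rw [pow_card_eq_one', map_one])

omit [Finite V] h in
theorem fix_ne {g : A} (hg : g ∈ centralizer (U : Set A)) (p : ℕ) [Fact p.Prime] (hp : ¬ p ∣ Nat.card s.M)
    (h1 : toPermHom A s.M g ^ p = 1) {v : s.M} (hv : v ≠ 0) (h2 : g • v = v) :
    ∃ w : s.M, g • w = w ∧ w ∉ AddSubgroup.zmultiples v := by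
  obtain ⟨x, rfl⟩ := s.p_surj v
  let H : AddSubgroup s.M := (((centralizer {x.1}).subgroupOf E).map s.π).toAddSubgroup'
  have h3 : ∀ y ∈ centralizer (U : Set A), U ≤ centralizer {y} := fun y hy u hu =>
    mem_centralizer_singleton_iff.2 (hy u hu)
  have hH : ∀ y : E, s.p y ∈ H ↔ y.1 ∈ centralizer {x.1} := fun y => ⟨fun ⟨y', h4, e⟩ =>
    inv_mem_iff.1 ((mul_mem_cancel_left (mem_subgroupOf.1 h4)).1 (h3 x (hE x.2) (s.p_eq.1 e))), fun h => ⟨y, h, rfl⟩⟩
  obtain ⟨y₀, hy, h4⟩ : ∃ y ∈ E, y ∉ centralizer {x.1} := by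
    by_contra! h4
    exact hv (s.p_eq_zero.2 (hC ⟨hE x.2, fun y hy => mem_centralizer_singleton_iff.1 (h4 y hy)⟩))
  obtain ⟨w, h5, h6⟩ := fix_out _ p h1 H (fun h => hp (h.trans H.card_addSubgroup_dvd_card)) (fun w => by
    obtain ⟨y, rfl⟩ := s.p_surj w
    rw [sub_eq_add_neg]
    refine (hH (s.cj ⟨g, trivial⟩ y * y⁻¹)).2 (mem_centralizer_singleton_iff.2 ?_)
    change g * y * g⁻¹ * y.1⁻¹ * x = x * (g * y * g⁻¹ * y.1⁻¹)
    have a1 : g * x * g⁻¹ * x.1⁻¹ * (x * (g * y * g⁻¹) * x.1⁻¹) = x * (g * y * g⁻¹) * x.1⁻¹ * (g * x * g⁻¹ * x.1⁻¹) :=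
      hE (x * s.cj ⟨g, trivial⟩ y * x⁻¹).2 _ (s.act_eq.1 h2)
    have a2 := hg _ (s.comm x x.2 y y.2)
    have a3 : x.1 * y * x.1⁻¹ * y.1⁻¹ * (g * y * g⁻¹ * y.1⁻¹) = g * y * g⁻¹ * y.1⁻¹ * (x * y * x.1⁻¹ * y.1⁻¹) :=
      hE (s.cj ⟨g, trivial⟩ y * y⁻¹).2 _ (s.comm x x.2 y y.2)
    have a4 : x * (g * y * g⁻¹) * x.1⁻¹ = x * y * x.1⁻¹ * y.1⁻¹ * (g * y * g⁻¹) :=
      calc _ = g * x * g⁻¹ * x.1⁻¹ * (x * (g * y * g⁻¹) * x.1⁻¹) * (g * x * g⁻¹ * x.1⁻¹)⁻¹ := by rw [a1]; group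
        _ = g * (x * y * x.1⁻¹ * y.1⁻¹) * y * g⁻¹ := by group
        _ = _ := by rw [← a2]; group
    calc _ = x.1 * y * x.1⁻¹ * y.1⁻¹ * (g * y * g⁻¹ * y.1⁻¹) * (x.1 * y * x.1⁻¹ * y.1⁻¹)⁻¹ * x := by rw [a3]; group
      _ = x * y * x.1⁻¹ * y.1⁻¹ * (g * y * g⁻¹) * (x.1 * y.1⁻¹) := by group
      _ = _ := by rw [← a4]; group) (s.p ⟨y₀, hy⟩)
  refine ⟨w, h5, fun h7 => h4 ((hH ⟨y₀, hy⟩).1 ?_)⟩
  simpa using sub_mem (AddSubgroup.zmultiples_le.2 ((hH x).2 (mem_centralizer_singleton_iff.2 rfl)) h7) h6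

omit [Finite V] h in
theorem small' (hA : Odd (Nat.card A)) (hcr : CR A s.M) (r k : ℕ) [hr : Fact r.Prime] (hM : Nat.card s.M = r ^ k) [U.Normal]
    (h1 : ∀ j < k, 2 ≤ j → ∀ p, p.Prime → p ∣ r ^ k - r ^ j → p = 2 ∨ p = r)
    (h' : ∀ n, n ∣ r ^ k - 1 → Odd n → n ≡ 1 [MOD r] → n = 1) :
    Nat.card ((centralizer (U : Set A)).map (toPermHom A s.M)) ∣ r ^ k - 1 := by
  classical
  refine small hcr _ r k hM (fun g hg p hp h2 h3 v hv => by_contra fun h4 => ?_) h' hA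
  have := Fact.mk hp
  have := Fintype.ofFinite s.M
  have h5 : toPermHom A s.M g ^ p = 1 := h3 ▸ pow_orderOf_eq_one _
  obtain ⟨j, h6, h7⟩ := (Nat.dvd_prime_pow hr.out).1 (hM ▸ (Fx s.M g).card_addSubgroup_dvd_card)
  obtain ⟨w, h8, h9⟩ := fix_ne s hE hC hg p (fun h => h2 ((Nat.prime_dvd_prime_iff_eq hp hr.out).1
    (hp.dvd_of_dvd_pow (hM ▸ h)))) h5 h4 hv
  have h10 : AddSubgroup.zmultiples v ≤ Fx s.M g := AddSubgroup.zmultiples_le.2 hv
  have h11 := Equiv.Perm.card_fixedPoints_modEq (p := p) (n := 1) (f := toEndHom (α := s.M) g) (by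
    rw [pow_one, ← map_pow]; exact funext fun x => DFunLike.congr_fun ((map_pow (toPermHom A s.M) g p).trans h5) x)
  rw [← Nat.card_eq_fintype_card, ← Nat.card_eq_fintype_card, hM] at h11
  have h12 : 2 ≤ j := by
    by_contra! h12
    have h13 := AddSubgroup.card_dvd_of_le h10
    rw [h7, Nat.dvd_prime_pow hr.out] at h13
    obtain ⟨i, h13, h14⟩ := h13
    have : i ≠ 0 := fun e => h4 (AddSubgroup.zmultiples_eq_bot.1 (AddSubgroup.card_eq_one.1 (by rw [h14, e, pow_zero])))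
    exact h9 (AddSubgroup.eq_of_le_of_card_ge h10 (by rw [h7, h14, show i = j by omega]) ▸ mem_Fx.2 h8)
  refine (h1 j (lt_of_le_of_ne h6 fun e => hp.ne_one ?_) h12 p hp ((Nat.modEq_iff_dvd' (Nat.pow_le_pow_right hr.out.pos h6)).1
    (h7 ▸ h11.symm))).elim (fun e => ?_) h2
  · rw [← h3, orderOf_eq_one_iff]
    exact Equiv.ext fun x => mem_Fx.1 (AddSubgroup.eq_top_of_card_eq _ (by rw [h7, hM, e]) ▸ trivial : x ∈ Fx s.M g)
  · exact Nat.not_even_iff_odd.2 hA (even_iff_two_dvd.2 (e ▸ h3 ▸ (orderOf_map_dvd _ g).trans (orderOf_dvd_natCard g)))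

end Cfsg.Agent.H33
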