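import Cfsg.Agent.H33.BaseG
import Cfsg.Agent.H33.BaseC

/-! Base size two for odd order linear groups, part H: the primitive case and the induction. -/

namespace Cfsg.Agent.H33
universe u
open MulAction Subgroup

attribute [local instance] Sec.act

variable {A V : Type u} [Group A] [Finite A] [AddCommGroup V] [Finite V] [DistribMulAction A V]

theorem Prim.base {K : Type*} [Field K] [Finite K] [Module K V] [FaithfulSMul A V] [Nontrivial V] {U : Subgroup A} {ι : U →* K}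
    (h : Prim V U ι) (hA : Odd (Nat.card A)) (hn : Base.{u} (Nat.card V)) : HasBase A V := by
  obtain ⟨E, s, hEn, hE, hcr, hC⟩ := h.exists_E hA
  have hcr := s.cr_act hcr
  have := h.nU
  obtain ⟨e, he⟩ := h.sq s hE hC
  have hd := h.le_finrank s hE hC
  rw [he, Nat.pow_le_pow_iff_left two_ne_zero] at hd
  have ht : Nat.card V = Nat.card K ^ Module.finrank K V := Module.natCard_eq_pow_finrank
  have hq : 2 ≤ Nat.card K := Finite.one_lt_card
  by_cases h1 : e = 1
  · exact h.one (fun x hx => hC ⟨hx, centralizer_le (relIndex_eq_one.1 (by simp [he, h1])) hx⟩)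
      (ht ▸ Nat.le_self_pow Module.finrank_pos.ne' _)
  have hodd : Odd e := hA.of_dvd_nat ((dvd_pow_self e two_ne_zero).trans (he ▸ (relIndex_dvd_card _ _).trans
    E.card_subgroup_dvd_card))
  have hr : ∀ r, r.Prime → r ∣ e → r ∣ Nat.card U := fun r h1 h2 =>
    h.dvd_u s hE hC h1 (he ▸ h2.trans (dvd_pow_self e two_ne_zero))
  have hu := Nat.le_of_dvd (by omega) h.card_dvd
  have hq4 : 4 ≤ Nat.card K := by
    obtain ⟨r, h2, h3⟩ := Nat.exists_prime_and_dvd h1
    have := Nat.le_of_dvd Nat.card_pos (hr r h2 h3)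
    have := h2.two_le
    have : r ≠ 2 := fun e => by subst e; exact Nat.not_even_iff_odd.2 hodd (even_iff_two_dvd.2 h3)
    omega
  let ψ := toPermHom A s.M
  let D := centralizer (U : Set A) ⊓ ψ.ker
  have hD : ∀ g, g ∈ ψ.ker ↔ ∀ x ∈ E, g * x * g⁻¹ * x⁻¹ ∈ U := fun g =>
    ⟨fun hg x hx => (s.act_eq (x := ⟨x, hx⟩)).1 (DFunLike.congr_fun hg (s.p ⟨x, hx⟩)), fun h => Equiv.ext fun v => by
      obtain ⟨x, rfl⟩ := s.p_surj v
      exact s.act_eq.2 (h x x.2)⟩
  have hED : E ≤ D := le_inf hE fun x hx => (hD x).2 (s.comm x hx)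
  have hc : Nat.card ((centralizer (U : Set A)).map ψ) ≤ e ^ 4 := by
    obtain ⟨v, w, h2⟩ := hn A s.M (by
      rw [s.card, he, ht]
      calc e ^ 2 < (2 ^ e) ^ 2 := Nat.pow_lt_pow_left e.lt_two_pow_self two_ne_zero
        _ = 4 ^ e := by rw [← pow_mul, mul_comm, pow_mul]; rfl
        _ ≤ _ := (Nat.pow_le_pow_left hq4 _).trans (Nat.pow_le_pow_right (by omega) hd)) hA hcr
    rw [show e ^ 4 = e ^ 2 * e ^ 2 by ring, ← he, ← s.card, ← Nat.card_prod]
    refine Nat.card_le_card_of_injective (fun σ => (σ.1 v, σ.1 w)) ?_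
    rintro ⟨_, a, ha, rfl⟩ ⟨_, b, hb, rfl⟩ e'
    exact Subtype.ext (Equiv.ext fun x => inv_smul_eq_iff.1 ((mul_smul b⁻¹ a x).symm.trans (h2 _
      ((mul_smul _ _ _).trans (inv_smul_eq_iff.2 (congrArg Prod.fst e')))
      ((mul_smul _ _ _).trans (inv_smul_eq_iff.2 (congrArg Prod.snd e'))) x)))
  have hCc : Nat.card (centralizer (U : Set A)) ≤ Nat.card U * e ^ 2 * Nat.card ((centralizer (U : Set A)).map ψ) := by
    have h2 := h.pairing (X := D) inf_le_left hE fun x hx => (hD x).1 hx.2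
    rw [rel_cent hE hC inf_le_left] at h2
    rw [← relIndex_bot_left, ← relIndex_mul_relIndex ⊥ D _ bot_le inf_le_left, inf_relIndex_left, relIndex_ker,
      ← relIndex_mul_relIndex ⊥ U D bot_le (s.le.trans hED), relIndex_bot_left, ← he]
    exact Nat.mul_le_mul_right _ (Nat.mul_le_mul_left _ (h2.trans (relIndex_le_of_le_left
      (le_centralizer_iff.1 inf_le_left) (index_ne_zero_of_finite))))
  have b1 : ∀ g ∈ D, g ≠ 1 → Nat.card (Fx V g) ^ 3 ≤ Nat.card V := fun g hg h2 => by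
    by_cases h3 : g ∈ U
    · simpa [h.fpf h3 h2] using Nat.succ_le_of_lt Nat.card_pos
    obtain ⟨x, hx, h4⟩ : ∃ x ∈ E, g * x * g⁻¹ * x⁻¹ ≠ 1 := by
      by_contra! h4
      exact h3 (hC ⟨hg.1, fun x hx => (mul_inv_eq_iff_eq_mul.1 (mul_inv_eq_one.1 (h4 x hx))).symm⟩)
    exact h.third hA hg.1 (hE hx) ((hD g).1 hg.2 x hx) h4
  have b2 : ∀ g ∈ centralizer (U : Set A), g ≠ 1 → Nat.card (Fx V g) ^ 3 ≤ Nat.card V ^ 2 := fun g hg h2 => by
    by_cases h3 : g ∈ ψ.ker
    · exact (b1 g ⟨hg, h3⟩ h2).trans (Nat.le_self_pow two_ne_zero _)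
    obtain ⟨x, hx, h4⟩ : ∃ x ∈ E, g * x * g⁻¹ * x⁻¹ ∉ U := by simpa [hD] using h3
    have h5 := Nat.pow_le_pow_left (card_Fx_sq (V := V) x g) 3
    have h6 := b1 _ (hED (mul_mem (hEn.conj_mem x hx g) (inv_mem hx))) fun e => h4 (e ▸ U.one_mem)
    rw [← Nat.pow_le_pow_iff_left two_ne_zero, ← pow_mul, mul_comm, pow_mul]
    exact h5.trans (by rw [mul_pow]; exact (Nat.mul_le_mul_right _ h6).trans_eq (by ring))
  have hsm : ∀ r k c : ℕ, r.Prime → e ^ 2 = r ^ k → (∀ j < k, 2 ≤ j → ∀ p, p.Prime → p ∣ r ^ k - r ^ j → p = 2 ∨ p = r) →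
      (∀ n ∈ (r ^ k - 1).divisors, Odd n → n ≤ c ∧ (n ≡ 1 [MOD r] → n = 1)) → r ^ k - 1 ≠ 0 →
      Nat.card ((centralizer (U : Set A)).map ψ) ≤ c := fun r k c h2 h3 h4 h5 h6 =>
    have := Fact.mk h2
    (h5 _ (Nat.mem_divisors.2 ⟨small' s hE hC hA hcr r k (s.card.trans (he.trans h3)) h4 fun n h7 h8 =>
      (h5 n (Nat.mem_divisors.2 ⟨h7, h6⟩) h8).2, h6⟩) (hA.of_dvd_nat ((card_map_dvd _ _).trans (card_subgroup_dvd_card _)))).1
  have hf := h.hf
  have hf' := (centralizer (U : Set A)).index.lt_two_pow_self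
  have hA' := (centralizer (U : Set A)).card_mul_index
  have ht3 : Nat.card K ^ 3 ≤ Nat.card V := ht ▸ Nat.pow_le_pow_right (by omega) (by obtain ⟨k, rfl⟩ := hodd; omega)
  by_cases h3 : e = 3
  · subst h3
    have h2 := hsm 3 2 1 (by norm_num) rfl (by omega) (by decide) (by norm_num)
    have h3 : Nat.card A < Nat.card V := by
      have a1 := (Nat.mul_le_pow (a := 2) (by norm_num) _).trans hf
      have a2 := Nat.mul_le_mul (hCc.trans (Nat.mul_le_mul le_rfl h2)) a1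
      rw [mul_left_comm, hA'] at a2
      have a3 : Nat.card U + 1 ≤ Nat.card K := by omega
      have a4 : 9 * Nat.card U < 2 * Nat.card K ^ 2 := by clear * - a3 hq4; nlinarith
      clear * - a2 a4 hq4 ht3
      nlinarith
    refine h.fin hA (fun g hg h4 => ?_) h3
    rw [pow_two (Nat.card V)]
    refine Nat.mul_le_mul ((card_le_card_group _).trans h3.le) ((Nat.pow_le_pow_right Nat.card_pos (by norm_num)).trans
      (b1 g ⟨hg, ?_⟩ h4))
    rw [← relIndex_ker, Nat.le_one_iff_eq_zero_or_eq_one, relIndex_eq_one] at h2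
    exact h2.resolve_left index_ne_zero_of_finite hg
  have h4 := (Nat.pow_le_pow_left hCc 3).trans (num_big hodd (by obtain ⟨k, rfl⟩ := hodd; omega) h.card_dvd hq hr hd hc (by
    rintro (rfl | rfl)
    exacts [hsm 5 2 3 (by norm_num) rfl (by omega) (by decide) (by norm_num),
      hsm 7 2 3 (by norm_num) rfl (by omega) (by decide) (by norm_num)]) (by
    rintro rfl
    refine hsm 3 4 5 (by norm_num) rfl (fun j h1 h2 p hp h => ?_) (by decide) (by norm_num)
    have : p ∣ 2 ^ 3 * 3 ^ 3 := h.trans (by interval_cases j <;> norm_num)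
    exact (hp.dvd_mul.1 this).imp (fun h => (Nat.prime_dvd_prime_iff_eq hp Nat.prime_two).1 (hp.dvd_of_dvd_pow h))
      fun h => (Nat.prime_dvd_prime_iff_eq hp Nat.prime_three).1 (hp.dvd_of_dvd_pow h)))
  rw [← ht] at h4
  refine h.fin hA (fun g hg h5 => ?_) (lt_of_pow_lt_pow_left₀ 3 (by simp) ?_)
  · rw [← Nat.pow_le_pow_iff_left three_ne_zero, mul_pow, ← pow_mul, mul_comm 2, pow_mul]
    exact (Nat.mul_le_mul h4 (Nat.pow_le_pow_left (b2 g hg h5) 2)).trans_eq (by ring)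
  · rw [← hA', mul_pow, pow_succ (Nat.card V)]
    exact Nat.mul_lt_mul_of_le_of_lt h4 ((Nat.pow_lt_pow_left (hf'.trans_le hf) three_ne_zero).trans_le ht3)
      (pow_pos Nat.card_pos _)

theorem irr_base [FaithfulSMul A V] [Nontrivial V] (hA : Odd (Nat.card A)) (hn : Base.{u} (Nat.card V))
    (hirr : ∀ U : AddSubgroup V, Inv A U → U = ⊥ ∨ U = ⊤) : HasBase A V := by
  obtain ⟨U, ⟨h1, h2⟩, h3⟩ := (Set.toFinite {U : Subgroup A | U.Normal ∧ U ≤ centralizer U}).exists_maximal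
    ⟨⊥, inferInstance, bot_le⟩
  let ρ := DistribMulAction.toModuleEnd ℤ V (S := A)
  let R := Subring.closure (ρ '' U)
  have h4 : ∀ x, (∀ u ∈ U, ρ u * x = x * ρ u) → ∀ r ∈ R, r * x = x * r := fun x hx r hr =>
    ((Subring.closure_le (t := Subring.centralizer {x})).2 (by
      rintro _ ⟨u, hu, rfl⟩ _ rfl; exact (hx u hu).symm) hr x rfl).symm
  have h5 : ∀ c ∈ centralizer (U : Set A), ∀ r ∈ R, r * ρ c = ρ c * r := fun c hc =>
    h4 _ fun u hu => by rw [← map_mul, hc u hu, map_mul]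
  have h6 : ∀ r ∈ R, ∀ s ∈ R, r * s = s * r := fun r hr s hs => h4 s (fun u hu => (h5 u (h2 hu) s hs).symm) r hr
  let φ := ConjAct.toConjAct.toMonoidHom.comp ρ.toHomUnits
  have h7 : ∀ a u, φ a • ρ u = ρ (a * u * a⁻¹) := fun a u => by rw [map_mul, map_mul]; rfl
  have h8 : ∀ a, ∀ r ∈ R, φ a • r ∈ R := fun a => (Subring.closure_le (t := R.comap
    (MulSemiringAction.toRingHom _ _ (φ a)))).2 (by
      rintro _ ⟨u, hu, rfl⟩; exact Subring.subset_closure ⟨_, h1.conj_mem u hu a, (h7 a u).symm⟩)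
  refine (dich hn hA hirr R h6 fun a r hr => ⟨_, h8 a r hr, fun v => rfl⟩).elim id fun h9 => ?_
  letI : CommRing R := { (inferInstance : Ring R) with mul_comm := fun r s => Subtype.ext (h6 r r.2 s s.2) }
  have : NoZeroDivisors R := ⟨fun {r s} e => or_iff_not_imp_left.2 fun h => Subtype.ext (LinearMap.ext fun v =>
    h9 r r.2 (fun e => h (Subtype.ext e)) _ (LinearMap.congr_fun (congrArg Subtype.val e) v))⟩
  have : IsDomain R := NoZeroDivisors.to_isDomain R
  have : Finite (Module.End ℤ V) := DFunLike.finite _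
  letI := (Finite.isField_of_domain R).toField
  letI : MulSemiringAction A R :=
    { smul a r := ⟨φ a • r.1, h8 a r r.2⟩
      one_smul r := Subtype.ext ((congrArg (· • r.1) φ.map_one).trans (one_smul _ _))
      mul_smul a b r := Subtype.ext ((congrArg (· • r.1) (φ.map_mul a b)).trans (mul_smul _ _ _))
      smul_zero a := Subtype.ext (smul_zero (φ a))
      smul_add a r s := Subtype.ext (smul_add (φ a) r.1 s.1)
      smul_one a := Subtype.ext (smul_one (φ a))
      smul_mul a r s := Subtype.ext (smul_mul' (φ a) r.1 s.1) }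
  let ψ := MulSemiringAction.toRingAut A R
  refine Prim.base (K := R) (U := U) (ι := (ρ.comp U.subtype).codRestrict R fun u => Subring.subset_closure ⟨u, u.2, rfl⟩)
    ⟨h1, h2, fun X h h' h'' => h3 ⟨h, h''⟩ h', fun _ _ => rfl, fun c hc k v => (LinearMap.congr_fun (h5 c hc k k.2) v).symm,
    ?_⟩ hA hn
  have : Finite ψ.range := .of_surjective _ ψ.rangeRestrict_surjective
  have := Fintype.ofFinite ψ.range
  rw [Module.natCard_eq_pow_finrank (K := FixedPoints.subfield ψ.range R), FixedPoints.finrank_eq_card,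
    ← Nat.card_eq_fintype_card, ← index_ker]
  refine (Nat.pow_le_pow_right two_pos (Nat.le_of_dvd (Nat.pos_of_ne_zero index_ne_zero_of_finite)
    (index_dvd_of_le fun a ha u hu => ?_))).trans (Nat.pow_le_pow_left Finite.one_lt_card _)
  have := (h7 a u).symm.trans (congrArg Subtype.val (RingEquiv.congr_fun ha ⟨ρ u, Subring.subset_closure ⟨u, hu, rfl⟩⟩))
  exact (mul_inv_eq_iff_eq_mul.1 (eq_of_smul_eq_smul (α := V) (LinearMap.congr_fun this))).symm

theorem base_all (n : ℕ) : Base.{u} n := by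
  induction n with
  | zero => exact fun _ _ _ _ _ _ _ h => (Nat.not_lt_zero _ h).elim
  | succ n ih =>
  intro A V _ _ _ _ _ hV hA hcr
  have hn : Base.{u} (Nat.card V) := fun A V _ _ _ _ _ h => ih A V (by omega)
  obtain _ | _ := subsingleton_or_nontrivial V
  · exact ⟨0, 0, fun _ _ _ _ => Subsingleton.elim _ _⟩
  by_cases hirr : ∀ U : AddSubgroup V, Inv A U → U = ⊥ ∨ U = ⊤
  · let ρ := DistribMulAction.toModuleAut ℤ V (S := A)
    have : Finite ρ.range := .of_surjective _ ρ.rangeRestrict_surjective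
    obtain ⟨v, w, h⟩ := irr_base (A := ρ.range) (hA.of_dvd_nat (card_range_dvd ρ)) hn
      fun U hU => hirr U fun a => hU ⟨_, a, rfl⟩
    exact ⟨v, w, fun a => h ⟨_, a, rfl⟩⟩
  push Not at hirr
  obtain ⟨Y, h1, h2, h3⟩ := hirr
  obtain ⟨W, h4, h5, h6⟩ := hcr Y h1
  have h7 := fun Y (h : Inv A Y) (h' : Y ≠ ⊤) => hn.sub hA ⊤ Y (lt_of_le_of_ne (AddSubgroup.card_le_card_addGroup Y)
    fun e => h' (AddSubgroup.eq_top_of_card_eq Y e)) (fun a _ => h a) fun X _ hX =>
      let ⟨Z, h1, h2, h3⟩ := hcr X fun a => hX a trivial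
      ⟨Z, fun a _ => h1 a, h2, h3 ▸ le_top⟩
  obtain ⟨v, hv, w, hw, h8⟩ := h7 Y h1 h3
  obtain ⟨v', hv', w', hw', h9⟩ := h7 W h4 (by rintro rfl; exact h2 (by simpa using h5))
  have h10 : ∀ (a : A), ∀ x ∈ Y, ∀ y ∈ W, a • (x + y) = x + y → a • x = x ∧ a • y = y := fun a x hx y hy e => by
    have e1 : a • x - x = y - a • y := by rw [sub_eq_sub_iff_add_eq_add, ← smul_add, e, add_comm]
    have e2 : a • x - x = 0 := AddSubgroup.mem_bot.1 (h5 ▸ ⟨Y.sub_mem (h1 a x hx) hx, e1 ▸ W.sub_mem hy (h4 a y hy)⟩)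
    exact ⟨sub_eq_zero.1 e2, (sub_eq_zero.1 (e1 ▸ e2)).symm⟩
  refine ⟨v + v', w + w', fun a e e' x => ?_⟩
  obtain ⟨y, hy, z, hz, rfl⟩ := AddSubgroup.mem_sup.1 (h6.ge (AddSubgroup.mem_top x))
  rw [smul_add, h8 a trivial (h10 a v hv v' hv' e).1 (h10 a w hw w' hw' e').1 y hy,
    h9 a trivial (h10 a v hv v' hv' e).2 (h10 a w hw w' hw' e').2 z hz]

end Cfsg.Agent.H33
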