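import Cfsg.Agent.H87.Dict6
import Cfsg.Agent.H33.Kernel
import Cfsg.Agent.H33.Second
import Cfsg.Agent.H49.Core

/-! # Normal `p'`-subgroups in the kernel of a block, along chains of Brauer pairs -/

set_option autoImplicit false
set_option linter.unusedSectionVars false
open Cfsg MonoidAlgebra

namespace Cfsg.Agent.H33

open H32 H87

section Alg

variable {k : Type*} [CommRing k] {G : Type*} [Group G] {L L' H T : Subgroup G} {f e : k[G]}

/-- `L` acts trivially on `f` by left multiplication. -/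
def Triv (L : Subgroup G) (f : k[G]) : Prop := ∀ x ∈ L, single x (1 : k) * f = f

theorem Triv.mono (h : Triv L f) (hL : L' ≤ L) : Triv L' f := fun x hx => h x (hL hx)

theorem Triv.mul (h : Triv L f) (e : k[G]) : Triv L (f * e) := fun x hx => by
  rw [← mul_assoc, h x hx]

theorem Triv.of_mul (h : Triv L f) (hfe : f * e = e) : Triv L e := hfe ▸ h.mul e

theorem Triv.cj (h : Triv L f) (g : G) : Triv (cjS g L) (cj g f) := fun x hx => by
  have := congrArg (H87.cj g) (h _ (mem_cjS.1 hx))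
  rwa [map_mul, cj_single, show g * (g⁻¹ * x * g) * g⁻¹ = x by group] at this

theorem Triv.Br (h : Triv L f) (R : Subgroup G) : Triv (L ⊓ Ce R) (Br R f) := fun x hx => by
  rw [← Br_mul_left (fun y hy => by
    classical
    rw [coeff_single, Finsupp.single_apply, if_neg (by rintro rfl; exact hy hx.2)]), h x hx.1]

variable [Finite G]

open Classical in
variable (k) in
/-- The sum of the elements of `L`. -/
noncomputable def sig (L : Subgroup G) : k[G] := H87.ofFun fun x => if x ∈ L then 1 else 0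

open Classical in
theorem coeff_sig (L : Subgroup G) (x : G) : (sig k L).coeff x = if x ∈ L then 1 else 0 :=
  H87.coeff_ofFun _ _

theorem triv_sig (L : Subgroup G) : Triv L (sig k L) := fun x hx => ext_coeff fun y => by
  rw [coeff_single_mul_apply, one_mul, coeff_sig, coeff_sig]
  classical
  exact if_congr (L.mul_mem_cancel_left (inv_mem hx)) rfl rfl

theorem Triv.sig_mul (h : Triv L f) : sig k L * f = (Nat.card L : k) • f := by
  classical
  have := Fintype.ofFinite G
  refine ext_coeff fun y => ?_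
  rw [H87.coeff_mul_eq_sum, Finset.sum_congr rfl (g := fun x => if x ∈ L then f.coeff y else 0)]
  · rw [← Finset.sum_filter, Finset.sum_const, coeff_smul, Finsupp.smul_apply, smul_eq_mul,
      nsmul_eq_mul, Nat.card_eq_fintype_card, Fintype.card_subtype]
  · intro x _
    rw [coeff_sig]
    split_ifs with hx
    · rw [← congrArg (fun a : k[G] => a.coeff y) (h x hx), coeff_single_mul_apply]
    · rw [zero_mul]

theorem Br_sig (L R : Subgroup G) : Br R (sig k L) = sig k (L ⊓ Ce R) := ext_coeff fun y => by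
  rw [coeff_Br, coeff_sig, coeff_sig]
  by_cases h1 : y ∈ L <;> by_cases h2 : y ∈ Ce R <;> simp [h1, h2]

theorem inv_sig (hT : T ≤ No L) : Inv T (sig k L) := inv_of_coeff fun t ht x => by
  have : t * x * t⁻¹ ∈ L ↔ x ∈ L :=
    ⟨fun h => by simpa [mul_assoc] using conj_mem_of_No' (hT ht) h, conj_mem_of_No (hT ht)⟩
  rw [coeff_sig, coeff_sig]
  classical
  exact if_congr this rfl rfl

theorem sig_mem_fix (hH : L ≤ H) (hT : T ≤ No L) : sig k L ∈ fix k H T :=
  ⟨fun x hx => by rw [coeff_sig, if_neg fun h => hx (hH h)], inv_sig hT⟩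

end Alg

section Field

variable {k : Type*} [Field k] {G : Type*} [Group G] [Finite G] {p : ℕ} [Fact p.Prime] [CharP k p]
  {L H T : Subgroup G} {f g : k[G]}

theorem triv_of_ne_zero (hf : Blk H T f) (hH : L ≤ H) (hT : T ≤ No L) (hL : ¬ p ∣ Nat.card L)
    (h0 : sig k L * f ≠ 0) : Triv L f := by
  have hc : (Nat.card L : k) ≠ 0 := fun h => hL ((CharP.cast_eq_zero_iff k p _).1 h)
  have hi : IsIdempotentElem ((Nat.card L : k)⁻¹ • sig k L) := by
    rw [IsIdempotentElem, smul_mul_smul_comm, (triv_sig L).sig_mul, smul_smul, mul_assoc,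
      inv_mul_cancel₀ hc, mul_one]
  have := hf.mul_eq_of_ne_zero (Subalgebra.smul_mem _ (sig_mem_fix hH hT) _) hi (by
    rw [smul_mul_assoc]
    exact smul_ne_zero (inv_ne_zero hc) h0)
  rw [smul_mul_assoc, ← mul_smul_comm] at this
  exact this ▸ (triv_sig L).mul _

theorem triv_of_Br (hf : Blk H T f) (hH : L ≤ H) (hT : T ≤ No L) (hL : ¬ p ∣ Nat.card L)
    {R : Subgroup G} (hR : IsPGroup p R) (hRL : R ≤ No L) (hi : Inv R f) (hg : Br R f * g = g)
    (hg0 : g ≠ 0) (h : Triv (L ⊓ Ce R) g) : Triv L f := by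
  refine triv_of_ne_zero hf hH hT hL fun h0 => ?_
  have h1 : sig k (L ⊓ Ce R) * g = 0 := by
    rw [← hg, ← mul_assoc, ← Br_sig, ← Br_mul hR (inv_sig hRL) hi, h0, map_zero, zero_mul]
  rw [h.sig_mul, smul_eq_zero, CharP.cast_eq_zero_iff k p] at h1
  exact h1.elim (fun h => hL (h.trans (Subgroup.card_dvd_of_le inf_le_left))) hg0

variable {ρ : Set ℕ} {P Q : Subgroup G} {e : k[G]}

theorem not_dvd_piCoreOf (hρ : p ∉ ρ) (X : Subgroup G) : ¬ p ∣ Nat.card (piCoreOf ρ X) :=
  fun h => hρ (H49.piCoreOf_pi ρ X p Fact.out h)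

theorem triv_down_aux (hρ : p ∉ ρ) {a c : Subgroup G × k[G]}
    (h : Relation.ReflTransGen (NSub p ⊤) a c) (he : Triv (piCoreOf ρ (Ce c.1)) c.2) :
    Triv (piCoreOf ρ (Ce a.1)) a.2 := by
  induction h using Relation.ReflTransGen.head_induction_on with
  | refl => exact he
  | head h _ ih =>
    exact triv_of_Br h.left.blk_Ce (H49.piCoreOf_le _ _) (H49.le_norm_piCoreOf _ _)
      (not_dvd_piCoreOf hρ _) h.right.pgp (H49.norm_piCoreOf _ (h.norm.trans (No_le_No_Ce _)))
      h.inv h.br h.right.blk.ne_zero (ih.mono (H49.piCoreOf_inf_le _ (Ce_anti h.le)))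

/-- `O_ρ(C(Q))` acts trivially on `f` if this holds for some pair containing `(Q, f)`. -/
theorem triv_down (hρ : p ∉ ρ) (h : Sub p ⊤ Q f P e) (he : Triv (piCoreOf ρ (Ce P)) e) :
    Triv (piCoreOf ρ (Ce Q)) f := triv_down_aux (a := (Q, f)) (c := (P, e)) hρ h he

theorem triv_up_aux {N : Subgroup G} {a c : Subgroup G × k[G]}
    (h : Relation.ReflTransGen (NSub p N) a c) (hf : Triv (L ⊓ Ce a.1) a.2) :
    Triv (L ⊓ Ce c.1) c.2 := by
  induction h with
  | refl => exact hf
  | tail _ h ih =>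
    exact ((ih.Br _).of_mul h.br).mono (le_inf (inf_le_inf_left _ (Ce_anti h.le)) inf_le_right)

theorem triv_up {N : Subgroup G} (h : Sub p N Q f P e) (hf : Triv L f) : Triv (L ⊓ Ce P) e :=
  triv_up_aux (a := (Q, f)) (c := (P, e)) h (hf.mono inf_le_left)

/-- If `O_ρ(N(D))` acts trivially on the Brauer correspondent then `O_ρ(C(Q))` acts trivially on
`f` for every pair `(Q, f)` of the block. -/
theorem triv_bpair (hρ : p ∉ ρ) {b : k[G]} (hb : Blk ⊤ ⊤ b) {D : Subgroup G} (hD : IsDef p ⊤ b D)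
    (h : Triv (piCoreOf ρ (No D)) (Br D b)) (hf : BPair p ⊤ ⊤ b Q f) :
    Triv (piCoreOf ρ (Ce Q)) f := by
  obtain ⟨e, he⟩ := hD.exists_maxPair le_rfl top_le_No_top hb
  obtain ⟨x, -, hx⟩ := he.conj_sub le_rfl top_le_No_top hb hf
  have h1 := (triv_down hρ hx ((h.of_mul he.bpair.br).mono
    (H49.piCoreOf_le_of_normal _ (Ce_le_No _) (No_le_No_Ce _)))).cj x⁻¹
  rw [cj_inv_cj] at h1
  refine h1.mono (le_of_eq ?_)
  rw [← cjS_Ce]
  exact ((H49.cj_piCoreOf x⁻¹ ρ _).trans (congrArg _ (cjS_inv_cjS x _))).symm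

/-- A pair which is maximal for a block of a subgroup containing the centraliser is centric. -/
theorem inf_Ce_le_of_maxPair {b : k[G]} (hb : Blk H H b) (hm : MaxPair p H H b Q f)
    (hC : Ce Q ≤ H) (he : Pair p ⊤ P e) (hs : Sub p ⊤ Q f P e) : P ⊓ Ce Q ≤ Q := by
  have h1 : P ⊓ Ce Q ≤ P ⊓ No Q := inf_le_inf_left _ (Ce_le_No _)
  obtain ⟨g, hg⟩ := hm.bpair.pair.exists_nsub_sup (R := P ⊓ Ce Q) (he.pgp.to_le inf_le_left)
    ((inf_le_right.trans hC).trans Subgroup.le_normalizer) (h1.trans inf_le_right)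
    ((hs.inv he).mono h1) (Br_ne_zero_mono h1 (hs.Br_ne_zero he))
  have := hm.max _ g (hm.bpair.of_sub' le_rfl hb.mem hb.idem hg.sub
    (sup_le hm.bpair.le (inf_le_right.trans hC))) hg.sub
  exact le_sup_right.trans this.le

end Field

variable {M : Ideal AlgInt} [hMm : M.IsMaximal] {G K : Type*} [Group G] [Finite G] [Group K]
  [Finite K] {p : ℕ} {ι : K →* G} {N L : Subgroup G}

theorem rd_sig (L : Subgroup G) : rd M (sig ℂ L) = sig (Res M) L := ext_coeff fun x => by
  rw [coeff_rd, coeff_sig, coeff_sig]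
  split_ifs
  · exact redC_one
  · exact redC_zero

theorem sig_mem_RG (L : Subgroup G) : sig ℂ L ∈ RG M G := fun x => by
  rw [coeff_sig]
  split_ifs
  · exact one_mem _
  · exact zero_mem _

open Classical in
theorem lam_sig [Fintype K] (h : Emb ι N) (hN : N ≤ No L) (ξ : IrrCharacter K) :
    lam ι ξ (sig (Res M) L) =
      redC M (om (ξ : K → ℂ) fun x => if x ∈ L.comap ι then 1 else 0) := by
  rw [← rd_sig, h.lam_rd ξ (inv_sig hN) (sig_mem_RG L), omega_eq_om]
  congr 2

/-- A normal `p'`-subgroup lies in the kernel of a block iff it acts trivially on the block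
idempotent. -/
theorem triv_idm_iff (hM : IsPModular p M) (h : Emb ι N) (hLN : L ≤ N) (hN : N ≤ No L)
    (hL : ¬ p ∣ Nat.card L) {b : Set (IrrCharacter K)} (hb : IsPBlock M b) :
    Triv L (idm M ι b) ↔ ∀ x, ι x ∈ L → x ∈ blockKer b := by
  classical
  have := Fintype.ofFinite K
  have := res_charP hM
  have hc : (Nat.card L : Res M) ≠ 0 := fun h => hL ((CharP.cast_eq_zero_iff _ p _).1 h)
  have : (L.comap ι).Normal := ⟨fun n hn g => by
    simpa using conj_mem_of_No (hN (h.mem g)) hn⟩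
  refine ⟨fun ht x hx ξ hξ => apply_eq_degree_of_om_ne_zero (L.comap ι) ξ (fun h0 => hc ?_) hx,
    fun hk => ?_⟩
  · have h1 := congrArg (lam ι ξ) ht.sig_mul
    rw [h.lam_mul ξ (sig_mem_fix hLN hN) (h.idm_mem_fix b).2, h.lam_smul ξ _ (h.idm_mem_fix b).2,
      lam_idm_of_mem h.inj hb hξ, mul_one, mul_one, lam_sig h hN, h0, redC_zero] at h1
    exact h1.symm
  · obtain ⟨ξ, hξ⟩ := isPBlock_nonempty hb
    obtain ⟨u, -, hu⟩ := (h.lam_ne_zero_iff hb hξ (sig_mem_fix hLN hN)).1 (by
      rw [lam_sig h hN, om_indicator_of_le_ker _ ξ fun g hg => hk g hg ξ hξ, redC_natCast,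
        ← Subgroup.card_map_of_injective h.inj, h.map_comap hLN]
      exact hc)
    exact hu ▸ (triv_sig L).mul u

theorem mem_piCoreOf_iff {ρ : Set ℕ} {X : Subgroup G} {x : X} :
    (x : G) ∈ piCoreOf ρ X ↔ x ∈ piCore ρ X := mem_map_iff' X.subtype_injective

theorem triv_piCoreOf_iff [Fact p.Prime] (hM : IsPModular p M) {ρ : Set ℕ} (hρ : p ∉ ρ)
    {X : Subgroup G} {b : Set (IrrCharacter X)} (hb : IsPBlock M b) :
    Triv (piCoreOf ρ X) (idm M X.subtype b) ↔ ∀ x ∈ piCore ρ X, x ∈ blockKer b := by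
  rw [triv_idm_iff hM (emb_subtype X) (H49.piCoreOf_le _ _) (H49.le_norm_piCoreOf _ _)
    (not_dvd_piCoreOf hρ _) hb]
  exact forall_congr' fun x => imp_congr_left mem_piCoreOf_iff

/-- The idempotent of the Brauer correspondent. -/
theorem idm_eq_Br (hM : IsPModular p M) {B : Set (IrrCharacter G)} {D : Subgroup G}
    (hD : IsDefectGroup p M B D) {b : Set (IrrCharacter (No D))}
    (hb : IsInducedBlock M (No D) b B) : idm M (No D).subtype b = Br D (eB M B) := by
  have := Fact.mk hM.1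
  have := res_charP hM
  obtain ⟨h1, h2, h3⟩ := isInducedBlock_iff.1 hb
  have hD' := isDef_of_isDefectGroup hM h2 hD
  have h4 := (emb_subtype (No D)).blk_idm h1
  have h5 := Br_eq_self_of_idem le_rfl hD'.pgp Subgroup.le_normalizer le_rfl h4.mem h4.idem
  have h6 := Ind.Br_mul_Br hM (emb_subtype _) emb_id le_top hD'.pgp le_top
    (inf_le_right.trans (Ce_le_No D)) (inv_of_le_fix Subgroup.le_normalizer) h1 h2 h3
  rw [idm_id, h5] at h6
  have h7 := hD'.blk_Br le_rfl top_le_No_top (blk_eB h2)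
  rw [top_inf_eq, top_inf_eq] at h7
  have h8 := (blk_inf_Ce_iff le_rfl hD'.pgp Subgroup.le_normalizer le_rfl).2 h4
  rw [inf_eq_right.2 (Ce_le_No D)] at h8
  exact (h7.eq_of_mul_ne_zero (isComm_fix (Ce_le_No D)) h8 (h6.symm ▸ h4.ne_zero)).symm

/-- A pair of a block of a subgroup containing the centraliser is a pair of the induced block. -/
theorem bpair_of_induced (hM : IsPModular p M) {H Q : Subgroup G} {b : Set (IrrCharacter H)}
    {B : Set (IrrCharacter G)} (hb : IsInducedBlock M H b B) (hC : Ce Q ≤ H) {f : (Res M)[G]}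
    (hf : BPair p H H (idm M H.subtype b) Q f) : BPair p ⊤ ⊤ (eB M B) Q f := by
  obtain ⟨h1, h2, h3⟩ := isInducedBlock_iff.1 hb
  have h6 := Ind.Br_mul_Br hM (emb_subtype _) emb_id le_top hf.pair.pgp le_top
    (inf_le_right.trans hC) (inv_of_le_fix hf.le) h1 h2 h3
  rw [idm_id] at h6
  refine ⟨⟨hf.pair.pgp, le_No_top _, ?_⟩, le_top, by rw [← hf.br, ← mul_assoc, h6]⟩
  have := hf.pair.blk
  rwa [inf_eq_right.2 hC, ← top_inf_eq (Ce Q)] at this

end Cfsg.Agent.H33
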