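import Cfsg.Agent.H86.Tau
import Cfsg.Agent.H86.Contr2
import Cfsg.Agent.H33.Triv

/-! # Major subsections: orthogonality of contributions, conjugacy, Galois averaging -/

set_option autoImplicit false
set_option linter.unusedSectionVars false
open Cfsg MonoidAlgebra Subgroup
open scoped ComplexConjugate

namespace Cfsg.Agent.H33

open H32 H87 H86

/-- A Bessel inequality for a family which is orthogonal up to multiplicity `e`. -/
theorem bessel {G ι : Type*} [Group G] [Fintype G] (s : Finset ι) (f : ι → G → ℂ) {χ : G → ℂ}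
    (hχ : classInner χ χ = 1) (m : ι → ℝ) {e : ℝ} (he : 0 < e)
    (h1 : ∀ i ∈ s, classInner (f i) χ = m i)
    (h2 : ∀ j ∈ s, (∑ i ∈ s, classInner (f i) (f j)).re ≤ e * m j) : ∑ i ∈ s, m i ≤ e := by
  have h3 : classInner (∑ i ∈ s, f i) χ = (∑ i ∈ s, m i : ℝ) := by
    rw [H5.classInner_sum_left, Finset.sum_congr rfl h1, Complex.ofReal_sum]
  have h4 : classInner χ (∑ i ∈ s, f i) = (∑ i ∈ s, m i : ℝ) := by
    rw [← H5.conj_classInner, h3, Complex.conj_ofReal]
  have h5 : (classInner (∑ i ∈ s, f i) (∑ i ∈ s, f i)).re ≤ e * ∑ i ∈ s, m i := by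
    rw [H5.classInner_sum_right, Complex.re_sum, Finset.mul_sum]
    exact Finset.sum_le_sum fun j hj => H5.classInner_sum_left s f (f j) ▸ h2 j hj
  have h6 := H5.classInner_self_re_nonneg (∑ i ∈ s, f i - (e : ℂ) • χ)
  rw [H5.classInner_sub_left, H5.classInner_sub_right, H5.classInner_sub_right,
    H5.classInner_smul_left, H5.classInner_smul_left, H5.classInner_smul_right,
    H5.classInner_smul_right, h3, h4, hχ, Complex.conj_ofReal] at h6
  simp only [Complex.sub_re, ← Complex.ofReal_mul, mul_one, Complex.ofReal_re] at h6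
  nlinarith

theorem _root_.Cfsg.Agent.H86.Fam.lift {n N m : ℕ} {ω : ℂ} {F : ℕ → ℂ} (h : Fam n (ω ^ m) F)
    (hn : n ∣ N) : Fam N ω F := by
  obtain ⟨P, hP⟩ := h
  refine ⟨P.comp (Polynomial.X ^ m), fun k hk => ?_⟩
  rw [hP k (hk.coprime_dvd_left hn), Polynomial.aeval_comp, map_pow, Polynomial.aeval_X, ← pow_mul,
    ← pow_mul, mul_comm]

/-- Conjugate subsections contained in a maximal pair with centre containing both elements are
conjugate under the stabiliser of the maximal pair. -/
theorem exists_stab_conj {k G : Type*} [Field k] [Group G] [Finite G] {p : ℕ} [Fact p.Prime]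
    [CharP k p] {b f g g' : k[G]} (hb : Blk ⊤ ⊤ b) {D Q Q' : Subgroup G}
    (hm : MaxPair p ⊤ ⊤ b D f) (hs : Sub p ⊤ Q g D f) (hs' : Sub p ⊤ Q' g' D f) (hQ : D ≤ Ce Q)
    (hQ' : D ≤ Ce Q') {x : G} (h1 : cjS x Q = Q') (h2 : cj x g = g') :
    ∃ t ∈ Ce Q', t * x ∈ No D ⊓ stab f := by
  have hs2 := hs.cj (x := x) (le_No_top ⊤ (mem_top x))
  rw [h1, h2] at hs2
  have hm2 := (hm.cj_of_mem top_le_No_top hb.inv (mem_top x)).inf_Ce hb hs2
    (by rw [← h1, ← cjS_Ce]; exact cjS_mono x hQ)
  obtain ⟨t, ht, h3, h4⟩ := hm2.conj le_rfl le_normalizer (hs'.pair_iff.2 hm.bpair.pair).blk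
    (hm.inf_Ce hb hs' hQ')
  exact ⟨t, ht.2, mem_No_iff_cjS.2 ((cjS_mul _ _ _).trans h3), mem_stab.2 ((cj_mul _ _ _).trans h4)⟩

theorem card_filter_conj_le {G : Type*} [Group G] [Finite G] {H T : Subgroup G} {v : G}
    (hv : ∀ h ∈ H, h * v = v * h) (s : Finset G) (hs : ∀ u ∈ s, ∃ t ∈ T, u = t * v * t⁻¹) :
    s.card ≤ H.relIndex T := by
  classical
  have := Fintype.ofFinite (T ⧸ H.subgroupOf T)
  rw [relIndex, index, Nat.card_eq_fintype_card, ← Finset.card_univ]
  refine (Finset.card_le_card (t := Finset.univ.image fun q : T ⧸ H.subgroupOf T =>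
    (q.out : G) * v * (q.out : G)⁻¹) fun u hu => ?_).trans Finset.card_image_le
  obtain ⟨t, ht, rfl⟩ := hs u hu
  obtain ⟨h, hh⟩ := QuotientGroup.mk_out_eq_mul (H.subgroupOf T) ⟨t, ht⟩
  refine Finset.mem_image.2 ⟨_, Finset.mem_univ (QuotientGroup.mk ⟨t, ht⟩), ?_⟩
  rw [hh, coe_mul, mul_assoc t, show ((h : T) : G) * v = v * (h : T) from hv _ h.2]
  simp only [coe_mul]
  group

variable {M : Ideal AlgInt} [hMm : M.IsMaximal] {G : Type*} [Group G] [Fintype G] {p : ℕ}

/-- The components of a class function along two subsections are orthogonal unless the subsections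
are conjugate. -/
theorem ci_sec_gen (hM : IsPModular p M) {u v : G} (hu : ∃ k, orderOf u = p ^ k)
    (hv : ∃ k, orderOf v = p ^ k) {C C' : Subgroup G} [Fintype C] [Fintype C'] (hC : IsCent C u)
    (hC' : IsCent C' v) {b : Set (IrrCharacter C)} (hb : IsPBlock M b)
    {b' : Set (IrrCharacter C')} (hb' : IsPBlock M b') {χ : G → ℂ} (hχ : IsClassFunction G χ) :
    classInner (sec p hC (gen p C u b χ)) (sec p hC' (gen p C' v b' χ)) = 0 ∨
      (classInner (sec p hC (gen p C u b χ)) (sec p hC' (gen p C' v b' χ)) = con p C' v b' χ χ ∧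
        ∃ x, x * u * x⁻¹ = v ∧ cj x (idm M C.subtype b) = idm M C'.subtype b') := by
  rw [ci_sec_right hC' (isClassFunction_sec _ _)]
  by_cases h : IsConj u v
  · obtain ⟨x, rfl⟩ := isConj_iff.1 h
    have h1 : cjS x C = C' := by rw [hC.eq, hC'.eq, cjS_centralizer_singleton]
    obtain ⟨c, hc, hcx⟩ := (emb_subtype C').exists_idm_eq
      (h1 ▸ ((emb_subtype C).blk_idm hb).cj x : Blk C' C' (cj x (idm M C.subtype b)))
    have h2 : pRegularPart p (shift C' (x * u * x⁻¹) (sec p hC (gen p C u b χ))) =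
        gen p C' (x * u * x⁻¹) c χ := by
      rw [gen_eq hM hc]
      refine reg_congr fun y hy => ?_
      let z : C := ⟨x⁻¹ * y * x, mem_cjS.1 (h1.symm ▸ y.2)⟩
      have hz : ¬ p ∣ orderOf z := by
        rwa [← orderOf_coe, ← orderOf_conj' _ x, show x * (x⁻¹ * y * x) * x⁻¹ = y by group,
          orderOf_coe]
      have e : x * u * x⁻¹ * y = x * (u * z) * x⁻¹ := by simp only [z]; group
      rw [← tau_idm hχ hC' hc, hcx, shift_apply, e, tau_cj hχ x _ ((emb_subtype C).blk_idm hb).idem,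
        tau_idm hχ hC hb, isClassFunction_sec, sec_apply_of_regular hM.1 hC hu
          (isClassFunction_gen _ _) hz, gen_eq hM hb, reg_of_regular _ hz]
      exact ((emb_subtype C).blk_idm hb).inv.mono (zpowers_le_of_mem (mul_mem hC.mem z.2))
    rw [h2]
    by_cases hcb : c = b'
    · subst hcb
      exact Or.inr ⟨rfl, x, rfl, hcx.symm⟩
    · left
      rw [← blockPart_gen c, H86.classInner_blockPart, gen.eq_1 p C' _ b',
        blockPart_blockPart_of_disjoint (block_disjoint hc hb' hcb), H5.classInner_zero_right]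
  · left
    rw [(reg_eq_zero_iff (χ := shift C' v (sec p hC _))).2 fun y hy => sec_eq_zero hM.1 hC hu _
      (hC'.isPPart hv hy) fun h' => h h'.symm, H5.classInner_zero_left]

/-- The contribution of a major subsection to a character of the block is nonzero. -/
theorem con_self_ne_zero (hM : IsPModular p M) {u : G} (hu : ∃ k, orderOf u = p ^ k)
    {C : Subgroup G} [Fintype C] (hC : IsCent C u) {b : Set (IrrCharacter C)}
    {B : Set (IrrCharacter G)} (hind : IsInducedBlock M C b B)
    (hd : blockDefect p b = blockDefect p B) {χ : IrrCharacter G} (hχ : χ ∈ B) :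
    con p C u b χ χ ≠ 0 := fun h => by
  obtain ⟨ψ, hψ, h0⟩ := H86.exists_height_zero (p := p) ⟨χ, hχ⟩
  refine (con_div_mem_iff hM hC hu hind hd hψ hχ).1 ?_ h0
  rw [con, H5.classInner_self_eq_zero.1 h, H5.classInner_zero_right, mul_zero, zero_div]
  exact zero_mem _

/-- Galois averaging of the contributions of the major subsections `(u ^ k, b)`. -/
theorem totient_mul_le_sum_con (hM : IsPModular p M) {u : G} {n : ℕ} (hu : orderOf u ∣ p ^ n)
    {C : Subgroup G} [Fintype C] (hC : IsCent C u) {b : Set (IrrCharacter C)}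
    {B : Set (IrrCharacter G)} (hind : IsInducedBlock M C b B)
    (hd : blockDefect p b = blockDefect p B) {χ : IrrCharacter G} (hχ : χ ∈ B) :
    ((p ^ n).totient : ℝ) * p ^ blockHeight p B χ ≤
      p ^ blockDefect p B * ∑ k ∈ cop (p ^ n), (con p C (u ^ k) b χ χ).re := by
  obtain ⟨ω, hω⟩ := exists_primitiveRoot hM.1 n
  have hu' : ∃ k, orderOf u = p ^ k := ((Nat.dvd_prime_pow hM.1).1 hu).imp fun _ h => h.2
  obtain ⟨m, hm⟩ := hu
  have hv := H7.isGeneralizedCharacter_of_isCharacter' (H5.isCharacter_of_isIrr χ.2)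
  have h1 := (fam_con hM hC (hω.pow (pow_pos hM.1.pos n) (hm.trans (mul_comm _ _))) hind.1 hv
    hv).lift (N := p ^ n) ⟨m, hm⟩
  rw [hd] at h1
  have h2 := h1.pow_totient_le hM hω (j := blockHeight p B χ)
    (by simpa only [pow_one] using con_div_mem hM hC hu' hind.1 hv hχ)
    (by
      simp only [pow_one]
      exact mul_ne_zero (pow_ne_zero _ (p_ne_zero_complex hM.1))
        (con_self_ne_zero hM hu' hC hind hd hχ)) 1
  simp only [pow_one, norm_mul, norm_pow, Complex.norm_natCast] at h2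
  rw [Finset.mul_sum]
  refine h2.trans (le_of_eq (Finset.sum_congr rfl fun k _ => ?_))
  rw [con, H5.classInner_self_eq, Complex.ofReal_re, Complex.norm_real,
    Real.norm_of_nonneg (by positivity)]

end Cfsg.Agent.H33
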