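import Cfsg.Agent.H33.OutA

/-! Base sizes of solvable linear groups, outer induction, part B: regular colourings of solvable
permutation groups. -/

namespace Cfsg.Agent.H33
universe u
open MulAction Pointwise

/-- colourings of modules -/
def MC (q m n : ℕ) : Prop := ∀ (K M : Type u) [Group K] [Finite K] [AddCommGroup M] [Finite M] [DistribMulAction K M],
  Nat.card M < n → Group.IsSolvable K → (Nat.card K).Coprime m → (Nat.card M).Coprime m → CR K M →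
  ∃ c : M → ZMod q, (∀ x, c x = 0 ↔ x = 0) ∧ (∀ k : K, (∀ x, c (k • x) = c x) → ∀ x : M, k • x = x) ∧
    (Nat.card M = q → ¬ c.Surjective)

theorem exists_F (q : ℕ) [Fact q.Prime] : ∃ F : (ZMod q → ℕ) → ZMod q, ∀ n : ZMod q → ℕ, (∃ i j, n i ≠ n j) →
    ∀ γ, ∃ j, F (fun i => n (i - j)) = γ := by
  classical
  refine ⟨fun n => ∑ i ∈ Finset.univ.filter fun i => ∀ k, n i ≤ n k, i, fun n ⟨i, j, h⟩ γ => ?_⟩
  let S := Finset.univ.filter fun i => ∀ k, n i ≤ n k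
  have h1 : (S.card : ZMod q) ≠ 0 := fun e => by
    obtain ⟨k, -, hk⟩ := Finset.univ.exists_min_image n Finset.univ_nonempty
    have := Nat.le_of_dvd (Finset.card_pos.2 ⟨k, by simpa [S] using hk⟩) ((ZMod.natCast_eq_zero_iff _ _).1 e)
    have := fun i => (Finset.mem_filter.1 ((S.eq_univ_of_card (S.card_le_univ.antisymm (by rwa [ZMod.card]))).ge
      (Finset.mem_univ i))).2
    exact h ((this i j).antisymm (this j i))
  refine ⟨(γ - ∑ i ∈ S, i) / S.card, ?_⟩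
  generalize hd : (γ - ∑ i ∈ S, i) / S.card = d
  beta_reduce
  rw [← Finset.sum_equiv (s := S) (f := (· + d)) (Equiv.addRight d) (fun i => by
    simpa [S] using (Equiv.subRight d).forall_congr_right.symm) fun _ _ => rfl, Finset.sum_add_distrib, Finset.sum_const,
    nsmul_eq_mul, ← hd, mul_div_cancel₀ _ h1, add_sub_cancel]

variable {q m n : ℕ} [Fact q.Prime] (hn : MC.{u} q m n)
include hn

theorem col_block {S Ω : Type u} [Group S] [Finite S] [Finite Ω] [MulAction S Ω] (hΩ : Nat.card Ω < n)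
    (hS : Group.IsSolvable S) (hm : (Nat.card S).Coprime m) {N K : Subgroup S} [hN : N.Normal] [hK : K.Normal]
    (h1 : ∀ X : Subgroup S, X.Normal → X < N → X = ⊥) (h2 : ∀ x ∈ N, ∀ y ∈ N, x * y = y * x) (ω : Ω)
    (h3 : ∀ k ∈ K, k • ω ∈ orbit N ω) :
    ∃ c : Ω → ZMod q, (∀ k ∈ K, (∀ x ∈ orbit N ω, c (k • x) = c x) → ∀ x ∈ orbit N ω, k • x = x) ∧
      ∃ i j, {x ∈ orbit N ω | c x = i}.ncard ≠ {x ∈ orbit N ω | c x = j}.ncard := by
  have hs : Sec K (N ⊓ stabilizer S ω) N := ⟨inf_le_left, fun k hk x hx => ⟨hN.conj_mem x hx.1 k, by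
    obtain ⟨u, hu⟩ := h3 _ (inv_mem hk)
    have hu : u.1 • ω = k⁻¹ • ω := hu
    change (k * x * k⁻¹) • ω = ω
    rw [mul_smul, mul_smul, ← hu, ← mul_smul x, h2 x hx.1 u u.2, mul_smul,
      show x • ω = ω from hx.2, hu, smul_inv_smul]⟩, fun k _ x hx => hN.conj_mem x hx k,
    fun x hx y hy => by simp [h2 x hx y hy]⟩
  obtain ⟨c, c1, c2, c3⟩ := hn K hs.M (by
    rw [hs.card, Subgroup.inf_relIndex_left, Subgroup.relIndex, show (stabilizer S ω).subgroupOf N = stabilizer N ω from rfl,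
      index_stabilizer]
    exact (Set.ncard_le_card _).trans_lt hΩ) inferInstance (hm.coprime_dvd_left K.card_subgroup_dvd_card)
    (hm.coprime_dvd_left ((Subgroup.relIndex_dvd_card _ _).trans N.card_subgroup_dvd_card)) (hs.cr fun Z hZ _ hZN => by
      obtain ⟨Y, ⟨hY1, hY2, hY3⟩, hY4⟩ := (Set.toFinite {Y : Subgroup S | Y ≤ N ∧ Nz K Y ∧ Y ≠ ⊥}).exists_minimal
        ⟨N, le_rfl, hs.nN, ne_bot_of_gt hZN⟩
      have h6 : ∀ (s : S) X, Nz K X → Nz K (X.map (MulAut.conj s).toMonoidHom) := by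
        rintro s X hX k hk _ ⟨x, hx, rfl⟩
        exact ⟨_, hX _ (hK.conj_mem k hk s⁻¹) x hx, by simp [mul_assoc]⟩
      obtain ⟨s, hs⟩ : ∃ s : S, ¬ Y.map (MulAut.conj s).toMonoidHom ≤ Z := by
        by_contra! h
        exact hY3 (eq_bot_iff.2 fun y hy => h1 _ inferInstance (Z.normalCore_le.trans_lt hZN) ▸
          fun s => h s ⟨y, hy, rfl⟩)
      refine ⟨_, ?_, h6 s Y hY2, hs, fun X hX hX' _ => or_iff_not_imp_left.2 fun h => le_antisymm hX ?_⟩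
      · rintro _ ⟨y, hy, rfl⟩; exact hN.conj_mem y (hY1 hy) s
      have h7 : X.map (MulAut.conj s⁻¹).toMonoidHom ≤ Y := by
        rintro _ ⟨x, hx, rfl⟩
        obtain ⟨y, hy, rfl⟩ := hX hx
        simpa [mul_assoc] using hy
      rintro _ ⟨y, hy, rfl⟩
      obtain ⟨x, hx, rfl⟩ := hY4 (y := X.map (MulAut.conj s⁻¹).toMonoidHom) ⟨h7.trans hY1, h6 _ X hX', fun e =>
        h (by rw [(Subgroup.map_eq_bot_iff_of_injective _ (MulAut.conj s⁻¹).injective).1 e]; exact bot_le)⟩ h7 hy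
      simpa [mul_assoc] using hx)
  have h4 : ∀ z z' : N, hs.p z = hs.p z' ↔ z • ω = z' • ω := fun z z' => by
    rw [hs.p_eq, Subgroup.mem_inf, and_iff_right (mul_mem z.2 (inv_mem z'.2)), h2 _ z.2 _ (inv_mem z'.2),
      mem_stabilizer_iff, mul_smul, inv_smul_eq_iff]; rfl
  let r := Function.extend (fun z : N => z • ω) hs.p 0
  have h5 : ∀ z : N, r (z • ω) = hs.p z := Function.FactorsThrough.extend_apply (fun z z' => (h4 z z').2) _
  have h6 : ∀ z : N, c (r (z • ω)) = 0 ↔ z • ω = ω := fun z => by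
    rw [h5, c1, ← (hs.p_eq_zero (x := 1)).2 (one_mem _), h4, one_smul]
  have h7 : c (r ω) = 0 := by simpa using h6 1
  refine ⟨c ∘ r, fun k hk h => ?_, by_contra fun h => ?_⟩
  · obtain ⟨z, hz⟩ := h3 k hk
    have h8 : k • ω = ω := hz.symm.trans ((h6 z).1 ((congrArg (c ∘ r) hz).trans ((h ω (mem_orbit_self ω)).trans h7)))
    have h9 : ∀ z : N, hs.cj ⟨k, hk⟩ z • ω = k • z • ω := fun z => by
      change (k * z * k⁻¹) • ω = _
      rw [mul_smul, mul_smul, inv_smul_eq_iff.2 h8.symm]; rfl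
    rintro _ ⟨z, rfl⟩
    refine (h9 z).symm.trans ((h4 _ _).1 (c2 ⟨k, hk⟩ (fun v => ?_) (hs.p z)))
    obtain ⟨z, rfl⟩ := hs.p_surj v
    rw [hs.smul_p, ← h5, ← h5, h9]
    exact h _ ⟨z, rfl⟩
  push Not at h
  have h8 : ∀ i, ∃ x, {x ∈ orbit N ω | (c ∘ r) x = i} = {x} := fun i => Set.ncard_eq_one.1 ((h i 0).trans
    (Set.ncard_eq_one.2 ⟨ω, Set.eq_singleton_iff_unique_mem.2 ⟨⟨mem_orbit_self ω, h7⟩, by
      rintro _ ⟨⟨z, rfl⟩, hz⟩; exact (h6 z).1 hz⟩⟩))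
  have h9 : c.Surjective := fun i => let ⟨x, hx⟩ := h8 i; ⟨_, (hx.ge rfl).2⟩
  refine c3 ((Nat.card_eq_of_bijective c ⟨fun v w e => ?_, h9⟩).trans (Nat.card_zmod q)) h9
  obtain ⟨z, rfl⟩ := hs.p_surj v
  obtain ⟨z', rfl⟩ := hs.p_surj w
  obtain ⟨x, hx⟩ := h8 (c (hs.p z'))
  exact (h4 z z').2 ((hx.le ⟨⟨z, rfl⟩, (congrArg c (h5 z)).trans e⟩).trans (hx.le ⟨⟨z', rfl⟩, congrArg c (h5 z')⟩).symm)

theorem col_step {S Ω : Type u} [Group S] [Finite S] [Finite Ω] [MulAction S Ω]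
    [FaithfulSMul S Ω] (hΩ : Nat.card Ω < n) (hS : Group.IsSolvable S) (hm : (Nat.card S).Coprime m)
    (ih : ∀ (Ω' : Type u) [Finite Ω'] [MulAction S Ω'], Nat.card Ω' < Nat.card Ω →
      ∃ κ : Ω' → ZMod q, ∀ s : S, (∀ ω, κ (s • ω) = κ ω) → ∀ ω : Ω', s • ω = ω) :
    ∃ κ : Ω → ZMod q, ∀ s : S, (∀ ω, κ (s • ω) = κ ω) → ∀ ω : Ω, s • ω = ω := by
  rcases subsingleton_or_nontrivial S with h | h
  · exact ⟨0, fun s _ ω => by rw [Subsingleton.elim s 1, one_smul]⟩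
  obtain ⟨N, ⟨hN, hN'⟩, h1⟩ := (Set.toFinite {N : Subgroup S | N.Normal ∧ N ≠ ⊥}).exists_minimal ⟨⊤, inferInstance, by simp⟩
  have h1 : ∀ X : Subgroup S, X.Normal → X < N → X = ⊥ := fun X hX h => by_contra fun h' => h.2 (h1 ⟨hX, h'⟩ h.le)
  have h2 : ∀ x ∈ N, ∀ y ∈ N, x * y = y * x := fun x hx y hy => commutatorElement_eq_one_iff_mul_comm.1
    (Subgroup.mem_bot.1 (h1 _ inferInstance (Group.IsSolvable.commutator_lt_of_ne_bot hN') ▸
      Subgroup.commutator_mem_commutator hx hy))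
  let B : SubMulAction S (Set Ω) := ⟨Set.range (orbit N), by
    rintro s _ ⟨ω, rfl⟩; exact ⟨_, (smul_orbit_eq_orbit_smul N ω s).symm⟩⟩
  let b : Ω → B := fun ω => ⟨_, ω, rfl⟩
  have b1 : ∀ (s : S) ω, s • b ω = b (s • ω) := fun s ω => Subtype.ext (smul_orbit_eq_orbit_smul N ω s)
  have b2 : b.Surjective := by rintro ⟨_, ω, rfl⟩; exact ⟨ω, rfl⟩
  have b3 : ∀ (O : B) ω, ω ∈ O.1 ↔ b ω = O := by
    rintro ⟨_, ω', rfl⟩ ω; exact orbit_eq_iff.symm.trans (Subtype.ext_iff (a1 := b ω) (a2 := b ω')).symm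
  obtain ⟨Γ, hΓ⟩ := ih B (by
    have := Fintype.ofFinite Ω
    have := Fintype.ofFinite B
    rw [Nat.card_eq_fintype_card, Nat.card_eq_fintype_card]
    refine Fintype.card_lt_of_surjective_not_injective b b2 fun hb => hN' (eq_bot_iff.2 fun x hx => ?_)
    exact eq_of_smul_eq_smul (α := Ω) fun ω => by
      rw [one_smul]; exact hb ((b3 (b ω) _).1 ⟨⟨x, hx⟩, rfl⟩))
  let K := (toPermHom S B).ker
  have hK : ∀ s, s ∈ K ↔ ∀ O : B, s • O = O := fun s => Equiv.ext_iff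
  obtain ⟨F, hF⟩ := exists_F q
  have : ∀ O : B, ∃ c : Ω → ZMod q, (∀ k ∈ K, (∀ x ∈ O.1, c (k • x) = c x) → ∀ x ∈ O.1, k • x = x) ∧
      F (fun i => {x ∈ O.1 | c x = i}.ncard) = Γ O := fun O => by
    obtain ⟨ω, rfl⟩ := b2 O
    obtain ⟨c, h3, h4⟩ := col_block hn hΩ hS hm (K := K) h1 h2 ω
      fun k hk => (b3 (b ω) _).2 (by rw [← b1, (hK k).1 hk])
    obtain ⟨j, hj⟩ := hF _ h4 (Γ (b ω))
    exact ⟨fun x => c x + j, fun k hk h => h3 k hk fun x hx => add_right_cancel (h x hx), by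
      simpa only [eq_sub_iff_add_eq] using hj⟩
  choose D D1 D2 using this
  refine ⟨fun ω => D (b ω) ω, fun s hs ω => ?_⟩
  simp only at hs
  have h4 : s ∈ K := (hK s).2 (hΓ s fun O => by
    rw [← D2, ← D2]
    refine congrArg F (funext fun i => Eq.trans (congrArg _ (Set.ext fun x => ?_)) (Set.ncard_smul_set s _))
    obtain ⟨x, rfl⟩ := (toPerm s).surjective x
    simp only [toPerm_apply, Set.smul_mem_smul_set_iff, Set.mem_ofPred_eq, b3, ← b1, smul_left_cancel_iff]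
    exact and_congr_right fun e => by rw [← e, b1, hs])
  exact D1 (b ω) s h4 (fun x hx => by rw [← (b3 _ _).1 hx, ← hs x, ← b1, (hK s).1 h4]) ω (mem_orbit_self _)

theorem colour (k : ℕ) : ∀ (S Ω : Type u) [Group S] [Finite S] [Finite Ω] [MulAction S Ω],
    Nat.card Ω = k → k < n → Group.IsSolvable S → (Nat.card S).Coprime m →
    ∃ κ : Ω → ZMod q, ∀ s : S, (∀ ω, κ (s • ω) = κ ω) → ∀ ω : Ω, s • ω = ω := by
  induction k using Nat.strong_induction_on with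
  | _ k ih =>
    intro S Ω _ _ _ _ h1 h2 hS hm
    have hS' := Group.isSolvable_of_surjective (toPermHom S Ω).rangeRestrict_surjective
    have hm' := hm.coprime_dvd_left (Subgroup.card_range_dvd (toPermHom S Ω))
    obtain ⟨κ, h⟩ := col_step hn (S := (toPermHom S Ω).range) (Ω := Ω) (h1 ▸ h2) hS' hm' fun Ω' _ _ h =>
      ih _ (h1 ▸ h) _ Ω' rfl (by omega) hS' hm'
    exact ⟨κ, fun s hs => h ⟨_, s, rfl⟩ hs⟩

end Cfsg.Agent.H33
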