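import Cfsg.Agent.H33.OutB
import Cfsg.Agent.H85.Swaps

/-! Base sizes of solvable linear groups, outer induction, part C: colourings of modules. -/

namespace Cfsg.Agent.H33
universe u
open MulAction Matrix.Module commutatorElement

theorem mc_big {q n : ℕ} [hp : Fact q.Prime] (hq : 5 ≤ q) (h3 : BaseT.{u} (Fin 3) False n) (m : ℕ) : MC.{u} q m n := by
  classical
  intro K M _ _ _ _ _ hM hK _ _ hcr
  obtain ⟨t, ht, h1⟩ : ∃ t : Fin 3 → M, Reg K t ∧ (Nat.card M = q → t 1 = t 0) := by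
    by_cases h : Nat.card M = q
    · have := Finite.one_lt_card_iff_nontrivial.1 (show 1 < Nat.card M by omega)
      obtain ⟨v, hv⟩ := exists_ne (0 : M)
      refine ⟨fun _ => v, fun k hk x => ?_, fun _ => rfl⟩
      obtain ⟨j, rfl⟩ := (zmultiples_eq_top_of_prime_card h hv).ge (AddSubgroup.mem_top x)
      rw [smul_comm, show k • v = v from congrFun hk 0]
    · obtain ⟨t, ht⟩ := h3 K M hM hK False.elim hcr
      exact ⟨t, ht, fun e => (h e).elim⟩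
  let c : M → ℕ := fun x => if x = 0 then 0 else if x = t 0 then 1 else if x = t 1 then 2 else if x = t 2 then 3 else 4
  have h2 : ∀ i < 5, ∀ j < 5, ((i : ℕ) : ZMod q) = (j : ℕ) → i = j := fun i hi j hj =>
    CharP.natCast_injOn_Iio (ZMod q) q (hi.trans_le hq) (hj.trans_le hq)
  have h4 : ∀ x, c x < 5 := fun x => by grind
  refine ⟨fun x => c x, fun x => ⟨fun e => ?_, fun e => by simp [c, e]⟩, fun k hk => ht k (funext fun i => ?_),
    fun e h => ?_⟩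
  · have := h2 _ (h4 x) 0 (by omega) (by simpa using e)
    grind
  · have := h2 _ (h4 _) _ (h4 _) (hk (t i))
    change k • t i = t i
    fin_cases i <;> grind
  · obtain ⟨x, hx⟩ := h (2 : ℕ)
    have := h2 _ (h4 x) 2 (by omega) hx
    grind

/-- frames -/
def fT : Fin 8 → Matrix (Fin 3) (Fin 3) ℤ := ![!![0, 0, 1; 0, 1, 0; 1, 0, 0],
  !![0, 0, 1; 1, 0, 0; 1, 1, 0],
  !![0, 1, 0; 1, 0, 0; 1, 0, 1],
  !![0, 1, 0; 0, 1, 1; 1, 0, 0],
  !![0, 1, 0; 1, 0, 0; 1, 1, 1],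
  !![0, 0, 1; 1, 0, 0; 1, 1, 1],
  !![1, 0, 0; 1, 0, 1; 1, 1, 0],
  !![0, 1, 1; 1, 0, 0; 1, 1, 0]]

/-- inverse frames -/
def fI : Fin 8 → Matrix (Fin 3) (Fin 3) ℤ := ![!![0, 0, 1; 0, 1, 0; 1, 0, 0],
  !![0, 1, 0; 0, -1, 1; 1, 0, 0],
  !![0, 1, 0; 1, 0, 0; 0, -1, 1],
  !![0, 0, 1; 1, 0, 0; -1, 1, 0],
  !![0, 1, 0; 1, 0, 0; -1, -1, 1],
  !![0, 1, 0; -1, -1, 1; 1, 0, 0],
  !![1, 0, 0; -1, 0, 1; -1, 1, 0],
  !![0, 1, 0; 0, -1, 1; 1, 1, -1]]

/-- transpositions -/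
def fP : Fin 3 → Matrix (Fin 3) (Fin 3) ℤ := ![!![1, 0, 0; 0, 0, 1; 0, 1, 0], !![0, 0, 1; 0, 1, 0; 1, 0, 0], !![0, 1, 0; 1, 0, 0; 0, 0, 1]]

/-- reflections -/
def fA : Fin 8 → Fin 3 → Matrix (Fin 3) (Fin 3) ℤ := ![![!![0, 1, 0; 1, 0, 0; 0, 0, 1], !![0, 0, 1; 0, 1, 0; 1, 0, 0], !![1, 0, 0; 0, 0, 1; 0, 1, 0]],
  ![!![1, 1, 0; 0, -1, 0; 0, 0, 1], !![1, 0, 0; -1, 0, 1; 1, 1, 0], !![0, 0, 1; 1, 1, -1; 1, 0, 0]],
  ![!![1, 0, 1; 0, 1, 0; 0, 0, -1], !![1, 0, 0; 1, 0, 1; -1, 1, 0], !![0, 1, 0; 1, 0, 0; 1, -1, 1]],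
  ![!![0, 1, 1; 0, 1, 0; 1, -1, 0], !![0, 1, 0; 1, 0, 0; -1, 1, 1], !![1, 0, 0; 0, 1, 1; 0, 0, -1]],
  ![!![1, 1, 1; 0, 1, 0; 0, -2, -1], !![1, 0, 0; 1, 1, 1; -2, 0, -1], !![0, 1, 0; 1, 0, 0; 0, 0, 1]],
  ![!![1, 1, 1; 0, -1, -2; 0, 0, 1], !![1, 0, 0; -2, -1, 0; 1, 1, 1], !![0, 0, 1; 0, 1, 0; 1, 0, 0]],
  ![!![1, 0, 0; 0, 0, 1; 0, 1, 0], !![1, 1, 0; 0, -1, 0; 0, -1, 1], !![1, 0, 1; 0, 1, -1; 0, 0, -1]],
  ![!![1, 1, 0; 0, -1, 0; 0, 2, 1], !![1, 0, 0; -1, 1, 1; 2, 0, -1], !![0, 1, 1; 1, 0, -1; 0, 0, 1]]]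

/-- incompatible pairs -/
def fE : List ((Fin 8 × Fin 3) × (Fin 8 × Fin 3) × Matrix (Fin 3) (Fin 3) ℤ) := [((0, 0), (1, 0), !![-1, -1, 0; 1, 0, 0; 0, 0, 1]),
  ((0, 1), (2, 0), !![-1, 0, -1; 0, 1, 0; 1, 0, 0]),
  ((0, 2), (3, 2), !![1, 0, 0; 0, -1, -1; 0, 1, 0]),
  ((1, 1), (3, 1), !![-1, 0, 1; 1, 0, 0; -1, 1, 1]),
  ((2, 2), (3, 0), !![0, 1, 1; 1, 0, 2; 1, -1, 0]),
  ((1, 2), (6, 2), !![-1, 0, -1; 2, 1, 1; 1, 0, 0]),
  ((2, 1), (4, 1), !![1, 0, 0; -1, -1, -1; -1, 1, 0]),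
  ((1, 0), (3, 1), !![0, 1, 0; -1, -1, 0; -3, 0, 1]),
  ((2, 0), (3, 0), !![0, 1, 1; 0, 1, 0; -1, 1, -1]),
  ((1, 2), (7, 2), !![0, 1, 1; 1, 0, -1; 1, 2, 0]),
  ((0, 1), (4, 0), !![-1, -3, -1; 0, 1, 0; 1, 0, 0]),
  ((2, 2), (6, 1), !![-1, -1, 0; 1, 0, 0; 2, 1, 1]),
  ((3, 0), (4, 0), !![-1, -1, -1; 0, 1, 0; 1, -1, 0]),
  ((0, 1), (4, 2), !![0, 1, 0; 0, 0, 1; 1, 0, 0]),
  ((0, 0), (6, 0), !![0, 1, 0; 0, 0, 1; 1, 0, 0]),
  ((4, 1), (6, 0), !![1, 0, 0; 0, 0, 1; -3, -1, -1]),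
  ((0, 2), (4, 2), !![0, 0, 1; 1, 0, 0; 0, 1, 0]),
  ((3, 1), (7, 0), !![-1, -1, 0; 1, 0, 0; -1, 1, 1]),
  ((0, 1), (6, 2), !![-1, 0, -1; -1, 1, -2; 1, 0, 0]),
  ((0, 0), (6, 1), !![-1, -1, 0; 1, 0, 0; -1, -2, 1]),
  ((0, 2), (7, 1), !![1, 0, 0; 3, -1, -1; 0, 1, 0]),
  ((0, 0), (5, 0), !![-1, -1, -3; 1, 0, 0; 0, 0, 1]),
  ((0, 0), (5, 2), !![0, 0, 1; 1, 0, 0; 0, 1, 0]),
  ((1, 1), (5, 1), !![1, 0, 0; -1, 0, 1; -1, -1, -1])]

theorem cert1 : ∀ i, fI i * fT i = 1 ∧ (∀ j, fI i * fP j * fT i = fA i j) ∧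
    ∀ a b, a ≠ b → ∃ l, fT i a l - fT i b l = 1 ∨ fT i a l - fT i b l = -1 := by decide +kernel

theorem cert2 : ∀ e ∈ fE, fA e.1.1 e.1.2 * fA e.2.1.1 e.2.1.2 * fA e.1.1 e.1.2 * fA e.2.1.1 e.2.1.2 = e.2.2 ∧
    e.2.2 * e.2.2 * e.2.2 = 1 ∧ ∃ i j, (e.2.2 i j - if i = j then 1 else 0) = 1 ∨
    (e.2.2 i j - if i = j then 1 else 0) = -1 := by decide +kernel

theorem cert3 : ∀ a b c d e f g h : Fin 3, ∃ x ∈ fE, ![a, b, c, d, e, f, g, h] x.1.1 = x.1.2 ∧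
    ![a, b, c, d, e, f, g, h] x.2.1.1 = x.2.1.2 := by decide +kernel

section
variable {K M : Type*} [Group K] [AddCommGroup M] [DistribMulAction K M]

theorem smul_mat {n : ℕ} (k : K) (A : Matrix (Fin n) (Fin n) ℤ) (t : Fin n → M) : k • A • t = A • k • t :=
  funext fun i => by simp [Matrix.Module.smul_apply, Finset.smul_sum, smul_comm k]

variable (hK : (Nat.card K).Coprime 3)
include hK

theorem cube {X : Type*} [MulAction K X] {k : K} {x : X} (h : k • k • k • x = x) : k • x = x :=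
  (Subgroup.zpowers_le (H := stabilizer K x)).2 (show k ^ 3 • x = x by simpa [pow_three, mul_smul])
    (mem_zpowers_pow_iff.2 (hK.coprime_dvd_left (orderOf_dvd_natCard k)).symm)

theorem reg_pair {v w : M} (h : ∀ k : K, k • v = v → k • w = w → ∀ x : M, k • x = x) :
    ∃ Γ : Set M, ∀ k : K, (∀ x, k • x ∈ Γ ↔ x ∈ Γ) → ∀ x : M, k • x = x := by
  by_contra! h1
  have h2 : ∀ w, (∀ k : K, k • v = v → k • w = w → ∀ x : M, k • x = x) → ∃ k : K, k • v = w ∧ k • w = v ∧ v ≠ w :=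
    fun w h => by
    obtain ⟨k, h2, x, h3⟩ := h1 {v, w}
    have := (h2 v).2 (by simp)
    have := (h2 w).2 (by simp)
    have := smul_left_cancel_iff (g := k) (x := v) (y := w)
    have := h k
    exact ⟨k, by grind⟩
  obtain ⟨a, a1, a2, a3⟩ := h2 w h
  obtain ⟨b, b1, b2, -⟩ := h2 (v + w) fun k e e' => h k e (by simpa [e] using e')
  have b3 : b • w = -w := by rw [smul_add, b1] at b2; rwa [add_assoc, add_eq_left, add_comm, add_eq_zero_iff_eq_neg] at b2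
  have c1 : (a * b * (a * b)) • v = w := by simp [mul_smul, a1, a2, b1, b3]
  have c2 : (a * b * (a * b)) • w = -(v + w) := by simp [mul_smul, a1, a2, b1, b3, add_comm]
  exact a3 ((cube hK (by simp only [c1, c2, smul_neg, smul_add]; abel)).symm.trans c1)

theorem reg_set {t : Fin 3 → M} (ht : Reg K t) :
    ∃ Γ : Set M, ∀ k : K, (∀ x, k • x ∈ Γ ↔ x ∈ Γ) → ∀ x : M, k • x = x := by
  by_cases h : ∃ (u : Fin 3 → ℤ) (j : Fin 3), (u j = 1 ∨ u j = -1) ∧ ∑ i, u i • t i = 0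
  · obtain ⟨u, j, h1, h2⟩ := h
    refine reg_pair hK (v := t (j.succAbove 0)) (w := t (j.succAbove 1)) fun k e e' => ht k (funext (j.succAboveCases ?_
      (Fin.forall_fin_two.2 ⟨e, e'⟩)))
    have h3 := congrArg (k • ·) h2
    simp only [Fin.sum_univ_succAbove _ j, Fin.sum_univ_two, smul_add, smul_comm k, e, e', smul_zero] at h2 h3
    have := add_right_cancel (h3.trans h2.symm)
    rcases h1 with h1 | h1 <;> simpa [h1] using this
  by_contra! h1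
  have h2 : ∀ i, ∃ j, ∃ k : K, k • t = fA i j • t := fun i => by
    obtain ⟨c1, c2, c3⟩ := cert1 i
    have h3 : ∀ a b, a ≠ b → (fT i • t) a ≠ (fT i • t) b := fun a b hab e =>
      let ⟨l, hl⟩ := c3 a b hab
      h ⟨fT i a - fT i b, l, hl, by simpa [sub_smul, Matrix.Module.smul_apply, sub_eq_zero] using e⟩
    have h4 : ∀ (k : K) j, k • fT i • t = fP j • fT i • t → k • t = fA i j • t := fun k j e => by
      rw [← c2, mul_smul, mul_smul, ← e, ← smul_mat, ← mul_smul, c1, one_smul]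
    have h5 : Reg K (fT i • t) := fun k e => ht k (by
      rw [← one_smul (Matrix (Fin 3) (Fin 3) ℤ) t, ← c1, mul_smul, smul_mat, e])
    generalize fT i • t = s at *
    obtain ⟨k, h6, x, h7⟩ := h1 {s 0, s 1, s 2}
    have h8 : ¬ (k • s 0 = s 0 ∧ k • s 1 = s 1 ∧ k • s 2 = s 2) := fun e => h7 (h5 k (funext fun i => by
      fin_cases i; exacts [e.1, e.2.1, e.2.2]) x)
    have : (k • s 0 = s 0 ∧ k • s 1 = s 2 ∧ k • s 2 = s 1) ∨ (k • s 0 = s 2 ∧ k • s 1 = s 1 ∧ k • s 2 = s 0) ∨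
        (k • s 0 = s 1 ∧ k • s 1 = s 0 ∧ k • s 2 = s 2) := by
      have := (h6 (s 0)).2 (by simp); have := (h6 (s 1)).2 (by simp); have := (h6 (s 2)).2 (by simp)
      have := h3 0 1 (by simp); have := h3 0 2 (by simp); have := h3 1 2 (by simp)
      have := smul_left_cancel_iff (g := k) (x := s 0) (y := s 1)
      have := smul_left_cancel_iff (g := k) (x := s 0) (y := s 2)
      have := smul_left_cancel_iff (g := k) (x := s 1) (y := s 2)
      have := cube hK (k := k) (x := s 0)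
      grind
    rcases this with e | e | e
    exacts [⟨0, k, h4 k 0 (funext fun i => by fin_cases i <;> simp [fP, Matrix.Module.smul_apply, Fin.sum_univ_three, e])⟩,
      ⟨1, k, h4 k 1 (funext fun i => by fin_cases i <;> simp [fP, Matrix.Module.smul_apply, Fin.sum_univ_three, e])⟩,
      ⟨2, k, h4 k 2 (funext fun i => by fin_cases i <;> simp [fP, Matrix.Module.smul_apply, Fin.sum_univ_three, e])⟩]
  choose τ k hk using h2
  obtain ⟨x, hx, e1, e2⟩ := cert3 (τ 0) (τ 1) (τ 2) (τ 3) (τ 4) (τ 5) (τ 6) (τ 7)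
  rw [show ![τ 0, τ 1, τ 2, τ 3, τ 4, τ 5, τ 6, τ 7] = τ from funext fun i => by fin_cases i <;> rfl] at e1 e2
  obtain ⟨c1, c2, i, j, c3⟩ := cert2 x hx
  have h3 : (k x.2.1.1 * k x.1.1 * k x.2.1.1 * k x.1.1) • t = x.2.2 • t := by
    simp only [← c1, mul_smul, hk, smul_mat, e1, e2]
  have h4 := h3.symm.trans (cube hK (by simp only [h3, smul_mat]; rw [← mul_smul, ← mul_smul, c2, one_smul]))
  exact h ⟨(x.2.2 - 1) i, j, c3, congrFun (show (x.2.2 - 1) • t = 0 by rw [sub_smul, h4, one_smul, sub_self]) i⟩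
end

theorem mc_three {n : ℕ} (h3 : BaseT.{u} (Fin 3) False n) : MC.{u} 3 3 n := by
  classical
  intro K M _ _ _ _ _ hM hK h1 h2 hcr
  obtain ⟨t, ht⟩ := h3 K M hM hK False.elim hcr
  obtain ⟨Γ, h⟩ := reg_set h1 ht
  refine ⟨fun x => if x = 0 then 0 else if x ∈ Γ then 1 else 2, fun x => by beta_reduce; split_ifs <;> simp [*] <;> decide,
    fun k hk => h k fun x => ?_, fun e => by simp [e] at h2⟩
  by_cases e : x = 0
  · simp [e]
  have := hk x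
  simp only [smul_eq_zero_iff_eq, e, if_false] at this
  split_ifs at this <;> simp_all <;> exact absurd this (by decide)

section
variable {H W : Type*} [Group H] [AddCommGroup W] [Nontrivial W] [DistribMulAction H W]

theorem many_two [Finite H] (p : ℕ) [hp : Fact p.Prime] (h1 : ∀ w : W, p • w = 0) (h2 : (Nat.card H).Coprime p)
    {t : Fin 2 → W} (ht : Reg H t) :
    ∃ P : ZMod p → Fin 2 → W, (∀ c, Reg H (P c)) ∧ ∀ (a : H) c c', a • P c = P c' → c = c' := by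
  obtain ⟨x, y, hx, h⟩ : ∃ x y : W, x ≠ 0 ∧ ∀ a : H, a • x = x → a • y = y → ∀ w : W, a • w = w := by
    by_cases h : t 0 = 0
    · obtain ⟨v, hv⟩ := exists_ne (0 : W)
      exact ⟨v, t 1, hv, fun a _ e => ht a (funext (Fin.forall_fin_two.2 ⟨by simp [h], e⟩))⟩
    · exact ⟨t 0, t 1, h, fun a e e' => ht a (funext (Fin.forall_fin_two.2 ⟨e, e'⟩))⟩
  refine ⟨fun c => ![x, y + c.val • x], fun c a e => ?_, fun a c c' e => ?_⟩ <;>
    have e1 : a • x = x := congrFun e 0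
  · exact h a e1 (by simpa [smul_comm a, e1] using congrFun e 1)
  have e2 : a • y = y + ((c'.val : ℤ) - c.val) • x := by
    have := congrFun e 1
    simp only [Pi.smul_apply, Matrix.cons_val_one, Matrix.cons_val_zero, smul_add, smul_comm a, e1] at this
    rw [sub_smul, natCast_zsmul, natCast_zsmul, ← add_sub_assoc, ← this, add_sub_cancel_right]
  have e3 : ∀ j : ℕ, a ^ j • y = y + (j * ((c'.val : ℤ) - c.val)) • x := fun j => by
    induction j with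
    | zero => simp
    | succ j ih => rw [pow_succ', mul_smul, ih, smul_add, e2, smul_comm a, e1]; push_cast; module
  have e4 := addOrderOf_dvd_iff_zsmul_eq_zero.2 (add_eq_left.1 ((e3 (Nat.card H)).symm.trans (by simp)))
  rw [addOrderOf_eq_prime (h1 x) hx] at e4
  exact ZMod.val_injective p (Nat.cast_injective (R := ℤ) (by
    have := (Nat.isCoprime_iff_coprime.2 h2.symm).dvd_of_dvd_mul_left e4
    have := Int.eq_zero_of_abs_lt_dvd this (by have := c.val_lt; have := c'.val_lt; rw [abs_lt]; omega)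
    omega))

/-- elementary matrices -/
def eM (x : Fin 3 × Fin 2) : (Matrix (Fin 3) (Fin 3) ℤ)ˣ :=
  ⟨1 + Matrix.single x.1 (x.1.succAbove x.2) 1, 1 - Matrix.single x.1 (x.1.succAbove x.2) 1,
    by revert x; decide +kernel, by revert x; decide +kernel⟩

theorem eM_comm : ∀ x, ∃ y z, eM x = ⁅eM y, eM z⁆ := by
  simp only [Units.ext_iff]
  decide +kernel

theorem mem_derived {G ι : Type*} [Group G] (a : ι → G) (h : ∀ x, ∃ y z, a x = ⁅a y, a z⁆) (n : ℕ) :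
    ∀ x, a x ∈ derivedSeries G n := by
  induction n with
  | zero => simp
  | succ n ih => exact fun x => let ⟨y, z, e⟩ := h x; e ▸ Subgroup.commutator_mem_commutator (ih y) (ih z)

theorem many_three (hH : Group.IsSolvable H) {t : Fin 3 → W} (ht : Reg H t) :
    ∃ P : ZMod 5 → Fin 3 → W, (∀ c, Reg H (P c)) ∧ ∀ (a : H) c c', a • P c = P c' → c = c' := by
  let Γ := (Matrix (Fin 3) (Fin 3) ℤ)ˣ
  have h0 : ∀ (a : H) (γ : Γ) (t : Fin 3 → W), a • γ • t = γ • a • t := fun a γ => smul_mat a γ.1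
  let R : SubMulAction H (Fin 3 → W) := ⟨{t | Reg H t}, fun a t ht b e x => by
    simpa [mul_smul, inv_smul_eq_iff] using ht (a⁻¹ * b * a) (by rw [mul_smul, mul_smul, e, inv_smul_smul]) (a⁻¹ • x)⟩
  let X := orbitRel.Quotient H R
  by_cases h : Nonempty (ZMod 5 ↪ X)
  · obtain ⟨e⟩ := h
    exact ⟨fun c => (e c).out, fun c => (e c).out.2, fun a c c' h => e.injective
      (Quotient.out_equiv_out.1 ((orbitRel H R).symm ⟨a, Subtype.ext h⟩))⟩
  let m : Γ → R → R := fun γ t => ⟨γ • t.1, fun a e => t.2 a (by rwa [h0, smul_left_cancel_iff] at e)⟩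
  letI : MulAction Γ X :=
    { smul γ := Quotient.map' (m γ) fun t t' ⟨a, e⟩ => ⟨a, Subtype.ext ((h0 a γ _).trans (congrArg (γ • ·.1) e))⟩
      one_smul x := Quotient.inductionOn' x fun t => congrArg Quotient.mk'' (Subtype.ext (one_smul Γ t.1))
      mul_smul a b x := Quotient.inductionOn' x fun t => congrArg Quotient.mk'' (Subtype.ext (mul_smul a b t.1)) }
  obtain ⟨e⟩ : Nonempty (X ↪ Fin 4) := by
    rw [← Cardinal.lift_mk_le'] at h ⊢
    simpa [Order.lt_succ_iff] using (Cardinal.lt_natCast_add_one_iff (n := 4)).1 (by norm_num; simpa using h)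
  have := H85.isSolvable_perm_fin_four
  obtain ⟨n, hn⟩ := (Group.isSolvable_of_isSolvable_injective (Equiv.Perm.viaEmbeddingHom_injective e)).solvable
  let φ := toPermHom Γ X
  have h1 : ∀ x, eM x ∈ φ.ker := fun x => Subgroup.mem_bot.1 (hn ▸ mem_derived (fun x => φ (eM x))
    (fun x => let ⟨y, z, e⟩ := eM_comm x; ⟨y, z, by rw [e, map_commutatorElement]⟩) n x)
  obtain ⟨n, hn⟩ := hH.solvable
  have h2 : ∀ t : R, t.1 = 0 := fun t => funext fun j => by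
    let Z : Subgroup (H × φ.ker) := ⟨⟨⟨{z | z.1 • z.2.1 • t.1 = t.1}, fun {a b} ha hb => by
      simp only [Set.mem_ofPred_eq, Prod.fst_mul, Prod.snd_mul, Subgroup.coe_mul, mul_smul] at ha hb ⊢
      rw [h0 b.1, hb, ha]⟩, by simp⟩, fun {a} ha => by
      simp only [Set.mem_ofPred_eq, Prod.fst_inv, Prod.snd_inv, Subgroup.coe_inv, inv_smul_eq_iff] at ha ⊢
      rw [← h0, ha]⟩
    have h3 : ∀ x, eM x • t.1 = t.1 := fun x => by
      obtain ⟨z, hz, e⟩ := (map_derivedSeries_eq (f := (MonoidHom.snd _ _).comp Z.subtype) (fun γ => by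
        obtain ⟨a, e⟩ := Quotient.exact' (DFunLike.congr_fun γ.2 (Quotient.mk'' t)).symm
        exact ⟨⟨(a, γ), congrArg Subtype.val e⟩, rfl⟩) n).ge (mem_derived (fun x => (⟨eM x, h1 x⟩ : φ.ker))
        (fun x => let ⟨y, z, e⟩ := eM_comm x; ⟨y, z, Subtype.ext e⟩) n x)
      have h4 : z.1.1 = 1 := Subgroup.mem_bot.1 (hn ▸ map_derivedSeries_le_derivedSeries
        ((MonoidHom.fst _ _).comp Z.subtype) n ⟨z, hz, rfl⟩)
      have : z.1.1 • z.1.2.1 • t.1 = t.1 := z.2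
      rwa [h4, one_smul, show z.1.2 = _ from e] at this
    obtain ⟨i, hi⟩ := exists_ne j
    obtain ⟨k, rfl⟩ := Fin.exists_succAbove_eq hi.symm
    have : (1 + Matrix.single i (i.succAbove k) 1 : Matrix _ _ ℤ) • t.1 = t.1 := h3 (i, k)
    rw [add_smul, one_smul, add_eq_left, single_smul] at this
    simpa using congrFun this i
  obtain ⟨v, hv⟩ := exists_ne (0 : W)
  exact (hv (congrFun (h2 ⟨fun _ => v, fun a _ => ht a (by rw [show t = 0 from h2 ⟨t, ht⟩, smul_zero])⟩) 0)).elim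
end

end Cfsg.Agent.H33
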