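import Cfsg.Agent.H33.SubC

/-! Overgroups of the group of fixed points of a field automorphism: the unipotent part. -/

set_option autoImplicit false

namespace Cfsg.Agent.H33

open Cfsg.Agent.H38 Cfsg.Agent.H64

variable {ι R : Type} [Fintype ι] [DecidableEq ι]
variable {P : RS ι R} {F : Type*} [Field F] {G : Type*} [Group G] {X : RG P F G}

theorem lev_comm' {k : ℤ} {u y : G} (hk : 0 < k) (hu : u ∈ X.U) (hy : y ∈ X.US {a | k ≤ P.ht a}) :
    y⁻¹ * u⁻¹ * y * u ∈ X.US {a | k < P.ht a} :=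
  X.US_mono (fun _ h => h.2) (X.lev_comm P.cl_pos k hu
    (X.US_mono (fun _ h => And.intro (P.pos_iff_ht.2 (hk.trans_le h)) h) hy))

theorem coK_conj {b : R} (hb : P.Pos b) {u k : G} (hu : u ∈ X.U) (hk : k ∈ X.US {a | a ≠ b ∧ P.ht b ≤ P.ht a}) :
    u⁻¹ * k * u ∈ X.US {a | a ≠ b ∧ P.ht b ≤ P.ht a} := by
  have := mul_mem hk (X.US_mono (T := {a | a ≠ b ∧ P.ht b ≤ P.ht a})
    (fun a ha => ⟨by rintro rfl; exact lt_irrefl (P.ht _) ha, le_of_lt ha⟩)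
    (lev_comm' (P.ht_pos hb) hu (X.US_mono (fun _ h => h.2) hk)))
  simpa [mul_assoc] using this

theorem Co.mem {b : R} {k : G} {t : F} (h : Co X b k t) : k ∈ X.US {a | P.ht b ≤ P.ht a} := by
  simpa using mul_mem (X.x_mem (S := {a | P.ht b ≤ P.ht a}) (le_refl (P.ht b)) t) (X.US_mono (fun _ h => h.2) h)

theorem Co.conj {b : R} (hb : P.Pos b) {u k : G} {t : F} (hu : u ∈ X.U) (h : Co X b k t) : Co X b (u⁻¹ * k * u) t := by
  have := h.mul hb (co_zero (X.US_mono (fun a ha => And.intro (by rintro rfl; exact lt_irrefl (P.ht _) ha) (le_of_lt ha))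
    (lev_comm' (P.ht_pos hb) hu h.mem)))
  simpa [mul_assoc] using this

theorem Co.twist (T : Twist X) {b : R} {k : G} {t : F} (h : Co X b k t) :
    Co X (T.τ b) (T.σ k) (T.c b * T.φ t) := by
  have := T.σ_US (S' := {a | a ≠ T.τ b ∧ P.ht (T.τ b) ≤ P.ht a})
    (fun a ha => ⟨T.τ.injective.ne ha.1, by simpa only [T.τ_ht] using ha.2⟩) h
  rwa [map_mul, map_inv, T.σ_x] at this

theorem ht_cf {a s b : R} (h : P.cf b = P.cf a + P.cf s) : P.ht b = P.ht a + P.ht s := by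
  simp [RS.ht, h, Finset.sum_add_distrib]

theorem comm_coK {b : R} (hb : P.Pos b) {A B : Set R} (hA : ∀ a ∈ A, P.Pos a) (hB : ∀ a ∈ B, P.Pos a)
    (h : ∀ a ∈ A, ∀ s ∈ B, P.ht b ≤ P.ht a + P.ht s ∧ P.cf b ≠ P.cf a + P.cf s) {y g : G} (hy : y ∈ X.US A)
    (hg : g ∈ X.US B) : y⁻¹ * g⁻¹ * y * g ∈ X.US {a | a ≠ b ∧ P.ht b ≤ P.ht a} := by
  refine comm_mem_of_gen X.toRG0 (fun a ha t k hk => coK_conj hb (X.x_mem_U (hA a ha) t) hk) (fun a ha t => ?_) hy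
  have := comm_mem_of_gen X.toRG0 (g := X.x a t) (fun s hs t k hk => coK_conj hb (X.x_mem_U (hB s hs) t) hk)
    (fun s hs u => X.comm_mem (P.ne_neg_of_pos (hA a ha) (hB s hs)) (fun k hk => ?_) t u) hg
  · simpa [mul_assoc] using inv_mem this
  · obtain ⟨h1, h2⟩ := h a ha s hs
    refine ⟨?_, h1.trans (ht_comb (hA a ha) (hB s hs) hk)⟩
    rintro rfl
    obtain ⟨i, j, hi, hj, e⟩ := hk
    have h3 : P.ht k = i * P.ht a + j * P.ht s := by simp [RS.ht, e, Finset.sum_add_distrib, Finset.mul_sum]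
    have h4 := P.ht_pos (hA a ha)
    have h5 := P.ht_pos (hB s hs)
    obtain rfl : i = 1 := by nlinarith
    obtain rfl : j = 1 := by nlinarith
    exact h2 (by simpa using e)

theorem Co.comm {r s b : R} (hr : P.Pos r) (hs : P.Pos s) (hb : P.cf b = P.cf r + P.cf s) {B : Set R}
    (hB : ∀ s' ∈ B, P.ht s' = P.ht s ∧ ∀ a, P.cf b ≠ P.cf a + P.cf s') {y g : G} {t e : F}
    (hg : (X.x s 1)⁻¹ * g ∈ X.US B) (hy : Co X r y t)
    (h : Co X b ((X.x r t)⁻¹ * (X.x s 1)⁻¹ * X.x r t * X.x s 1) e) : Co X b (y⁻¹ * g⁻¹ * y * g) e := by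
  have h1 := ht_cf hb
  have h2 := P.ht_pos hr
  have h3 := P.ht_pos hs
  have hb' : P.Pos b := P.pos_iff_ht.2 (by omega)
  have hB' : ∀ a ∈ B, P.Pos a := fun a ha => P.pos_iff_ht.2 ((hB a ha).1 ▸ h3)
  have h4 := comm_coK hb' (A := {a | P.ht r ≤ P.ht a}) (fun a ha => P.pos_iff_ht.2 (h2.trans_le ha)) hB'
    (fun a ha s' hs' => ⟨by have := (hB s' hs').1; have : P.ht r ≤ P.ht a := ha; omega, (hB s' hs').2 a⟩) hy.mem hg
  have hA : ∀ a ∈ {a | a ≠ r ∧ P.ht r ≤ P.ht a}, P.Pos a := fun a ha => P.pos_iff_ht.2 (h2.trans_le ha.2)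
  have h5 := comm_coK hb' (B := {s}) hA (by rintro _ rfl; exact hs)
    (by
      rintro a ha _ rfl
      exact ⟨by have := ha.2; omega, fun e => ha.1 (P.cf_inj (add_right_cancel (e.symm.trans hb)))⟩) hy
    (X.x_mem (S := {s}) rfl 1)
  have := (co_zero h4).mul hb' (((h.conj hb' (X.US_mono hA hy)).mul hb' (co_zero h5)).conj hb' (X.US_mono hB' hg))
  rw [zero_add, add_zero] at this
  convert this using 1
  group

/-- a twist of prime order as a twist -/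
def TwR.toTwist {r : ℕ} (T : TwR X r) : Twist X := ⟨T.σ, T.τ, T.π, T.φ, T.c, T.c_neg, T.cf_τ, T.σ_x⟩

theorem TwR.exists_orb [Finite R] (hX : X.Faithful) {r : ℕ} (hr : r.Prime) (T : TwR X r) {s : R}
    (hc : ∀ a, T.τ.SameCycle s a → ∀ t u, X.x a u * X.x s t = X.x s t * X.x a u) (t : F)
    (h : T.τ s = s → T.c s * T.φ t = t) : ∃ Y, T.σ Y = Y ∧ (X.x s t)⁻¹ * Y ∈ X.US {a | a ≠ s ∧ T.τ.SameCycle s a} ∧
      ∀ l : MulAut G, (∀ g, T.σ (l g) = l (T.σ g)) → l (X.x s t) = X.x s t → l Y = Y := by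
  by_cases h1 : T.τ s = s
  · exact ⟨X.x s t, by rw [T.σ_x, h1, h h1], by simp, fun _ _ h => h⟩
  obtain ⟨k, rfl⟩ : ∃ k, r = k + 1 := ⟨r - 1, by have := hr.pos; omega⟩
  obtain ⟨α, -, h2⟩ := T.exists_pow s
  have h3 : (T.τ ^ (k + 1)) s = s := by
    have := h2 (k + 1) 1
    rw [T.pow] at this
    exact (eq_of_x_eq hX one_ne_zero this).symm
  have h4 : ∀ m ≤ k + 1, (X.x s t)⁻¹ * nm T.σ m (X.x s t) ∈ X.US {a | a ≠ s ∧ T.τ.SameCycle s a} ∨ m = 0 := by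
    intro m hm
    induction m with
    | zero => exact Or.inr rfl
    | succ m ih =>
      rcases ih (by omega) with ih | rfl
      · rcases m.eq_zero_or_pos with rfl | hm0
        · simp [nm]
        rw [nm_succ, ← mul_assoc, h2]
        refine Or.inl (mul_mem ih (X.x_mem (And.intro (fun e => h1 ?_) ⟨m, by simp⟩) _))
        have := Function.IsPeriodicPt.gcd (f := T.τ) (x := s) (m := k + 1) (n := m) h3 e
        rwa [Nat.Coprime.gcd_eq_one (Nat.coprime_of_lt_prime hm0.ne' (by omega) hr)] at this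
      · simp [nm]
  have h5 := (h4 _ le_rfl).resolve_right (by omega)
  refine ⟨nm T.σ (k + 1) (X.x s t), ?_, h5, fun l hl e => ?_⟩
  · have h7 := (nm_succ T.σ (k + 1) (X.x s t)).symm.trans (nm_succ' T.σ (k + 1) (X.x s t))
    have h8 := Subgroup.mem_centralizer_singleton_iff.1
      (US_le_centralizer X.toRG0 (y := X.x s t) (fun a ha u => hc a ha.2 t u) h5)
    rw [T.pow, MulAut.one_apply] at h7
    rw [mul_assoc, h7] at h8
    simpa using h8
  · have : ∀ m, l (nm T.σ m (X.x s t)) = nm T.σ m (X.x s t) := fun m => by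
      induction m with
      | zero => simp [nm]
      | succ m ih => rw [nm_succ', map_mul, ← hl, ih, e]
    exact this _

namespace SubD

variable (S : SubD X) [Fintype R] (hX : X.Faithful)
include hX

omit [Fintype R] in
theorem fix_of_co (hl : ∀ s t, S.l.σ (X.x s t) = X.x s (S.l.φ t)) {b : R} (hb : P.Pos b) {k : G} {t : F}
    (h : Co X b k t) (hk : k ∈ S.G0) : S.l.φ t = t := by
  have h1 := hl b 1
  rw [S.l.σ_x] at h1
  have h2 := eq_of_x_eq hX (by simp) h1.symm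
  have h3 := h.twist S.l
  rw [← h2] at h1 h3
  rw [(S.mem_G0.1 hk).2, show S.l.c b = 1 by simpa using hX.x_inj _ h1, one_mul] at h3
  exact h3.unique hX hb h

theorem U_le_G0 {M : Subgroup G} (h0 : S.G0 ≤ M) (h1 : ∀ g ∈ M, S.μ.σ g = g)
    (exY : ∀ r, P.Pos r → ∀ t, (S.μ.τ r = r → S.μ.c r * S.μ.φ t = t) → ∃ Y, S.μ.σ Y = Y ∧
      (X.x r t)⁻¹ * Y ∈ X.US {a | a ≠ r ∧ S.μ.τ.SameCycle r a} ∧ (S.l.φ t = t → S.l.σ Y = Y))
    {Z : Set R} (hτ : ∀ a ∈ Z, S.μ.τ a ∈ Z) (hZp : ∀ a ∈ Z, P.Pos a)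
    (hZ : ∀ z ∈ X.US Z, S.μ.σ z = z → ∀ m ∈ X.U, S.μ.σ m = m → z⁻¹ * m⁻¹ * z * m ∈ S.G0)
    (hgood : ∀ r, P.Pos r → r ∉ Z → ∃ g ∈ S.G0, g ∈ X.U ∧ ∀ y t, S.μ.σ y = y → Co X r y t →
      y⁻¹ * g⁻¹ * y * g ∈ S.G0 → S.l.φ t = t)
    (hM : ∀ z ∈ X.US Z, z ∈ M → z ∈ S.G0) {y : G} (hy : y ∈ M) (hy' : y ∈ X.U) : y ∈ S.G0 := by
  have hZU : X.US Z ≤ X.U := X.US_mono hZp
  have hN : ∀ K : Subgroup G, S.G0 ≤ K → ∀ z ∈ X.US Z, S.μ.σ z = z → ∀ m ∈ X.U, S.μ.σ m = m →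
      (z⁻¹ * m * z ∈ K ↔ m ∈ K) := fun K hK z hz hz' m hm hm' => by
    have := hK (hZ z hz hz' m hm hm')
    exact ⟨fun h => by simpa [mul_assoc] using mul_mem h this, fun h => by
      simpa [mul_assoc] using inv_mem (mul_mem this (inv_mem h))⟩
  have key : ∀ A, P.Cl (htL ι) A → (∀ a ∈ A, ∀ b, P.ht a < P.ht b → b ∈ A) → ∀ y ∈ X.US A, S.μ.σ y = y →
      ∀ z ∈ X.US Z, y * z ∈ M → ∃ z ∈ X.US Z, y * z ∈ S.G0 := fun A hA => by
    refine cl_induction (p := fun A => (∀ a ∈ A, ∀ b, P.ht a < P.ht b → b ∈ A) → ∀ y ∈ X.US A, S.μ.σ y = y →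
      ∀ z ∈ X.US Z, y * z ∈ M → ∃ z ∈ X.US Z, y * z ∈ S.G0) (fun _ y hy _ _ _ _ => ?_) ?_ hA
    · rw [RG0.US_empty, Subgroup.mem_bot] at hy
      exact ⟨1, one_mem _, by simp [hy]⟩
    intro A r hA hr hmin _ _ ih hup y hy hyμ z hz hyz
    simp only [htL_cf] at hmin
    replace ih := ih fun a ha b hb => ⟨hup a ha.1 b hb, by rintro rfl; exact absurd hb (not_lt.2 (hmin a ha.1))⟩
    have hAp : ∀ a ∈ A, P.Pos a := fun a ha => P.pos_iff_ht.2 (hA.pos a ha)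
    have hrp := hAp r hr
    have hyU : y ∈ X.U := X.US_mono hAp hy
    have hzμ : S.μ.σ z = z := by simpa [hyμ] using h1 _ hyz
    obtain ⟨t, y₁, hy₁, e⟩ := exists_x_mul X.toRG0 hA hr hy
    by_cases ht : t = 0
    · rw [ht, X.x_zero, one_mul] at e
      exact ih y (e ▸ hy₁) hyμ z hz hyz
    have hco : Co X r y t := by
      rw [Co, e, inv_mul_cancel_left]; exact X.US_mono (fun a ha => And.intro ha.2 (hmin a ha.1)) hy₁
    obtain ⟨Y, hY, hY', hYl⟩ := exY r hrp t fun h => by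
      have := hco.twist S.μ
      rw [h, hyμ] at this
      exact this.unique hX hrp hco
    have hO : ∀ a, S.μ.τ.SameCycle r a → a ∈ A := fun a ha => by
      obtain ⟨h2, t, ht, h3⟩ := sameCycle_ind (p := fun a => P.ht a = P.ht r ∧ ∃ t, t ≠ 0 ∧ Co X a y t)
        (fun a ⟨h2, t, ht, h3⟩ => ⟨(S.μ.τ_ht a).trans h2, _, by simp [ht, S.μ.c_ne], hyμ ▸ h3.twist S.μ⟩) ha
        ⟨rfl, t, ht, hco⟩
      by_contra hn
      exact ht (h3.unique hX (P.pos_iff_ht.2 (h2 ▸ P.ht_pos hrp)) (co_zero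
        (X.US_mono (fun b hb => And.intro (by rintro rfl; exact hn hb) (h2 ▸ hmin b hb)) hy)))
    have h2 : Y⁻¹ * y ∈ X.US (A \ {r}) := by
      have := mul_mem (inv_mem (X.US_mono (T := A \ {r}) (fun a ha => ⟨hO a ha.2, ha.1⟩) hY')) hy₁
      simpa [e, mul_assoc] using this
    have h3 : S.μ.σ (Y⁻¹ * y) = Y⁻¹ * y := by rw [map_mul, map_inv, hY, hyμ]
    by_cases hrZ : r ∈ Z
    · have hYZ : Y ∈ X.US Z := by
        simpa using mul_mem (X.x_mem hrZ t) (X.US_mono (fun a ha => sameCycle_ind hτ ha.2 hrZ) hY')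
      obtain ⟨z', hz', h4⟩ := ih _ h2 h3 _ (mul_mem hz hYZ) (by
        simpa [mul_assoc] using (hN M h0 Y hYZ hY _ (mul_mem hyU (hZU hz)) (h1 _ hyz)).2 hyz)
      refine ⟨z' * Y⁻¹, mul_mem hz' (inv_mem hYZ), (hN _ le_rfl Y hYZ hY _
        (mul_mem hyU (hZU (mul_mem hz' (inv_mem hYZ)))) ?_).1 (by simpa [mul_assoc] using h4)⟩
      have := (S.mem_G0.1 h4).1
      rw [map_mul, h3, mul_right_inj] at this
      rw [map_mul, map_mul, map_inv, hyμ, this, hY]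
    · obtain ⟨g, hg, hgU, h4⟩ := hgood r hrp hrZ
      have hk := lev_comm' (P.ht_pos hrp) hgU hco.mem
      have hkμ : S.μ.σ (y⁻¹ * g⁻¹ * y * g) = y⁻¹ * g⁻¹ * y * g := by simp [hyμ, (S.mem_G0.1 hg).1]
      have hkM : y⁻¹ * g⁻¹ * y * g ∈ M := (hN M h0 z hz hzμ _
        (mul_mem (mul_mem (mul_mem (inv_mem hyU) (inv_mem hgU)) hyU) hgU) hkμ).1 (by
          have := mul_mem (mul_mem (mul_mem (mul_mem (inv_mem hyz) (inv_mem (h0 hg))) hyz) (h0 hg))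
            (inv_mem (h0 (hZ z hz hzμ g hgU (S.mem_G0.1 hg).1)))
          simpa [mul_assoc] using this)
      obtain ⟨z', hz', h5⟩ := ih _ (X.US_mono (fun a ha => And.intro (hup r hr a ha)
        (by rintro rfl; exact lt_irrefl (P.ht _) ha)) hk) hkμ 1 (one_mem _) (by rwa [mul_one])
      have hY0 : Y ∈ S.G0 := ⟨hY, hYl (h4 y t hyμ hco ((mul_mem_cancel_right
        (hM z' hz' ((mul_mem_cancel_left hkM).1 (h0 h5)))).1 h5))⟩
      obtain ⟨z'', hz'', h6⟩ := ih _ h2 h3 z hz (by simpa [mul_assoc] using mul_mem (inv_mem (h0 hY0)) hyz)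
      exact ⟨z'', hz'', by simpa [mul_assoc] using mul_mem hY0 h6⟩
  obtain ⟨z, hz, h2⟩ := key _ P.cl_pos (fun a ha b hb => P.pos_iff_ht.2 ((P.ht_pos ha).trans hb)) y hy' (h1 y hy) 1
    (one_mem _) (by rwa [mul_one])
  exact (mul_mem_cancel_right (hM z hz ((mul_mem_cancel_left hy).1 (h0 h2)))).1 h2

end SubD

theorem mul_mem_of_ring {K : Type*} [Field K] {φ : K →+* K}
    (hR : ∀ R : Subring K, (∀ t, φ t = t → t ∈ R) → (∃ t ∈ R, φ t ≠ t) → R = ⊤) (A : AddSubgroup K)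
    (h1 : ∀ c, φ c = c → ∀ a ∈ A, c * a ∈ A) {t : K} (ht : φ t ≠ t) (h2 : ∀ a ∈ A, t * a ∈ A) (c : K) :
    ∀ a ∈ A, c * a ∈ A := by
  let R : Subring K :=
    { carrier := {c | ∀ a ∈ A, c * a ∈ A}
      mul_mem' := fun ha hb x hx => mul_assoc _ _ x ▸ ha _ (hb x hx)
      one_mem' := fun x hx => (one_mul x).symm ▸ hx
      add_mem' := fun ha hb x hx => (add_mul _ _ x).symm ▸ add_mem (ha x hx) (hb x hx)
      zero_mem' := fun x _ => (zero_mul x).symm ▸ zero_mem _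
      neg_mem' := fun ha x hx => (neg_mul _ x).symm ▸ neg_mem (ha x hx) }
  exact ((hR R h1 ⟨t, h2, ht⟩).ge (Subring.mem_top c) : c ∈ R)

theorem subring_eq_top {K : Type*} [Field K] {φ : K →+* K} {r : ℕ} (hr : r.Prime) (h1 : ∃ t, φ t ≠ t)
    (h2 : ∀ t, φ^[r] t = t) (R : Subring K) (h3 : ∀ t, φ t = t → t ∈ R) (h4 : ∃ t ∈ R, φ t ≠ t) : R = ⊤ := by
  have := Fact.mk hr
  let e : RingAut K := RingEquiv.ofBijective φ ⟨φ.injective, fun t => ⟨φ^[r - 1] t, by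
    rw [← Function.iterate_succ_apply' φ, Nat.succ_eq_add_one, Nat.sub_add_cancel hr.pos, h2]⟩⟩
  have he : ∀ i t, (e ^ i) t = φ^[i] t := fun i t => by
    induction i with
    | zero => rfl
    | succ i ih => rw [pow_succ', Function.iterate_succ_apply', ← ih]; rfl
  have ho : orderOf e = r := orderOf_eq_prime (RingEquiv.ext fun t => by rw [he, h2]; rfl) fun h => by
    obtain ⟨t, ht⟩ := h1
    exact ht (by rw [← show (e ^ 1) t = φ t from he 1 t, h]; rfl)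
  have : Finite (Subgroup.zpowers e) := Nat.finite_of_card_ne_zero (by rw [Nat.card_zpowers, ho]; exact hr.ne_zero)
  have := Fintype.ofFinite (Subgroup.zpowers e)
  have h5 := Subalgebra.isSimpleOrder_of_finrank_prime (FixedPoints.subfield (Subgroup.zpowers e) K) K (by
    rwa [FixedPoints.finrank_eq_card, ← Nat.card_eq_fintype_card, Nat.card_zpowers, ho])
  have h6 : ∀ a : FixedPoints.subfield (Subgroup.zpowers e) K, φ a = a := fun a => a.2 ⟨e, Subgroup.mem_zpowers e⟩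
  rcases h5.eq_bot_or_eq_top { R with algebraMap_mem' := fun a => h3 _ (h6 a) } with h | h
  · obtain ⟨t, ht, ht'⟩ := h4
    obtain ⟨a, rfl⟩ := Algebra.mem_bot.1 (h.le ht)
    exact absurd (h6 a) ht'
  · exact eq_top_iff.2 fun t _ => h.ge trivial

end Cfsg.Agent.H33
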