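import Cfsg.Agent.H33.TwBT
import Cfsg.Agent.H38.Twist
import Cfsg.Agent.H69.StrongEmb

/-! Overgroups of the group of fixed points of a field automorphism: the local analysis. -/

set_option autoImplicit false

namespace Cfsg.Agent.H33

open Cfsg.Agent.H38 Cfsg.Agent.H64

variable {ι R : Type} [Fintype ι] [DecidableEq ι]
variable {P : RS ι R} {F : Type*} [Field F] {G : Type*} [Group G] {X : RG P F G}

theorem eq_one_of_ht [Finite R] (hP : P.Conn) {J : Set ι} (hJ : ∃ j, j ∉ J) {w : Equiv.Perm R} (hw : w ∈ P.WJ J)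
    (h : ∀ s, ¬ P.InJ J s → P.ht (w s) = P.ht s) : w = 1 := by
  have h1 : ∀ i ∈ J, ∃ r, ¬ P.InJ J r ∧ P.A i r ≠ 0 := by
    by_contra! hc
    obtain ⟨i₀, -, h₀⟩ := hc
    obtain ⟨j₀, hj₀⟩ := hJ
    have h2 : ∀ i, (∀ r, ¬ P.InJ J r → P.A i r = 0) → i ∈ J := fun i hi => by
      by_contra hn
      have := hi _ (mt P.inJ_sp.1 hn)
      rw [P.A_sp_self] at this
      omega
    obtain ⟨i, hi, j, hj, hC⟩ := hP {i | ∀ r, ¬ P.InJ J r → P.A i r = 0} ⟨i₀, h₀⟩ ⟨j₀, fun h => hj₀ (h2 _ h)⟩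
    have hjJ : j ∈ J := by
      by_contra hn
      exact hC (P.A_sp i j ▸ hi _ (mt P.inJ_sp.1 hn))
    refine hj fun r hr => ?_
    have h3 := hi _ (mt (P.inJ_WJ (P.σ_mem_WJ hjJ)).1 hr)
    have h5 : P.cf (P.σ j r) = (1 : ℤ) • P.cf r + (-P.A j r) • P.cf (P.sp j) := by
      rw [P.cf_σ, P.cf_sp j]
      ext k; simp [Pi.single_apply]; split_ifs <;> ring
    rw [P.A_of_cf h5, hi r hr, P.A_sp] at h3
    simpa [hC] using h3
  refine P.eq_one_of_pos hw fun i hi => ?_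
  obtain ⟨r, hr, hA⟩ := h1 i hi
  have h2 := ht_W_σ P (P.WJ_le J hw) i r
  rw [← Equiv.Perm.mul_apply, Equiv.Perm.mul_apply, h _ (mt (P.inJ_WJ (P.σ_mem_WJ hi)).1 hr), h r hr, P.ht_σ] at h2
  have h3 : P.A i r * (P.ht (w (P.sp i)) - 1) = 0 := by linear_combination h2
  rw [P.pos_iff_ht]
  have := (mul_eq_zero.1 h3).resolve_left hA
  omega

section
variable [Finite R] (hX : X.Faithful)
include hX

theorem eq_one_of_mem_PJ_VJ {J : Set ι} {v : G} (h1 : v ∈ X.PJ J)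
    (h2 : v ∈ X.US {r | ¬ P.Pos r ∧ ¬ P.InJ J r}) : v = 1 := by
  obtain ⟨b, hb, n, w, hn, hw, b', hb', e⟩ := X.mem_PJ_iff.1 h1
  obtain ⟨b, hb, u, hu, e'⟩ := hn.exists_Um hb hb'
  have h3 : u * v * u⁻¹ ∈ X.V := X.US_mono (fun _ h => h.1) (X.US_conj_mem (S := {r | P.InJ J r}) (by
    rintro r hr s hs
    refine ⟨by rintro rfl; exact hs.2 (P.inJ_neg.2 hr), ?_⟩
    rintro k ⟨a, c, -, hc, hk⟩
    obtain ⟨j, hj, h0⟩ : ∃ j, j ∉ J ∧ P.cf s j ≠ 0 := by simpa [RS.InJ] using hs.2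
    have h4 : P.cf k j < 0 := by
      have := P.not_pos_iff.1 hs.1 j
      rw [hk]
      simp only [Pi.add_apply, Pi.smul_apply, hr j hj, smul_eq_mul, mul_zero, zero_add]
      exact mul_neg_of_pos_of_neg hc (by omega)
    exact ⟨P.not_pos_of_coeff h4, fun h => h4.ne (h j hj)⟩)
    (X.US_mono (fun r hr => by_contra fun h => hr.2 ((P.pos_WJ_of_not_inJ hw h).2 hr.1)) hu) h2)
  obtain ⟨m, w₀, hm, h0⟩ := X.exists_rep_w0
  have h4 : m⁻¹ * (u * v * u⁻¹) * m ∈ X.U := hm.acts.conj_mem' hm.mem_W (fun s hs => by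
    by_contra h; exact hs ((h0 s).2 h)) h3
  have hub := mul_mem (X.U_le_B (X.Um_le _ hu)) hb
  have h5 := hX.weyl_unique' (hn.mul hm) hm hub (one_mem _) (one_mem _) (X.U_le_B h4) (by rw [e, e']; group)
  obtain rfl : w = 1 := mul_eq_right.1 h5
  have h6 := hX.eq_one_of_mem_B_V (show u * v * u⁻¹ ∈ X.B by
    rw [e, e', ← mul_assoc, mul_inv_cancel_right, ← mul_assoc]
    exact mul_mem hub (X.H_le_B hn.mem_H)) h3
  simpa [mul_inv_eq_iff_eq_mul] using h6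

/-- uniqueness of the canonical coset representatives of a parabolic subgroup -/
theorem std_unique [Fintype R] {J : Set ι} {a a' n n' y : G} {d d' : Equiv.Perm R} (hn : X.Rep n d) (hn' : X.Rep n' d')
    (hd : P.Red d J) (hd' : P.Red d' J) (ha : a ∈ X.Um d⁻¹) (ha' : a' ∈ X.Um d'⁻¹) (hy : y ∈ X.PJ J)
    (e : a * n = a' * n' * y) : d = d' ∧ a = a' := by
  have e2 : a'⁻¹ * a * n = n' * y := by rw [mul_assoc, e]; group
  obtain ⟨v, hv, w, hw, -, -, e3⟩ := hX.exists_dc_eq (K := ∅) (X.B_le_PJ _ (X.U_le_B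
    (mul_mem (inv_mem (X.Um_le _ ha')) (X.Um_le _ ha)))) hy (fun _ h => h.elim) hd' hn hn' e2
  obtain rfl : v = 1 := by simpa [RS.WJ] using hv
  rw [one_mul] at e3
  obtain rfl := hd'.eq_one hn'.mem_W hw (e3 ▸ hd)
  rw [mul_one] at e3
  subst e3
  refine ⟨rfl, ?_⟩
  have := eq_one_of_mem_PJ_VJ hX (J := J) (v := n⁻¹ * (a'⁻¹ * a) * n⁻¹⁻¹) (by
    rw [inv_inv, mul_assoc, e2, ← mul_assoc]
    exact mul_mem (X.B_le_PJ J (X.H_le_B (hn.inv_mul_mem_H hn'))) hy) (hn.inv.acts.conj_mem (fun s hs =>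
      And.intro hs.2 fun h => hs.2 ((hd.pos_iff hn.mem_W h).1 (by simpa using hs.1))) (mul_mem (inv_mem ha') ha))
  rw [mul_inv_eq_one, mul_eq_left, inv_mul_eq_one] at this
  exact this.symm

theorem fix3 (T : Twist X) {u n u' x : G} {w : Equiv.Perm R} (hu : u ∈ X.U) (hn : X.Rep n w) (hu' : u' ∈ X.Um w)
    (hx : x ∈ X.U) (h : T.σ (u * n * u') = x * (u * n * u')) : T.σ n = n ∧ T.σ u' = u' := by
  have h' := X.rep_wy (T.σ_N hn.mem_N)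
  rw [map_mul, map_mul, ← mul_assoc, ← mul_assoc] at h
  exact (hX.bruhat_unique h' hn (T.σ_U hu) (mul_mem hx hu) (T.σ_US
    (S' := {r | P.Pos r ∧ ¬ P.Pos (X.wy (T.σ n) r)}) (fun s hs => ⟨(T.τ_pos s).2 hs.1, by
      rw [T.τ_rep hX hn h', T.τ_pos]; exact hs.2⟩) hu') hu' h).2.2

end

theorem tw_σ_PJ (T : Twist X) {J : Set ι} (hJ : ∀ j, T.π j ∈ J ↔ j ∈ J) {y : G} (hy : y ∈ X.PJ J) :
    T.σ y ∈ X.PJ J := by
  rw [X.PJ_eq] at hy ⊢
  refine (sup_le (fun y hy => Subgroup.mem_comap.2 (Subgroup.mem_sup_left (T.σ_H hy)))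
    (fun y hy => Subgroup.mem_comap.2 (Subgroup.mem_sup_right (T.σ_US (fun s hs => ?_) hy))) :
    _ ≤ Subgroup.comap T.σ.toMonoidHom _) hy
  exact hs.imp (T.τ_pos s).2 (T.τ_inJ hJ s).2

theorem tw_opt [Fintype R] (T : Twist X) (hG : X.grp = ⊤) {Q : Set G} (hQ : ∀ y ∈ Q, T.σ y = y) {g : G} {l : ι → ℝ}
    (h : Opt X (fun _ => 1) Q g l) : Opt X (fun _ => 1) Q (T.σ g) (l ∘ T.π.symm) := by
  have h1 : ∀ s, ev P (l ∘ T.π.symm) (T.τ s) = ev P l s := fun s => by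
    rw [ev, ← Equiv.sum_comp T.π]
    simp [T.cf_τ, ev]
  refine ⟨hG ▸ trivial, fun _ => h.dom _, fun y hy => ?_, fun l' hl' => le_trans (le_of_eq ?_) (h.min l' hl')⟩
  · have := T.σ_US (S' := SL P (fun _ => 1) (l ∘ T.π.symm)) (fun s hs => le_trans hs (h1 s).ge) (h.le y hy)
    rwa [map_mul, map_mul, map_inv, hQ y hy] at this
  · rw [nrm, ← Equiv.sum_comp T.τ]
    simp only [h1, nrm]

theorem sameCycle_ind [Finite R] {τ : Equiv.Perm R} {p : R → Prop} (h : ∀ a, p a → p (τ a)) {s a : R}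
    (e : τ.SameCycle s a) (hs : p s) : p a := by
  obtain ⟨k, -, rfl⟩ := e.exists_pow_eq'
  clear e
  induction k with
  | zero => exact hs
  | succ k ih => rw [pow_succ']; exact h _ ih

/-- two commuting twists with enough common fixed points -/
structure SubD (X : RG P F G) where
  μ : Twist X
  l : Twist X
  comm : ∀ g, μ.σ (l.σ g) = l.σ (μ.σ g)
  ex : ∀ s, ∃ y, (μ.σ y = y ∧ l.σ y = y) ∧ (X.x s 1)⁻¹ * y ∈ X.US {a | a ≠ s ∧ μ.τ.SameCycle s a}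

namespace SubD

variable (S : SubD X)

/-- the common fixed points -/
def G0 : Subgroup G :=
  MonoidHom.eqLocus S.μ.σ.toMonoidHom (MonoidHom.id G) ⊓ MonoidHom.eqLocus S.l.σ.toMonoidHom (MonoidHom.id G)

theorem mem_G0 {g : G} : g ∈ S.G0 ↔ S.μ.σ g = g ∧ S.l.σ g = g := Iff.rfl

variable [Fintype R] (hX : X.Faithful)

theorem ex' (s : R) : ∃ y ∈ S.G0, ∀ A : Set R, (∀ a ∈ A, S.μ.τ a ∈ A) → s ∈ A →
    (X.x s 1)⁻¹ * y ∈ X.US {a | a ≠ s ∧ a ∈ A} ∧ y ∈ X.US A := by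
  obtain ⟨y, h1, h2⟩ := S.ex s
  refine ⟨y, h1, fun A hA hs => ?_⟩
  have h3 := X.US_mono (T := {a | a ≠ s ∧ a ∈ A}) (fun a ha => ⟨ha.1, sameCycle_ind hA ha.2 hs⟩) h2
  exact ⟨h3, by simpa using mul_mem (X.x_mem hs 1) (X.US_mono (fun _ h => h.2) h3)⟩

include hX

theorem exists_n (i : ι) : ∃ m ∈ S.G0, ∃ w, X.Rep m w ∧ w ∈ P.WJ (S.μ.nodes {S.μ.orb i}) ∧
    ∀ k, S.μ.orb k = S.μ.orb i → ¬ P.Pos (w (P.sp k)) := by
  obtain ⟨v, hf, h⟩ := S.ex' (P.neg (P.sp i))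
  have hv := (h {r | ¬ P.Pos r ∧ P.InJ (S.μ.nodes {S.μ.orb i}) r}
    (fun s hs => ⟨mt (S.μ.τ_pos s).1 hs.1, (S.μ.τ_inJ (S.μ.π_mem_nodes _) s).2 hs.2⟩)
    ⟨P.not_pos_neg_sp i, P.inJ_neg.2 (P.inJ_sp.2 rfl)⟩).2
  have hne : v ≠ 1 := by
    rintro rfl
    have := (h {r | P.ht r = -1} (fun s hs => (S.μ.τ_ht s).trans hs) (by simp [P.ht_neg, P.ht_sp])).1
    rw [mul_one, ← X.x_neg] at this
    simpa using hX.sep (-htL ι) _ _ (by simp [htL_cf, P.ht_neg, P.ht_sp]) (X.US_mono (fun a ha => And.intro ha.1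
      (by simp [htL_cf, P.ht_neg, P.ht_sp, show P.ht a = -1 from ha.2])) this)
  obtain ⟨b, hb, n, w, hn, hw, b', hb', e⟩ := X.mem_PJ_iff.1
    ((X.US_le (K := X.PJ (S.μ.nodes {S.μ.orb i}))).2 (fun r hr t => X.x_mem_PJ hr.2 t) hv)
  obtain ⟨u, hu, m, w', hm, u', hu', e'⟩ := X.exists_bruhat' (X.US_le_grp _ hv)
  obtain rfl : w = w' := hX.weyl_unique' hn hm hb (X.U_le_B hu) hb' (X.U_le_B (X.Um_le _ hu')) (e.symm.trans e')
  have hmf := S.μ.fix_of_bruhat hX hu hm hu' (e' ▸ hf.1)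
  refine ⟨m, ⟨hmf, S.l.fix_of_bruhat hX hu hm hu' (e' ▸ hf.2)⟩, w, hm, hw, fun k hk h => hne ?_⟩
  obtain rfl : w = 1 := P.eq_one_of_pos hw fun l hl => S.μ.pos_orb hX hm hmf (hk.trans hl.symm) h
  exact hX.eq_one_of_mem_B_V (e' ▸ mul_mem (mul_mem (X.U_le_B hu) (X.H_le_B hm.mem_H)) (X.U_le_B (X.Um_le _ hu')))
    (X.US_mono (fun _ h => h.1) hv)

theorem exists_rep {d : Equiv.Perm R} (hd : d ∈ P.W) (h : ∀ s, d (S.μ.τ s) = S.μ.τ (d s)) :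
    ∃ n ∈ S.G0, X.Rep n d := by
  classical
  induction hk : P.inv d using Nat.strong_induction_on generalizing d with
  | _ k ih =>
  by_cases h1 : ∀ i, P.Pos (d (P.sp i))
  · exact ⟨1, one_mem _, P.eq_one_of_pos' hd h1 ▸ X.rep_one⟩
  obtain ⟨i, hi⟩ := not_forall.1 h1
  obtain ⟨m, hm, w, h2, h3, h4⟩ := S.exists_n hX i
  have h5 : ∀ r, P.Pos r → P.InJ (S.μ.nodes {S.μ.orb i}) r → ¬ P.Pos (d r) := fun r hr hJ =>
    P.W_not_pos_of_sp hd hr fun k hk => S.μ.orb_ind (p := fun k => ¬ P.Pos (d (P.sp k))) (fun k hk => by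
      rwa [← S.μ.τ_sp, h, S.μ.τ_pos]) (by_contra fun e => hk (hJ k fun e' => e (Eq.symm e'))) hi
  obtain ⟨n, hn, h6⟩ := ih (P.inv (d * w)) (by
    rw [← hk]
    refine lt_of_le_of_lt (Finset.card_le_card_of_injOn (t := (P.invSet d).erase (P.sp i)) w (fun r hr => ?_)
      w.injective.injOn) (Finset.card_erase_lt_of_mem (P.mem_invSet.2 ⟨P.pos_sp i, hi⟩))
    obtain ⟨h7, h8⟩ := P.mem_invSet.1 hr
    have h9 : ¬ P.InJ (S.μ.nodes {S.μ.orb i}) r := fun hJ => h5 _ (P.pos_neg_iff.2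
      (P.W_not_pos_of_sp h2.mem_W h7 fun k hk => h4 k (by_contra fun e => hk (hJ k e))))
      (P.inJ_neg.2 ((P.inJ_WJ h3).2 hJ)) (by rwa [P.W_neg hd, P.pos_neg_iff])
    refine Finset.mem_erase.2 ⟨fun e => h9 ((P.inJ_WJ h3).1 (e ▸ P.inJ_sp.2 rfl)),
      P.mem_invSet.2 ⟨(P.pos_WJ_of_not_inJ h3 h9).2 h7, h8⟩⟩) (mul_mem hd h2.mem_W) (fun s => by
    rw [Equiv.Perm.mul_apply, S.μ.τ_rep hX h2 (hm.1.symm ▸ h2), h]; rfl) rfl
  exact ⟨n * m⁻¹, mul_mem hn (inv_mem hm), by simpa using h6.mul h2.inv⟩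

theorem mem_U_of_centralizes (hG : X.grp = ⊤) (hP : P.Conn) (hZ : Subgroup.center G = ⊥) {J : Set ι}
    (hJ : ∃ j, j ∉ J) (hπ : ∀ j, S.μ.π j ∈ J ↔ j ∈ J) {g : G} (hg : g ∈ X.PJ J) (hσ : S.μ.σ g = g)
    (h : ∀ y ∈ X.UJ J, y ∈ S.G0 → g * y = y * g) : g ∈ X.U := by
  obtain ⟨u, hu, n, w, hn, u', hu', rfl⟩ := X.exists_bruhat' (g := g) (hG ▸ trivial)
  have hwW := hn.mem_W
  have hw : w ∈ P.WJ J := by
    obtain ⟨w', hw', h'⟩ := RG.mem_PJ_iff_inC.1 hg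
    rwa [hX.inC_unique ⟨u, X.U_le_B hu, n, hn, u', X.U_le_B (X.Um_le _ hu'), rfl⟩ h']
  have hτ := S.μ.τ_rep hX hn ((S.μ.fix_of_bruhat hX hu hn hu' hσ).symm ▸ hn)
  replace hu' := X.Um_le _ hu'
  obtain ⟨c, hc, e⟩ := hn.acts
  have key : ∀ s, P.Pos s → ¬ P.InJ J s → (∀ a, (P.Pos a ∧ ¬ P.InJ J a) ∧ P.ht s < P.ht a → P.ht (w a) = P.ht a) →
      P.ht (w s) = P.ht s ∧ (w s = s → c s = 1) := by
    intro s hs hs' hT
    have hT' : Set.MapsTo w {a | (P.Pos a ∧ ¬ P.InJ J a) ∧ P.ht s < P.ht a}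
        {a | (P.Pos a ∧ ¬ P.InJ J a) ∧ P.ht s < P.ht a} := fun a ha =>
      ⟨⟨(P.pos_WJ_of_not_inJ hw ha.1.2).2 ha.1.1, mt (P.inJ_WJ hw).1 ha.1.2⟩, hT a ha ▸ ha.2⟩
    have hwr : P.Pos (w s) ∧ ¬ P.InJ J (w s) := ⟨(P.pos_WJ_of_not_inJ hw hs').2 hs, by rwa [P.inJ_WJ hw]⟩
    have hle : P.ht (w s) ≤ P.ht s := by
      by_contra hlt
      obtain ⟨a, ha, e⟩ := (((Set.toFinite _).injOn_iff_bijOn_of_mapsTo hT').1 w.injective.injOn).surjOn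
        ⟨hwr, not_le.1 hlt⟩
      rw [w.injective e] at ha
      exact lt_irrefl _ ha.2
    obtain ⟨y, hy, h1⟩ := S.ex' s
    obtain ⟨h2, h3⟩ := h1 {a | (P.Pos a ∧ ¬ P.InJ J a) ∧ P.ht s ≤ P.ht a} (fun a ha => by
      simpa only [Set.mem_ofPred_eq, S.μ.τ_pos, S.μ.τ_inJ hπ, S.μ.τ_ht] using ha) ⟨⟨hs, hs'⟩, le_rfl⟩
    have h4 : Co X (w s) (n * y * n⁻¹) (c s) := by
      have := hn.acts.conj_mem (T := {b | b ≠ w s ∧ P.ht (w s) ≤ P.ht b}) (fun a ha => ⟨w.injective.ne ha.1, ha.2⟩)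
        (h1 {a | P.ht (w s) ≤ P.ht (w a)} (fun a ha => by
          simpa only [Set.mem_ofPred_eq, hτ, S.μ.τ_ht] using ha) (le_refl (P.ht (w s)))).1
      rw [Co, ← mul_one (c s), ← e]
      simpa [mul_assoc] using this
    have h5 := h _ (X.US_mono (fun a ha => ha.1) h3) hy
    have h6 := mul_mem (comm_lev X J _ hu h3) (inv_mem (hn.acts.conj_mem hT' (comm_lev X J _ (inv_mem hu') h3)))
    have h7 : n * y * n⁻¹ = y * (y⁻¹ * u⁻¹ * y * u * (n * (y⁻¹ * u'⁻¹⁻¹ * y * u'⁻¹) * n⁻¹)⁻¹) := by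
      calc _ = u⁻¹ * (u * n * u' * y) * (y⁻¹ * u'⁻¹ * y * n⁻¹) := by group
        _ = _ := by rw [h5]; group
    rw [h7] at h4
    have h8 := X.US_mono (T := {b | b ≠ w s ∧ P.ht (w s) ≤ P.ht b}) (fun a ha => And.intro
      (by rintro rfl; exact absurd ha.2 (not_lt.2 hle)) (hle.trans ha.2.le)) h6
    refine ⟨by_contra fun h9 => right_ne_zero_of_mul_eq_one (hc s) ?_, fun h9 => ?_⟩
    · exact h4.unique hX hwr.1 (co_zero (mul_mem (X.US_mono (fun a ha => And.intro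
        (by rintro rfl; exact h9 (le_antisymm hle ha.2)) (hle.trans ha.2)) h3) h8))
    · rw [h9] at h4 h8
      simpa using h4.unique hX hs (Co.mul hs (X.US_mono (fun a ha => And.intro ha.1 ha.2.2) h2) (co_zero h8))
  obtain ⟨M, hM⟩ : ∃ M : ℤ, ∀ r, P.ht r ≤ M :=
    (Set.finite_range P.ht).bddAbove.imp fun M hM r => hM ⟨r, rfl⟩
  have key2 : ∀ k : ℕ, ∀ s, P.Pos s → ¬ P.InJ J s → M - P.ht s < k → P.ht (w s) = P.ht s := by
    intro k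
    induction k with
    | zero => intro s _ _ h; have := hM s; omega
    | succ k ih =>
      exact fun s hs hs' hk => (key s hs hs' fun a ha =>
        ih a ha.1.1 ha.1.2 (by have := ha.2; push_cast at hk; omega)).1
  have key3 : ∀ s, P.Pos s → ¬ P.InJ J s → P.ht (w s) = P.ht s := fun s hs hs' =>
    key2 (M - P.ht s + 1).toNat s hs hs' (by have := hM s; omega)
  obtain rfl : w = 1 := eq_one_of_ht hP hJ hw fun s hs => by
    by_cases hp : P.Pos s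
    · exact key3 s hp hs
    · have := key3 _ (P.pos_neg_iff.2 hp) (by rwa [P.inJ_neg])
      rwa [P.W_neg hwW, P.ht_neg, P.ht_neg, neg_inj] at this
  have hK := grp_le_of_outJ X hP hJ (K := Subgroup.centralizer {n}) fun s hs t => by
    have h1 : c s = 1 := by
      by_cases hp : P.Pos s
      · exact (key s hp hs fun _ _ => rfl).2 rfl
      · simpa [(key _ (P.pos_neg_iff.2 hp) (by rwa [P.inJ_neg]) fun _ _ => rfl).2 rfl] using hc s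
    have := e s t
    rw [h1, one_mul, mul_inv_eq_iff_eq_mul] at this
    exact Subgroup.mem_centralizer_singleton_iff.2 this.symm
  have hz : n ∈ Subgroup.center G := Subgroup.mem_center_iff.2 fun y =>
    Subgroup.mem_centralizer_singleton_iff.1 (hK (hG ▸ trivial))
  rw [hZ, Subgroup.mem_bot] at hz
  rw [hz, mul_one]
  exact mul_mem hu hu'

variable [Fintype F] (p : ℕ) [hp : Fact p.Prime] [CharP F p] [Finite G] (hG : X.grp = ⊤)
include hG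

/-- the optimal parabolic subgroup is conjugate to a standard one in the group of fixed points -/
theorem exists_std {Q : Subgroup G} (hQ : IsPGroup p Q) (hne : Q ≠ ⊥) (hσ : Q ≤ S.G0) :
    ∃ g ∈ S.G0, ∃ J : Set ι, (∃ j, j ∉ J) ∧ (∀ j, S.μ.π j ∈ J ↔ j ∈ J) ∧ (∀ j, S.l.π j ∈ J ↔ j ∈ J) ∧
      ∀ m ∈ Subgroup.normalizer (Q : Set G), g * m * g⁻¹ ∈ X.PJ J := by
  obtain ⟨y₀, hy₀, hy1⟩ := (Subgroup.bot_or_exists_ne_one Q).resolve_left hne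
  obtain ⟨g, l, hO⟩ := (wt_one X).exists_opt (Q := (Q : Set G)) (rg_exists_conj_le_U p hX hG hQ)
  have h1 : ∀ T : Twist X, (∀ y ∈ Q, T.σ y = y) → (∀ j, T.π j ∈ {j | l j = 0} ↔ j ∈ {j | l j = 0}) ∧
      T.σ g * g⁻¹ ∈ X.PJ {j | l j = 0} := fun T hT => by
    obtain ⟨hl, hz⟩ := hO.unique (wt_one X) hX (tw_opt T hG hT hO)
    refine ⟨fun j => ?_, hz⟩
    have := congrFun hl (T.π j)
    simp only [Function.comp, Equiv.symm_apply_apply] at this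
    simp [this]
  have h2 : ∀ m ∈ Subgroup.normalizer (Q : Set G), g * m * g⁻¹ ∈ X.PJ {j | l j = 0} := fun m hm =>
    (hO.unique (wt_one X) hX (hO.mul (hG ▸ trivial) fun y hy => (Subgroup.mem_normalizer_iff.1 hm y).1 hy)).2
  have h0 : ∃ j, j ∉ {j | l j = 0} := hO.exists_ne (wt_one X) hy₀ hy1
  generalize {j | l j = 0} = J at *
  obtain ⟨n, d, hn, hd, a, ha, y, hy, e⟩ : ∃ n d, X.Rep n d ∧ P.Red d J ∧ ∃ a ∈ X.Um d⁻¹, ∃ y ∈ X.PJ J,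
      g⁻¹ = a * n * y := by
    obtain ⟨u, hu, n, w, hn, u', hu', e⟩ := X.exists_bruhat' (g := g⁻¹) (hG ▸ trivial)
    obtain ⟨a, ha, d, hd, b, hb, -, h3, rfl⟩ := P.exists_dc ∅ J hn.mem_W
    obtain rfl : a = 1 := by simpa [RS.WJ] using ha
    obtain ⟨n₁, hn₁⟩ := X.exists_rep hd
    obtain ⟨a, ha, c, hc, rfl⟩ := X.exists_Um_mul_Up d⁻¹ hu
    exact ⟨n₁, d, hn₁, h3, a, ha, n₁⁻¹ * c * n₁⁻¹⁻¹ * (n₁⁻¹ * n * u'), mul_mem (X.B_le_PJ J (X.U_le_B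
      (hn₁.inv.conj_Up hc))) (mul_mem ((hn₁.inv.mul hn).mem_PJ (by simpa using hb))
      (X.B_le_PJ J (X.U_le_B (X.Um_le _ hu')))), by rw [e]; group⟩
  have h3 : ∀ T : Twist X, (∀ y ∈ Q, T.σ y = y) → (∀ s, d (T.τ s) = T.τ (d s)) ∧ T.σ a = a := fun T hT => by
    obtain ⟨hJ, hz⟩ := h1 T hT
    have hn' := X.rep_wy (T.σ_N hn.mem_N)
    have h4 := T.τ_rep hX hn hn'
    generalize X.wy (T.σ n) = d' at *
    obtain ⟨rfl, h5⟩ := std_unique hX hn hn' hd (fun j hj => by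
      obtain ⟨j, rfl⟩ := T.π.surjective j
      rw [← T.τ_sp, h4, T.τ_pos]
      exact hd j ((hJ j).1 hj)) ha (T.σ_US (fun s hs => And.intro ((T.τ_pos s).2 hs.1) (by
        obtain ⟨s, rfl⟩ := d.surjective s
        simpa [← h4, T.τ_pos] using hs.2)) ha) (mul_mem (mul_mem (tw_σ_PJ T hJ hy) hz) (inv_mem hy)) (by
      have := congrArg T.σ e
      rw [map_mul, map_mul, map_inv] at this
      rw [← inv_inv (T.σ g), this, e]; group)
    exact ⟨h4, h5.symm⟩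
  obtain ⟨h4, h5⟩ := h3 S.μ fun y hy => (hσ hy).1
  obtain ⟨m, hm, hm'⟩ := S.exists_rep hX hn.mem_W h4
  refine ⟨(a * m)⁻¹, inv_mem (mul_mem ⟨h5, (h3 S.l fun y hy => (hσ hy).2).2⟩ hm), J, h0,
    (h1 S.μ fun y hy => (hσ hy).1).1, (h1 S.l fun y hy => (hσ hy).2).1, fun z hz => ?_⟩
  have h6 := mul_mem (X.B_le_PJ J (X.H_le_B (hm'.inv_mul_mem_H hn))) hy
  have := mul_mem (mul_mem h6 (h2 z hz)) (inv_mem h6)
  rw [← inv_inv g, e] at this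
  simpa [mul_assoc] using this

variable (hP : P.Conn) (hZ : Subgroup.center G = ⊥) {M : Subgroup G} (h0 : S.G0 ≤ M) (h1 : ∀ g ∈ M, S.μ.σ g = g)
  (hU : ∀ g ∈ M, g ∈ X.U → S.l.σ g = g)
include hP hZ h0 h1 hU

omit [Fintype F] [Finite G] in
theorem mem_G0_of_PJ {J : Set ι} (hJ : ∃ j, j ∉ J) (hπ : ∀ j, S.μ.π j ∈ J ↔ j ∈ J) (hπ' : ∀ j, S.l.π j ∈ J ↔ j ∈ J)
    {g : G} (hg : g ∈ M) (hg' : g ∈ X.PJ J) : g ∈ S.G0 := by
  have h2 := S.mem_U_of_centralizes hX hG hP hZ hJ hπ (mul_mem hg' (inv_mem (tw_σ_PJ S.l hπ' hg')))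
    (by rw [map_mul, map_inv, S.comm, h1 g hg]) fun y hy hy' => by
      have := hU _ (mul_mem (mul_mem (inv_mem hg) (h0 hy')) hg) (X.UJ_le_U J (by
        simpa using (Subgroup.mem_normalizer_iff.1 (X.PJ_le_normalizer J (inv_mem hg')) y).1 hy))
      rw [map_mul, map_mul, map_inv, (S.mem_G0.1 hy').2] at this
      calc _ = g * ((S.l.σ g)⁻¹ * y * S.l.σ g) * (S.l.σ g)⁻¹ := by group
        _ = _ := by rw [this]; group
  obtain ⟨u, hu, n, w, hn, u', hu', rfl⟩ := X.exists_bruhat' (g := g) (hG ▸ trivial)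
  obtain ⟨h3, h4⟩ := fix3 hX S.l hu hn hu' (inv_mem h2) (by group)
  obtain ⟨h5, h6⟩ := fix3 hX S.μ hu hn hu' (one_mem _) (by rw [one_mul, h1 _ hg])
  have h7 : u ∈ M := by
    simpa using mul_mem (mul_mem hg (inv_mem (h0 ⟨h6, h4⟩))) (inv_mem (h0 ⟨h5, h3⟩))
  exact mul_mem (mul_mem ⟨h1 u h7, hU u h7 hu⟩ ⟨h5, h3⟩) ⟨h6, h4⟩

theorem spe [Nonempty ι] (hne : ¬ M ≤ S.G0) : IsStronglyPEmbedded p (S.G0.subgroupOf M) := by
  refine H69.isStronglyPEmbedded_iff_normalizer.2 ⟨mt Subgroup.subgroupOf_eq_top.1 hne, ?_, fun A hA hp hA' m hm => ?_⟩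
  · obtain ⟨i⟩ := ‹Nonempty ι›
    obtain ⟨y, hy, h⟩ := S.ex' (P.sp i)
    rw [Nat.card_congr (Subgroup.subgroupOfEquivOfLe h0).toEquiv]
    refine H69.dvd_card_of_isPGroup_le (A := X.U ⊓ S.G0) (rg_isPGroup_U p hX).to_inf_left (fun e => ?_) inf_le_right
    obtain ⟨h2, h3⟩ := h _ (fun a => (S.μ.τ_pos a).2) (P.pos_sp i)
    rw [Subgroup.mem_bot.1 (e ▸ ⟨h3, hy⟩ : y ∈ ⊥), mul_one] at h2
    exact x_sp_not_mem hX i one_ne_zero (X.US_mono (fun a ha => And.intro ha.2 ha.1) (inv_mem_iff.1 h2))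
  · obtain ⟨g, hg, J, hJ, h2, h3, h4⟩ := S.exists_std hX p hG (Q := A.map M.subtype) (hp.map _)
      (fun e => hA' ((Subgroup.map_eq_bot_iff_of_injective _ M.subtype_injective).1 e))
      (by rintro _ ⟨y, hy, rfl⟩; exact hA hy)
    have := S.mem_G0_of_PJ hX hG hP hZ h0 h1 hU hJ h2 h3 (mul_mem (mul_mem (h0 hg) m.2) (inv_mem (h0 hg)))
      (h4 _ (map_mem_normalizer_map _ hm))
    simpa [Subgroup.mem_subgroupOf, mul_assoc] using mul_mem (mul_mem (inv_mem hg) this) hg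

end SubD

end Cfsg.Agent.H33
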