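import Cfsg.Agent.H33.SubB
import Cfsg.Agent.H64.WeakCl
import Cfsg.Agent.H90.SL2
import Cfsg.Agent.S0274
import Cfsg.Agent.S0268

/-! The group of fixed points of a field automorphism is not strongly embedded in a larger subgroup. -/

set_option autoImplicit false

namespace Cfsg.Agent.H33

open Cfsg.Agent.H38 Cfsg.Agent.H64

section
variable {G : Type*} [Group G] [Finite G] {p : ℕ} [hp : Fact p.Prime] {Y M : Subgroup G}
  (hs : IsStronglyPEmbedded p (Y.subgroupOf M)) (h0 : Y ≤ M)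
include hs h0

theorem spe_pgroup {A : Subgroup G} (hA : IsPGroup p A) {x y : G} (hx : x ∈ A) (hx0 : x ∈ Y) (hx1 : x ≠ 1)
    (hy : y ∈ A) (hyM : y ∈ M) : y ∈ Y :=
  H69.spe_le_of_inf_ne_bot hs (A := A.subgroupOf M) hA.comap_subtype (fun e => hx1 (congrArg Subtype.val
    (Subgroup.mem_bot.1 (e ▸ ⟨hx, hx0⟩ : (⟨x, h0 hx0⟩ : M) ∈ ⊥)))) (x := ⟨y, hyM⟩) hy

theorem spe_conj {g x : G} (hg : g ∈ M) (hx : x ∈ Y) (ho : orderOf x = p) (h : g * x * g⁻¹ ∈ Y) : g ∈ Y :=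
  H69.spe_mem_of_conj hs (g := ⟨g, hg⟩) (x := ⟨x, h0 hx⟩) hx (by rwa [Subgroup.orderOf_mk]) h

end

theorem spe_isConj {G : Type*} [Group G] [Finite G] {Y M : Subgroup G} (hs : IsStronglyPEmbedded 2 (Y.subgroupOf M))
    (h0 : Y ≤ M) {i y : G} (hi : i ∈ Y) (ho : orderOf i = 2) (hy : y ∈ M) (hy' : y ∉ Y) (h2 : y * y = 1) :
    ∃ k, k * i * k⁻¹ = y := by
  have h1 : i * i = 1 := by rw [← sq, ← ho, pow_orderOf_eq_one]
  have h3 : ∀ m : ℕ, i * (i * y) ^ m = ((i * y) ^ m)⁻¹ * i := fun m => by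
    rw [← inv_pow]
    refine (SemiconjBy.pow_right ?_ m).eq
    rw [SemiconjBy, mul_inv_rev, ← mul_assoc, h1, one_mul, mul_assoc, inv_mul_cancel, mul_one,
      inv_eq_of_mul_eq_one_right h2]
  obtain ⟨m, hm | hm⟩ := Nat.even_or_odd' (orderOf (i * y))
  · have h4 : orderOf ((i * y) ^ m) = 2 := by
      have := orderOf_pos (i * y)
      rw [orderOf_pow_of_dvd (by omega) ⟨2, by omega⟩, hm, Nat.mul_div_cancel _ (by omega)]
    have h5 : ((i * y) ^ m)⁻¹ = (i * y) ^ m := inv_eq_of_mul_eq_one_right (by rw [← sq, ← h4, pow_orderOf_eq_one])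
    have h6 := h3 m
    rw [h5] at h6
    have h7 := spe_conj hs h0 (pow_mem (mul_mem (h0 hi) hy) m) hi ho (by rwa [← h6, mul_inv_cancel_right])
    refine absurd (spe_conj hs h0 hy h7 h4 ?_) hy'
    have := (Commute.mul_left h6 ((Commute.refl (i * y)).pow_right m)).eq
    rw [← mul_assoc i i, h1, one_mul] at this
    rwa [this, mul_inv_cancel_right]
  · refine ⟨(i * y) ^ m, ?_⟩
    have h4 : (i * y) ^ m * (i * y) ^ m * (i * y) = 1 := by
      rw [← pow_add, ← pow_succ, ← two_mul, ← hm, pow_orderOf_eq_one]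
    have h5 : i * ((i * y) ^ m)⁻¹ = (i * y) ^ m * i := by
      rw [mul_inv_eq_iff_eq_mul, mul_assoc, h3, mul_inv_cancel_left]
    rw [mul_assoc, h5, ← mul_assoc, eq_inv_of_mul_eq_one_left h4, mul_inv_rev, inv_mul_cancel_right,
      inv_eq_of_mul_eq_one_right h2]

theorem neg_one_mem_or {F : Type*} [Field F] [Fintype F] (p : ℕ) [hp : Fact p.Prime] [CharP F p] (h2 : p ≠ 2)
    {H : Subgroup (Matrix.SpecialLinearGroup (Fin 2) F)} {a b : Matrix.SpecialLinearGroup (Fin 2) F}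
    (ha : a ∈ H) (hb : b ∈ H) (ha' : a ^ p = 1) (hb' : b ^ p = 1) :
    -1 ∈ H ∨ ∃ A : Subgroup _, IsPGroup p A ∧ a ∈ A ∧ b ∈ A := by
  by_cases h : 1 < Nat.card (Sylow p H)
  · obtain ⟨K, hK, ⟨e⟩⟩ := S0274.result p h2 H h
    have h3 : ((e.symm (-1) : K) : Matrix.SpecialLinearGroup (Fin 2) F) = -1 := Subtype.ext (S0268.result
      (Nat.odd_iff.2 (FiniteField.odd_card_of_char_ne_two (by rwa [ringChar.eq F p]))) _ (fun h => H28.sl_neg_one_ne
        (F := ZMod p) (fun h => h2 ((Nat.prime_dvd_prime_iff_eq hp.out Nat.prime_two).1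
          ((CharP.cast_eq_zero_iff (ZMod p) p 2).1 h))) (by simpa using h)) (by
      rw [← Subgroup.coe_mul, ← map_mul]; simp))
    exact Or.inl (h3 ▸ hK (e.symm (-1)).2)
  · have := Finite.card_le_one_iff_subsingleton.1 (not_lt.1 h)
    have h3 : ∀ c : H, c ^ p = 1 → c ∈ (default : Sylow p H) := fun c hc => by
      obtain ⟨Q, hQ⟩ := (show IsPGroup p (Subgroup.zpowers c) from fun ⟨_, k, rfl⟩ => ⟨1, Subtype.ext (by
        change (c ^ k) ^ p ^ 1 = 1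
        rw [pow_one, ← zpow_natCast, ← zpow_mul, mul_comm, zpow_mul, zpow_natCast, hc, one_zpow])⟩).exists_le_sylow
      exact Subsingleton.elim Q default ▸ hQ (Subgroup.mem_zpowers c)
    exact Or.inr ⟨_, (default : Sylow p H).isPGroup'.map H.subtype, ⟨⟨a, ha⟩, h3 _ (Subtype.ext ha'), rfl⟩,
      ⟨⟨b, hb⟩, h3 _ (Subtype.ext hb'), rfl⟩⟩

variable {ι R : Type} [Fintype ι] [DecidableEq ι]
variable {P : RS ι R} {F : Type*} [Field F] {G : Type*} [Group G] {X : RG P F G}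

theorem x_pow (X : RG P F G) (r : R) (t : F) (n : ℕ) : X.x r t ^ n = X.x r (n * t) := by
  induction n with
  | zero => simp [RG0.x_zero]
  | succ n ih => rw [pow_succ, ih, ← RG0.add]; simp [add_mul]

variable [Fintype R] (hX : X.Faithful)
include hX

omit [Fintype R] in
theorem orderOf_x (p : ℕ) [Fact p.Prime] [CharP F p] (r : R) : orderOf (X.x r 1) = p :=
  orderOf_eq_prime (by simp [x_pow, RG0.x_zero]) fun h => one_ne_zero (hX.eq_zero_of_x_eq_one h)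

theorem mem_US_of_comm_H {h v : G} {χ : R → F} (hχ : ∀ s t, h * X.x s t * h⁻¹ = X.x s (χ s * t)) (hv : v ∈ X.U)
    (e : h * v * h⁻¹ = v) : v ∈ X.US {s | P.Pos s ∧ χ s = 1} := by
  classical
  obtain ⟨t, rfl⟩ := X.exists_prodL P.cl_pos (L := (Set.toFinite {r | P.Pos r}).toFinset.toList) (by simp)
    (Finset.nodup_toList _) hv
  rw [show ∀ L, h * X.prodL L t * h⁻¹ = X.prodL L fun r => χ r * t r from fun L => by
    induction L with
    | nil => simp [RG0.prodL_nil]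
    | cons r L ih => rw [RG0.prodL_cons, RG0.prodL_cons, ← ih, ← hχ]; group] at e
  have := X.prodL_inj hX.sep P.cl_pos (by simp) (Finset.nodup_toList _) e
  refine Subgroup.list_prod_mem _ fun g hg => ?_
  obtain ⟨r, hr, rfl⟩ := List.mem_map.1 hg
  by_cases h0 : t r = 0
  · rw [h0, X.x_zero]; exact one_mem _
  · exact X.x_mem (And.intro (by simpa using hr) (mul_left_eq_self₀.1 (this r hr) |>.resolve_right h0)) _

omit [Fintype R] in
theorem eq_sp_of_conj {u i : G} {r : R} {c : F} {a : ι} (hu : u ∈ X.U) (hi : i ∈ X.U)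
    (h : i ∉ X.US ({r | P.Pos r} \ {P.sp a})) (e : u * X.x r c * u⁻¹ = i) : r = P.sp a := by
  by_contra hne
  refine h (e ▸ U_conj_mem_diff a hu ?_)
  by_cases hr : P.Pos r
  · exact X.x_mem (And.intro hr hne) c
  · rw [hX.eq_zero_of_x_mem_B hr (t := c) (X.U_le_B (by
      simpa [← e, mul_assoc] using mul_mem (mul_mem (inv_mem hu) hi) hu)), X.x_zero]
    exact one_mem _

variable (hG : X.grp = ⊤) {θ : R} (hθ : ∀ r, P.Pos r → ∀ t u, X.x r t * X.x θ u = X.x θ u * X.x r t)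
include hθ

omit hX [Fintype R] in
theorem conj_top {u : G} (hu : u ∈ X.U) (t : F) : u * X.x θ t * u⁻¹ = X.x θ t := by
  rw [Subgroup.mem_centralizer_singleton_iff.1 (US_le_centralizer X.toRG0 (fun r hr u => hθ r hr u t) hu),
    mul_inv_cancel_right]

include hG

theorem exists_conj_top (g : G) : ∃ u ∈ X.U, ∃ w ∈ P.W, ∃ c, (∀ T : Twist X, T.σ g = g → T.σ u = u) ∧
    g * X.x θ 1 * g⁻¹ = u * X.x (w θ) c * u⁻¹ := by
  obtain ⟨u, hu, n, w, hn, u', hu', rfl⟩ := X.exists_bruhat' (g := g) (hG ▸ trivial)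
  obtain ⟨c, -, e⟩ := hn.acts.exists_conj θ
  refine ⟨u, hu, w, hn.mem_W, c * 1, fun T hT => ?_, ?_⟩
  · obtain ⟨h1, h2⟩ := fix3 hX T hu hn hu' (one_mem _) (by rw [one_mul, hT])
    simpa [h1, h2] using hT
  · rw [← e, ← conj_top hθ (X.Um_le _ hu') 1]
    conv_rhs => rw [conj_top hθ (X.Um_le _ hu') 1, ← conj_top hθ (X.Um_le _ hu') 1]
    conv_lhs => rw [conj_top hθ (X.Um_le _ hu') 1]
    group

namespace SubD

variable (S : SubD X) [Fintype F] (p : ℕ) [hp : Fact p.Prime] [CharP F p] [Finite G] {M : Subgroup G}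
  (hs : IsStronglyPEmbedded p (S.G0.subgroupOf M)) (h0 : S.G0 ≤ M) (h1 : ∀ g ∈ M, S.μ.σ g = g)
  (hθ0 : X.x θ 1 ∈ S.G0)
include hs h0

omit hG hθ in
theorem pair {u : G} {r β : R} {c : F} (h : β ≠ P.neg r) (h2 : u * X.x β 1 * u⁻¹ ∈ S.G0)
    (h3 : u * X.x r c * u⁻¹ ∈ M) : u * X.x r c * u⁻¹ ∈ S.G0 :=
  spe_pgroup hs h0 ((isPGroup_pair p X.toRG0 hX.sep h).map (MulAut.conj u).toMonoidHom)
    ⟨_, Subgroup.mem_sup_right (X.x_mem (S := {β}) rfl 1), rfl⟩ h2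
    (fun h => one_ne_zero (hX.eq_zero_of_x_eq_one (conj_eq_one_iff.1 h)))
    ⟨_, Subgroup.mem_sup_left (X.x_mem (S := {r}) rfl c), rfl⟩ h3

include h1 hθ0

theorem false_of (h : ∀ u ∈ X.U, S.μ.σ u = u → ∀ c, u * X.x (P.neg θ) c * u⁻¹ ∈ M →
    u * X.x (P.neg θ) c * u⁻¹ ∈ S.G0) : False := by
  refine H69.spe_ne_top hs (Subgroup.subgroupOf_eq_top.2 fun g hg => ?_)
  obtain ⟨u, hu, w, -, c, h2, e⟩ := exists_conj_top hX hG hθ g
  have h3 := mul_mem (mul_mem hg (h0 hθ0)) (inv_mem hg)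
  refine spe_conj hs h0 hg hθ0 (orderOf_x hX p θ) ?_
  rw [e] at h3 ⊢
  by_cases h4 : θ = P.neg (w θ)
  · rw [← P.neg_neg (w θ), ← h4] at h3 ⊢
    exact h u hu (h2 _ (h1 g hg)) c h3
  · exact S.pair hX p hs h0 h4 (by rwa [conj_top hθ hu]) h3

theorem false_of_tw {β : R} (hβ : β ≠ θ) (h : ∀ u ∈ X.U, S.μ.σ u = u → u * X.x β 1 * u⁻¹ ∈ S.G0) : False :=
  S.false_of hX hG hθ p hs h0 h1 hθ0 fun u hu h2 _ => S.pair hX p hs h0 (by rwa [P.neg_neg]) (h u hu h2)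

theorem false_of_odd (h2 : p ≠ 2) (hμ : ∀ g, S.μ.σ g = g) (φ : Matrix.SpecialLinearGroup (Fin 2) F →* G)
    (hu : ∀ t, φ (H90.xu t) = X.x θ t) (hl : ∀ t, φ (H90.xl t) = X.x (P.neg θ) t) (hφ : φ (-1) ∈ S.G0) {χ : R → F}
    (hχ : ∀ s t, φ (-1) * X.x s t * (φ (-1))⁻¹ = X.x s (χ s * t)) {β : R} (hβ : β ≠ θ) (hβ0 : X.x β 1 ∈ S.G0)
    (hβ' : ∀ s, P.Pos s → χ s = 1 → ∀ t, X.x s t * X.x β 1 = X.x β 1 * X.x s t) : False := by
  refine S.false_of hX hG hθ p hs h0 h1 hθ0 fun u hu' _ c hc => ?_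
  have h3 : ∀ n : ℕ, H90.xu (1 : F) ^ n = H90.xu (n : F) ∧ H90.xl c ^ n = H90.xl (n * c) := fun n => by
    induction n with
    | zero => simp [H90.xu_zero, H90.xl_zero]
    | succ n ih => simp [pow_succ, ih, H90.xu_add, H90.xl_add, add_mul]
  let f := (MulAut.conj u).toMonoidHom.comp φ
  have e1 : f (H90.xu 1) = X.x θ 1 := by simpa [f, hu] using conj_top hθ hu' 1
  have e2 : f (H90.xl c) = u * X.x (P.neg θ) c * u⁻¹ := by simp [f, hl]
  rcases neg_one_mem_or p h2 (H := M.comap f) (a := H90.xu 1) (b := H90.xl c) (show f _ ∈ M from e1 ▸ h0 hθ0)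
    (show f _ ∈ M from e2 ▸ hc) (by simp [h3, H90.xu_zero]) (by simp [h3, H90.xl_zero]) with h4 | ⟨A, hA, h4, h5⟩
  · have h5 := (spe_conj hs h0 h4 hθ0 (orderOf_x hX p θ) (by
      rw [← e1, ← map_inv, ← map_mul, ← map_mul]; simpa [e1] using hθ0)).2
    change S.l.σ (u * φ (-1) * u⁻¹) = u * φ (-1) * u⁻¹ at h5
    rw [map_mul, map_mul, map_inv, (S.mem_G0.1 hφ).2] at h5
    have h6 := Subgroup.mem_centralizer_singleton_iff.1 (US_le_centralizer X.toRG0 (fun s hs => hβ' s hs.1 hs.2)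
      (mem_US_of_comm_H hX hχ (mul_mem (inv_mem hu') (S.l.σ_U hu')) (by
        calc _ = u⁻¹ * (u * φ (-1) * u⁻¹) * S.l.σ u * (φ (-1))⁻¹ := by group
          _ = _ := by rw [← h5]; group)))
    refine S.pair hX p hs h0 (by rwa [P.neg_neg]) ⟨hμ _, ?_⟩ hc
    change S.l.σ _ = u * X.x β 1 * u⁻¹
    rw [map_mul, map_mul, map_inv, (S.mem_G0.1 hβ0).2]
    calc _ = u * (u⁻¹ * S.l.σ u * X.x β 1) * (S.l.σ u)⁻¹ := by group
      _ = _ := by rw [h6]; group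
  · exact spe_pgroup hs h0 (hA.map f) ⟨_, h4, e1⟩ hθ0 (fun h => one_ne_zero (hX.eq_zero_of_x_eq_one h))
      ⟨_, h5, e2⟩ hc

omit h1 [Fintype F] in
theorem false_of_two (h2 : p = 2) {i : G} (hi : i ∈ S.G0) (ho : orderOf i = 2)
    (h : ∀ u ∈ X.U, ∀ w ∈ P.W, ∀ c, u * X.x (w θ) c * u⁻¹ ≠ i) : False := by
  subst h2
  refine H69.spe_ne_top hs (Subgroup.subgroupOf_eq_top.2 fun g hg => ?_)
  refine spe_conj hs h0 hg hθ0 (orderOf_x hX 2 θ) (by_contra fun h3 => ?_)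
  obtain ⟨k, hk⟩ := spe_isConj hs h0 hi ho (mul_mem (mul_mem hg (h0 hθ0)) (inv_mem hg)) h3 (by
    rw [← sq, conj_pow, ← orderOf_x hX 2 θ, pow_orderOf_eq_one]; simp)
  obtain ⟨u, hu, w, hw, c, -, e⟩ := exists_conj_top hX hG hθ (k⁻¹ * g)
  refine h u hu w hw c ?_
  rw [← e]
  calc _ = k⁻¹ * (g * X.x θ 1 * g⁻¹) * k := by group
    _ = _ := by rw [← hk]; group

end SubD

end Cfsg.Agent.H33
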