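import Cfsg.Agent.H33.SubOK
import Cfsg.Agent.H33.TwMat
import Cfsg.Agent.H39.Refl
import Cfsg.Agent.H64.FixMat

/-! Maximality of subfield subgroups of Chevalley groups. -/

set_option autoImplicit false

namespace Cfsg.Agent.H33

open Cfsg.Lie Cfsg.Lie.ChevalleyDatum Cfsg.Agent.H37 Cfsg.Agent.H38 Cfsg.Agent.H64

variable {D : ChevalleyDatum} [Chev D] {F : Type*} [Field F]

section
variable {G : Type*} [Group G] {S : StRel D F G} {l : MulAut G} {φ : F →+* F}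
  (hl : ∀ r < D.nroots, ∀ t, l (S.x r t) = S.x r (φ t))

/-- a field automorphism as a twist -/
def fTw : Twist (rg S) := ⟨l, 1, 1, φ, fun _ => 1, by simp, by simp, fun s t => (hl s s.2 t).trans (by rw [one_mul]; rfl)⟩

/-- the data of a subfield subgroup -/
def chD : SubD (rg S) := ⟨Twist.triv _, fTw hl, fun _ => rfl, fun s =>
  ⟨(rg S).x s 1, ⟨rfl, (hl s s.2 1).trans (by rw [map_one]; rfl)⟩, by simp⟩⟩

variable (hX : (rg S).Faithful)
include hX

theorem x_not_mem_diff (i : Fin D.rank) :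
    (rg S).x ((rs D).sp i) 1 ∉ (rg S).US ({r | (rs D).Pos r} \ {(rs D).sp i}) := fun h =>
  one_ne_zero (hX.sep (htL _) _ 1 ((rs D).ht_pos ((rs D).pos_sp i)) ((rg S).US_mono (fun a ha => And.intro ha.2 (by
    have := (rs D).ht_pos ha.1
    simp only [htL_cf, RS.ht_sp]
    omega)) h))

variable [Fintype F] [Finite G] (hG : (rg S).grp = ⊤) (p : ℕ) [hp : Fact p.Prime] [CharP F p] {M : Subgroup G}
include hG

theorem ch_not_spe (h1 : OddOK D) (h2 : TwoOK D) (h0 : (chD hl).G0 ≤ M) :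
    ¬ IsStronglyPEmbedded p ((chD hl).G0.subgroupOf M) := fun hs => by
  have hx : ∀ r < D.nroots, ∀ t, φ t = t → S.x r t ∈ (chD hl).G0 := fun r hr t ht =>
    ⟨rfl, (hl r hr t).trans (congrArg _ ht)⟩
  have hθ := x_comm_top (rg S).toRG0
  have hθ0 := hx _ (top D).2 1 (map_one _)
  by_cases h3 : p = 2
  · have h4 : ∀ r, (rg S).x r 1 * (rg S).x r 1 = 1 := fun r => by
      rw [← sq, ← h3, ← orderOf_x hX p r, pow_orderOf_eq_one]
    rcases h2 with ⟨i, hi, j, hj, h5, h6⟩ | ⟨h5, i, hi, h6⟩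
    · have h7 : (rs D).sp ⟨i, hi⟩ ≠ (rs D).sp ⟨j, hj⟩ := fun e => h5 (congrArg Fin.val ((rs D).sp_inj e))
      have h8 : Commute ((rg S).x ((rs D).sp ⟨j, hj⟩) 1) ((rg S).x ((rs D).sp ⟨i, hi⟩) 1) :=
        H40.x_commute S (Chev.simple_lt i hi) (Chev.simple_lt j hj) (fun e => h7 (Fin.ext e.symm))
          (fun e => (rs D).ne_neg_of_pos ((rs D).pos_sp ⟨i, hi⟩) ((rs D).pos_sp ⟨j, hj⟩) (Fin.ext e)) h6 1 1
      have h9 : ∀ {a b}, (rs D).sp a ≠ (rs D).sp b → (rg S).x ((rs D).sp a) 1 * (rg S).x ((rs D).sp b) 1 ∉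
          (rg S).US ({r | (rs D).Pos r} \ {(rs D).sp a}) := fun h h' => x_not_mem_diff hX _
        ((mul_mem_cancel_right ((rg S).x_mem (And.intro ((rs D).pos_sp _) h.symm) 1)).1 h')
      have h10 := mul_mem ((rg S).x_mem_U ((rs D).pos_sp ⟨i, hi⟩) 1) ((rg S).x_mem_U ((rs D).pos_sp ⟨j, hj⟩) 1)
      refine (chD hl).false_of_two hX hG hθ p hs h0 hθ0 h3 (mul_mem (hx _ (Chev.simple_lt i hi) 1 (map_one _))
        (hx _ (Chev.simple_lt j hj) 1 (map_one _))) (orderOf_eq_prime ?_ fun e => h9 h7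
          (bot_le (α := Subgroup G) (Subgroup.mem_bot.2 e))) fun u hu w _ c e =>
        h7 ((eq_sp_of_conj hX hu h10 (h9 h7) e).symm.trans (eq_sp_of_conj hX hu h10 (h8.eq ▸ h9 h7.symm) e))
      exact (h8.symm.mul_pow 2).trans (by rw [sq, sq, h4, h4, one_mul])
    · refine (chD hl).false_of_two hX hG hθ p hs h0 hθ0 h3 (hx _ (Chev.simple_lt i hi) 1 (map_one _))
        (h3 ▸ orderOf_x hX p ((rs D).sp ⟨i, hi⟩)) fun u hu w hw c e => h6 ?_
      rw [← top_val, ← fun_W _ h5 hw, eq_sp_of_conj hX hu ((rg S).x_mem_U ((rs D).pos_sp ⟨i, hi⟩) 1)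
        (x_not_mem_diff hX _) e, rs_sp_val]
  · obtain ⟨ψ, h4, h5, h6⟩ := exists_sl2 S (top D).2
    have h7 : D.nroots - 2 < D.nroots := by have := nroots_pos (D := D); omega
    have h8 : S.n (top D) (-1) ∈ (chD hl).G0 := H40.n_inv S (top D).2 1 ▸ inv_mem (n_one_mem hx (top D).2)
    refine (chD hl).false_of_odd hX hG hθ p hs h0 (fun _ _ => rfl) hθ0 h3 (fun _ => rfl) ψ h4 h5
      (by rw [h6, H40.h_def]; exact mul_mem h8 h8) (χ := fun s => (-1) ^ D.pairing (top D) s)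
      (fun s t => h6 ▸ H40.h_conj S (top D).2 s.2 (by simp) t) (β := ⟨_, h7⟩) (fun e => ?_) (hx _ h7 1 (map_one _))
      fun s hs h9 t => ?_
    · have : D.nroots - 2 = D.nroots - 1 := congrArg Fin.val e
      have := Chev.two_mul_half (D := D)
      omega
    rcases h1.2 s s.2 ((rs_pos_iff s).1 hs) with h | h | h
    · rw [show s = ⟨_, h7⟩ from Fin.ext h, RG0.x_comm]
    · rw [top_val, h, zpow_one, neg_eq_iff_add_eq_zero, one_add_one_eq_two] at h9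
      exact absurd ((Nat.prime_dvd_prime_iff_eq hp.out Nat.prime_two).1 ((CharP.cast_eq_zero_iff F p 2).1 h9)) h3
    · by_cases h10 : s = ⟨_, h7⟩
      · rw [h10, RG0.x_comm]
      exact H40.x_commute S h7 s.2 (fun e => h10 (Fin.ext e))
        (fun e => (rs D).ne_neg_of_pos (r := ⟨_, h7⟩) ((rs_pos_iff _).2 h1.1) hs (Fin.ext e)) h 1 t

include hl in
theorem ch_max (hP : (rs D).Conn) (hZ : Subgroup.center G = ⊥) (hD : AllOK D) {Z : List ℕ} {ok : List ℤ}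
    (hok : ∀ e ∈ ok, (e : F) ≠ 0) {q : ℤ} (hq : (p : ℤ) ∣ q) (h1 : ZOK D q Z) (h2 : GoodOK D ok Z)
    (h0 : ∀ g, l g = g → g ∈ M)
    (hM : ∀ z ∈ (rg S).US {a | a.1 ∈ Z}, z ∈ M → l z ≠ z → ∀ c, S.x (D.nroots - 1) c ∈ M) :
    (∀ g ∈ M, l g = g) ∨ M = ⊤ := by
  have : Nonempty (Fin D.rank) := ⟨⟨0, by have := Chev.two_le_rank (D := D); omega⟩⟩
  have hx : ∀ r < D.nroots, ∀ t, φ t = t → S.x r t ∈ M := fun r hr t ht => h0 _ ((hl r hr t).trans (by rw [ht]))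
  have h0' : (chD hl).G0 ≤ M := fun g hg => h0 g hg.2
  refine or_iff_not_imp_right.2 fun hne g hg => by_contra fun h => ?_
  refine ch_not_spe hl hX hG p hD.2.1 hD.2.2.1 h0' ((chD hl).spe hX p hG hP hZ h0' (fun _ _ => rfl)
    (fun g hg hu => And.right (?_ : g ∈ (chD hl).G0)) fun h' => h (h' hg).2)
  refine (chD hl).U_le_G0 hX h0' (fun _ _ => rfl) (fun r _ t _ => ⟨(rg S).x r t, rfl, by simp, fun h =>
    (hl r r.2 t).trans (congrArg _ h)⟩) (Z := {a | a.1 ∈ Z}) (fun _ h => h)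
    (fun a ha => (rs_pos_iff a).2 (h1 a ha).2.1) (fun z hz _ m hm _ => ?_) (fun r hr hr' => ?_)
    (fun z hz hzM => ⟨rfl, by_contra fun h => hne (eq_top_iff.2 (hG ▸ grp_le_of_top hx hD.1 (hM z hz hzM h)))⟩) hg hu
  · have := Subgroup.mem_centralizer_singleton_iff.1 (US_le_centralizer (rg S).toRG0 (y := m) (fun a ha t =>
      (Subgroup.mem_centralizer_singleton_iff.1 (US_le_centralizer (rg S).toRG0 (fun s hs u => ?_) hm)).symm) hz)
    · rw [mul_assoc, this, ← mul_assoc, inv_mul_cancel_right, inv_mul_cancel]; exact one_mem _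
    by_cases h3 : a = s
    · rw [h3, RG0.x_comm]
    have h4 : a.1 ≠ s := fun e => h3 (Fin.ext e)
    exact (st_commute S p ⟨s.2, a.2, h4, fun e => (rs D).ne_neg_of_pos hs ((rs_pos_iff a).2 (h1 a ha).2.1)
      (Fin.ext e)⟩ (fun c hc => hq.trans ((h1 a ha).2.2 s s.2 ((rs_pos_iff s).1 hs) h4 c hc)) u t).eq.symm
  · obtain ⟨s, hs, hs', h3, c, hc, h4⟩ := (h2 r r.2 ((rs_pos_iff r).1 hr)).resolve_left hr'
    have h5 := (Chev.commTerms_sound hs r.2 (List.mem_of_mem_head? hc)).1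
    have h6 : (rs D).Pos ⟨s, hs⟩ := (rs_pos_iff _).2 hs'
    obtain ⟨h7, e, he, h8⟩ := co_of_R1 S (b := ⟨_, h5⟩) (s := ⟨s, hs⟩) h4 hr h6 fun e => h3 (congrArg Fin.val e)
    refine ⟨(rg S).x ⟨s, hs⟩ 1, ⟨rfl, (hl s hs 1).trans (by rw [map_one]; rfl)⟩, (rg S).x_mem_U h6 1,
      fun y t _ hy hk => ?_⟩
    have := (chD hl).fix_of_co hX (fun s t => hl s s.2 t) ((rs D).pos_iff_ht.2 (by
      rw [ht_cf h7]; exact add_pos ((rs D).ht_pos hr) ((rs D).ht_pos h6)))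
      (Co.comm hr h6 h7 (B := ∅) (by simp) (by simp) hy (h8 t)) hk
    simpa [hok e he] using this

end

section
variable {G : Type*} [Group G] {S : StRel D F G} {l : MulAut G} {φ : F →+* F} {M : Subgroup G}
  (hl : ∀ r < D.nroots, ∀ t, l (S.x r t) = S.x r (φ t)) (h0 : ∀ g, l g = g → g ∈ M)
  (hR : ∀ R : Subring F, (∀ t, φ t = t → t ∈ R) → (∃ t ∈ R, φ t ≠ t) → R = ⊤)
include hl h0

omit [Chev D] in
theorem x_mem_of_fix : ∀ r < D.nroots, ∀ t, φ t = t → S.x r t ∈ M := fun r hr t ht =>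
  h0 _ ((hl r hr t).trans (congrArg _ ht))

omit h0 in
theorem exists_of_single {k : ℕ} (hk : k < D.nroots) {z : G} (hz : z ∈ (rg S).US {a | a.1 ∈ [k]}) (h : l z ≠ z) :
    ∃ t, φ t ≠ t ∧ z = S.x k t := by
  obtain ⟨t, rfl⟩ := (rg S).mem_US_singleton.1 ((rg S).US_mono (T := {⟨k, hk⟩})
    (fun a ha => Fin.ext (List.mem_singleton.1 (show a.1 ∈ [k] from ha))) hz)
  exact ⟨t, fun e => h ((hl k hk t).trans (congrArg _ e)), rfl⟩

omit h0 in
theorem exists_of_pair {s k : ℕ} (h1 : Gen2 D s k) (h2 : D.commTerms s k = []) {z : G}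
    (hz : z ∈ (rg S).US {a | a.1 ∈ [k, s]}) (h : l z ≠ z) :
    ∃ t u, (φ t ≠ t ∨ φ u ≠ u) ∧ z = S.x k t * S.x s u := by
  obtain ⟨t, u, rfl⟩ := H39.mem_US_pair (Y := (rg S).toRG0) (a := ⟨k, h1.2.1⟩) (b := ⟨s, h1.1⟩)
    (fun t u => H40.x_commute S h1.1 h1.2.1 h1.2.2.1 h1.2.2.2 h2 u t) ((rg S).US_mono (fun a ha => by
      simpa [Fin.ext_iff] using ha) hz)
  refine ⟨t, u, by_contra fun e => h ?_, rfl⟩
  rw [not_or, not_not, not_not] at e
  rw [map_mul, rg_x, rg_x, hl _ h1.2.1, hl _ h1.1, e.1, e.2]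

include hR

theorem all_of_ringOK (p : ℕ) [CharP F p] {q : ℤ} (hq : (p : ℤ) ∣ q) {ok : List ℤ} (hok : ∀ e ∈ ok, (e : F) ≠ 0)
    {a b k : ℕ} (h : RingOK D q ok a b k) {t : F} (ht : φ t ≠ t) (htM : S.x k t ∈ M) : ∀ c, S.x k c ∈ M := by
  obtain ⟨h1, h2, ⟨e, he, h3⟩, h4, h5, h6⟩ := h
  exact all_of_ring (x_mem_of_fix hl h0) hR p h1 h2 (hok e he) h3 (fun c hc => hq.trans (h4 c hc)) h5 h6 ht htM

variable (hX : (rg S).Faithful) [Fintype F] [Finite G] (hG : (rg S).grp = ⊤) (p : ℕ) [hp : Fact p.Prime] [CharP F p]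
  (hP : (rs D).Conn) (hZ : Subgroup.center G = ⊥) (hD : AllOK D)
include hX hG hP hZ hD hp

theorem ch_max_ring {ok : List ℤ} (hok : ∀ e ∈ ok, (e : F) ≠ 0) {a b k : ℕ} (hk : k = D.nroots - 1)
    (h : GoodOK D ok [k] ∧ RingOK D 0 [1, -1] a b k) : (∀ g ∈ M, l g = g) ∨ M = ⊤ := by
  subst hk
  refine ch_max hl hX hG p hP hZ hD hok (dvd_zero _) hD.2.2.2 h.1 h0 fun z hz hzM hz' => ?_
  obtain ⟨t, ht, rfl⟩ := exists_of_single hl h.2.2.1 hz hz'
  exact all_of_ringOK hl h0 hR p (dvd_zero _) (by simp) h.2 ht hzM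

theorem ch_max_B2 (hφ : ∃ t, φ t ≠ t) {a b s k : ℕ} (hk : k = D.nroots - 1)
    (h : GoodOK D [1, -1, 2, -2] [k] ∧ B2OK D a b s k) (h' : GoodOK D [1, -1] [s, k] ∧ ZOK D 2 [s, k]) :
    (∀ g ∈ M, l g = g) ∨ M = ⊤ := by
  subst hk
  by_cases h2 : p = 2
  · subst h2
    refine ch_max hl hX hG 2 hP hZ hD (by simp) dvd_rfl h'.2 h'.1 h0 fun z hz hzM hz' => ?_
    obtain ⟨t, u, ht, rfl⟩ := exists_of_pair hl h.2.2.2.2.1 h.2.2.2.2.2.2.2.2.1 hz hz'
    exact all_of_B2_two (x_mem_of_fix hl h0) hR hφ h.2 ht hzM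
  · have h3 : (2 : F) ≠ 0 := fun h => h2 ((Nat.prime_dvd_prime_iff_eq hp.out Nat.prime_two).1
      ((CharP.cast_eq_zero_iff F p 2).1 h))
    refine ch_max hl hX hG p hP hZ hD (by simpa) (dvd_zero _) hD.2.2.2 h.1 h0 fun z hz hzM hz' => ?_
    obtain ⟨t, ht, rfl⟩ := exists_of_single hl (top D).2 hz hz'
    exact all_of_B2_odd (x_mem_of_fix hl h0) hR h3 h.2 ht hzM

end

theorem ch_max_G2 [Chev chevG2] {G : Type*} [Group G] {S : StRel chevG2 F G} {l : MulAut G} {φ : F →+* F}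
    {M : Subgroup G} (hl : ∀ r < chevG2.nroots, ∀ t, l (S.x r t) = S.x r (φ t)) (h0 : ∀ g, l g = g → g ∈ M)
    (hR : ∀ R : Subring F, (∀ t, φ t = t → t ∈ R) → (∃ t ∈ R, φ t ≠ t) → R = ⊤)
    (hX : (rg S).Faithful) [Fintype F] [Finite G] (hG : (rg S).grp = ⊤) (p : ℕ) [hp : Fact p.Prime] [CharP F p]
    (hP : (rs chevG2).Conn) (hZ : Subgroup.center G = ⊥) : (∀ g ∈ M, l g = g) ∨ M = ⊤ := by
  by_cases h3 : p = 3
  · subst h3
    have h2 : (2 : F) ≠ 0 := fun h => absurd ((CharP.cast_eq_zero_iff F 3 2).1 h) (by decide)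
    have hx := x_mem_of_fix hl h0
    refine ch_max hl hX hG 3 hP hZ allOK_G2 (by simpa) dvd_rfl good_G2'.2.1 good_G2'.1 h0 fun z hz hzM hz' => ?_
    have h : Gen2 chevG2 11 9 ∧ chevG2.commTerms 11 9 = [] ∧ chevG2.pairing 6 9 = 0 ∧ chevG2.pairing 6 11 = 1 ∧
      chevG2.pairing 9 11 = (3 : ℕ) ∧ 6 < chevG2.nroots := by decide +kernel
    obtain ⟨h4, h5, h6, h7, h8, h9⟩ := h
    obtain ⟨t, u, ht, rfl⟩ := exists_of_pair hl h4 h5 hz hz'
    have h10 : S.n 6 (-1) ∈ M := H40.n_inv S h9 1 ▸ inv_mem (n_one_mem hx h9)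
    have h11 : S.h 6 (-1) ∈ M := H40.h_def S 6 (-1) ▸ mul_mem h10 h10
    have h12 := mul_mem (inv_mem hzM) (mul_mem (mul_mem h11 hzM) (inv_mem h11))
    rw [← conj_mul, H40.h_conj S h9 h4.1 (by simp), H40.h_conj S h9 h4.2.1 (by simp), h6, h7, zpow_zero, one_mul,
      mul_inv_rev, mul_assoc, inv_mul_cancel_left, H40.x_inv S h4.1, S.x_add _ h4.1,
      show -u + (-1) ^ (1 : ℤ) * u = u by
        have : (3 : F) = 0 := CharP.cast_eq_zero F 3
        linear_combination (-u) * this] at h12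
    rcases ht with ht | ht
    · exact all_torus_p hx 3 h4.2.1 h4.1 (all_of_ringOK hl h0 hR 3 dvd_rfl (by simpa) good_G2'.2.2 ht
        ((mul_mem_cancel_right h12).1 hzM)) h8
    · exact all_of_ringOK hl h0 hR 3 (dvd_zero _) (by simp) good_G2.2 ht h12
  · have h4 : (3 : F) ≠ 0 := fun h => h3 ((Nat.prime_dvd_prime_iff_eq hp.out Nat.prime_three).1
      ((CharP.cast_eq_zero_iff F p 3).1 h))
    exact ch_max_ring hl h0 hR hX hG p hP hZ allOK_G2 (by simpa) rfl good_G2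

variable (hD : IsChev D) (F)

theorem matRel_mem (r : ℕ) (t : F) : (matRel hD F).x r t ∈ D.group F := by
  by_cases h : r < D.nroots
  · exact mg_grp hD F ▸ (mg hD F).x_mem_grp ⟨r, h⟩ t
  · rw [show (matRel hD F).x r t = 1 from Units.ext (by rw [matRel_x, ChevalleyDatum.x, dif_neg h]; rfl)]
    exact one_mem _

theorem coe_gword (L : List (ℕ × F)) : ((gword (fun r t => ⟨_, matRel_mem F hD r t⟩) L : D.group F) : GL D.Idx F) =
    gword (matRel hD F).x L := by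
  simp [gword, Function.comp_def]

/-- the Steinberg relations in the Chevalley group -/
noncomputable def ss : StRel D F (D.group F) where
  x r t := ⟨_, matRel_mem F hD r t⟩
  x_add r hr t u := Subtype.ext ((matRel hD F).x_add r hr t u)
  x_comm r hr s hs h1 h2 t u := Subtype.ext (by simpa [coe_gword] using (matRel hD F).x_comm r hr s hs h1 h2 t u)
  n_conj r hr s hs t ht u := Subtype.ext (by simpa [coe_gword] using (matRel hD F).n_conj r hr s hs t ht u)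
  h_mul r hr t u ht hu := Subtype.ext (by simpa [coe_gword] using (matRel hD F).h_mul r hr t u ht hu)

theorem rg_ss : rg (ss F hD) = mgs hD F := rfl

theorem ss_faithful : (rg (ss F hD)).Faithful := (mg_faithful hD F).sub (mg_grp hD F)

theorem ss_grp : (rg (ss F hD)).grp = ⊤ := RG.sub_grp _ (mg_grp hD F)

include hD in
theorem grp_center [Fintype F] : Subgroup.center (D.group F) = ⊥ := eq_bot_iff.2 fun z hz => by
  have := rg_center_le_H (ss_faithful F hD) (ss_grp F hD) hz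
  rw [rg_ss, RG.sub_H] at this
  exact Subtype.ext (mg_adj hD F this fun r t =>
    congrArg Subtype.val (Subgroup.mem_center_iff.1 hz ((mgs hD F).x r t)).symm)

variable {F}

theorem exists_fieldAut [Finite F] (φ : F →+* F) : ∃ l : MulAut (D.group F),
    (∀ r < D.nroots, ∀ t, l ((ss F hD).x r t) = (ss F hD).x r (φ t)) ∧ ∀ g, l g = g ↔
      ∀ i j, φ (((g : GL D.Idx F) : Matrix D.Idx D.Idx F) i j) = ((g : GL D.Idx F) : Matrix D.Idx D.Idx F) i j :=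
  ⟨fieldHom D F (RingEquiv.ofBijective φ (Finite.injective_iff_bijective.1 φ.injective)),
    fun r hr t => Subtype.ext (glMap_mg_x hD F _ ⟨r, hr⟩ t), fun g => by
      rw [Subtype.ext_iff, fieldHom_coe, glMap_eq_iff]; rfl⟩

/-- transport of a maximality statement from the group to the matrix group -/
theorem max_of_sub {G : Type*} [Group G] {A K M : Subgroup G} (hK : K ≤ A) {p : G → Prop}
    (hM : ∀ g, g ∈ M ↔ g ∈ K ∧ p g) (hne : ∃ g ∈ K, ¬ p g)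
    (h : ∀ H : Subgroup A, H ≤ K.subgroupOf A → (∀ g : A, g.1 ∈ K → p g → g ∈ H) →
      (∀ g ∈ H, p g) ∨ K.subgroupOf A ≤ H) : M ≠ K ∧ ∀ H, M ≤ H → H ≤ K → H = M ∨ H = K := by
  refine ⟨?_, fun H h1 h2 => ?_⟩
  · rintro rfl
    obtain ⟨g, hg, h⟩ := hne
    exact h ((hM g).1 hg).2
  · refine (h (H.subgroupOf A) (fun _ hg => h2 hg) fun g hg hg' => h1 ((hM g).2 ⟨hg, hg'⟩)).imp
      (fun h => le_antisymm (fun g hg => (hM g).2 ⟨h2 hg, h ⟨g, hK (h2 hg)⟩ hg⟩) h1)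
      fun h => le_antisymm h2 fun g hg => h (x := ⟨g, hK hg⟩) hg

end Cfsg.Agent.H33
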