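import Cfsg.Agent.H33.SubTwM

/-! The subgroup of rational points in the triality group. -/

set_option autoImplicit false

namespace Cfsg.Agent.H33

open Cfsg.Lie Cfsg.Lie.ChevalleyDatum Cfsg.Agent.H37 Cfsg.Agent.H38 Cfsg.Agent.H64 Cfsg.Agent.H40

variable {F : Type*} [Field F] {G : Type*} [Group G] {S : StRel chevD4 F G} (hX : (rg S).Faithful) {A : SubD (rg S)}
  (hμ : ∀ s < chevD4.nroots, ∀ t, A.μ.σ (S.x s t) = S.x (tauD4 s) (gamD4 s * A.l.φ t))
  (hρ : ∀ s, (A.μ.τ s : ℕ) = tauD4 s) (h : A.Tw ⟨17, by decide⟩) (h3 : ∀ t, A.l.φ (A.l.φ (A.l.φ t)) = t)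

theorem cm_D4 {a b : ℕ} (hc : cmR chevD4 a b := by decide +kernel) (t u : F) : Commute (S.x b u) (S.x a t) :=
  H40.x_commute S hc.1 hc.2.1 hc.2.2.1 hc.2.2.2.1 hc.2.2.2.2 t u

theorem pos_D4 (a : ℕ) (ha : a < chevD4.nroots := by decide) (ha' : chevD4.nroots / 2 ≤ a := by decide) :
    (rs chevD4).Pos ⟨a, ha⟩ := (rs_pos_iff _).2 ha'

include hμ in
theorem σ_D4 (t : F) : A.μ.σ (S.x 12 t) = S.x 18 (A.l.φ t) ∧ A.μ.σ (S.x 13 t) = S.x 12 (A.l.φ t) ∧
    A.μ.σ (S.x 18 t) = S.x 13 (A.l.φ t) ∧ A.μ.σ (S.x 15 t) = S.x 19 (-A.l.φ t) ∧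
    A.μ.σ (S.x 16 t) = S.x 15 (A.l.φ t) ∧ A.μ.σ (S.x 19 t) = S.x 16 (-A.l.φ t) := by
  have e : ∀ s τ γ, s < chevD4.nroots ∧ tauD4 s = τ ∧ gamD4 s = γ → A.μ.σ (S.x s t) = S.x τ (γ * A.l.φ t) := by
    rintro s _ _ ⟨h, rfl, rfl⟩; exact hμ s h t
  exact ⟨by simpa using e 12 18 1 (by decide +kernel), by simpa using e 13 12 1 (by decide +kernel),
    by simpa using e 18 13 1 (by decide +kernel), by simpa using e 15 19 (-1) (by decide +kernel),
    by simpa using e 16 15 1 (by decide +kernel), by simpa using e 19 16 (-1) (by decide +kernel)⟩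

include hX hμ hρ h h3

theorem good_D4_tw (a : Fin chevD4.nroots) (ha : a.1 ∈ [15, 16, 19]) : A.Good a := by
  have h4 : A.Good ⟨16, by decide⟩ := by
    refine ⟨S.x 12 1 * (S.x 13 1 * S.x 18 1), ⟨?_, ?_⟩, mul_mem ((rg S).x_mem_U (pos_D4 12) 1)
      (mul_mem ((rg S).x_mem_U (pos_D4 13) 1) ((rg S).x_mem_U (pos_D4 18) 1)), fun y t hy hc hk => ?_⟩
    · change A.μ.σ _ = S.x 12 1 * (S.x 13 1 * S.x 18 1)
      simp only [map_mul, σ_D4 hμ, map_one]
      rw [((cm_D4 (a := 12) (b := 18)) 1 1 |>.mul_right ((cm_D4 (a := 13) (b := 18)) 1 1)).eq, mul_assoc]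
    · have e := fun s (hs : s < chevD4.nroots) => (h.hl ⟨s, hs⟩ 1).trans (congrArg _ (map_one _))
      change A.l.σ _ = S.x 12 1 * (S.x 13 1 * S.x 18 1)
      rw [map_mul, map_mul]
      exact congrArg₂ _ (e 12 (by decide)) (congrArg₂ _ (e 13 (by decide)) (e 18 (by decide)))
    obtain ⟨h5, _, h6, h7⟩ := co_of_R1 S (ok := [1]) (b := ⟨17, by decide⟩) (a := ⟨16, by decide⟩)
      (s := ⟨12, by decide⟩) (by decide +kernel) (pos_D4 16) (pos_D4 12) (by decide)
    obtain ⟨h8, _, h9, h10⟩ := co_of_R1 S (ok := [1]) (b := ⟨17, by decide⟩) (a := ⟨15, by decide⟩)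
      (s := ⟨13, by decide⟩) (by decide +kernel) (pos_D4 15) (pos_D4 13) (by decide)
    obtain rfl := List.mem_singleton.1 h6
    obtain rfl := List.mem_singleton.1 h9
    have h11 : Co (rg S) ⟨15, by decide⟩ y (A.l.φ t) := by
      have := hc.twist A.μ
      have h12 : A.μ.τ ⟨16, by decide⟩ = ⟨15, by decide⟩ := Fin.ext ((hρ _).trans (by decide +kernel))
      have h13 := (A.μ.σ_x ⟨16, by decide⟩ t).symm.trans (σ_D4 hμ t).2.2.2.2.1
      rw [h12] at h13 this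
      rwa [hy, hX.x_inj _ h13] at this
    have h18 : 18 < chevD4.nroots := by decide
    have := A.fix_of_co hX h.hl h.pos (Co.comm_mul h.pos
      (mul_mem ((rg S).x_mem_U (pos_D4 13) 1) ((rg S).x_mem_U (pos_D4 18) 1))
      (Co.comm (pos_D4 16) (pos_D4 12) h5 (B := ∅) (by simp) (by simp [rg_x]) hc (h7 t))
      (Co.comm (pos_D4 15) (pos_D4 13) h8 (B := {⟨18, h18⟩}) (by
        rintro _ rfl
        exact ⟨by rw [ht_eq_hN isChev_D4, ht_eq_hN isChev_D4]; decide +kernel +revert,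
          ne_add_of_cartan (by decide +kernel +revert)⟩)
        (by simpa using (rg S).x_mem (S := {⟨18, h18⟩}) rfl 1) h11 (h10 _))) hk
    have h12 : A.l.φ (A.l.φ t) = t := by
      simp only [Int.cast_one, neg_mul, one_mul, map_add, map_neg] at this
      linear_combination -this
    simpa [h3] using congrArg A.l.φ h12.symm
  have h5 : A.Good ⟨19, by decide⟩ := h.good_of_τ (by convert h4; exact (hρ _).trans (by decide +kernel))
  have h6 : A.Good ⟨15, by decide⟩ := h.good_of_τ (by convert h5; exact (hρ _).trans (by decide +kernel))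
  obtain ⟨a, ha'⟩ := a
  simp only [List.mem_cons, List.not_mem_nil, or_false] at ha
  rcases ha with rfl | rfl | rfl <;> assumption

theorem quad_D4 {M : Subgroup G} (h0 : A.G0 ≤ M) (h1 : ∀ g ∈ M, A.μ.σ g = g) {t : F}
    (ht : t ∈ SubD.parA (X := rg S) M h.pos) : A.l.φ t * A.l.φ (A.l.φ t) ∈ SubD.parA (X := rg S) M h.pos := by
  have h4 := (mem_iff_of_tr isChev_D4 twTab_D4 hX hρ h h0 h1 (W := [0, 2, 3, 1]) (s := 18) (B := [13, 12])
    (by decide +kernel) (w := [(13, A.l.φ t), (12, A.l.φ (A.l.φ t))]) rfl (by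
      simp only [gword, List.map_cons, List.map_nil, List.prod_cons, List.prod_nil, mul_one, map_mul, σ_D4 hμ, h3]
      rw [((cm_D4 (a := 13) (b := 18)) _ _ |>.mul_right ((cm_D4 (a := 12) (b := 18)) _ _)).eq, mul_assoc])).2 ht
  have h5 := (mem_iff_of_tr isChev_D4 twTab_D4 hX hρ h h0 h1 (W := [0, 2, 3]) (s := 19) (B := [16, 15])
    (by decide +kernel) (w := [(16, A.l.φ t), (15, A.l.φ (A.l.φ t))]) rfl (by
      simp only [gword, List.map_cons, List.map_nil, List.prod_cons, List.prod_nil, mul_one, map_mul, σ_D4 hμ, h3,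
        map_neg, neg_neg]
      rw [((cm_D4 (a := 16) (b := 19)) _ _ |>.mul_right ((cm_D4 (a := 15) (b := 19)) _ _)).eq, mul_assoc])).2
    (neg_mem ht)
  simp only [gword, List.map_cons, List.map_nil, List.prod_cons, List.prod_nil, mul_one] at h4 h5
  have h6 : S.x 14 1 ∈ M := h0 (h.x_mem (s := ⟨14, by decide⟩) (Fin.ext ((hρ _).trans (by decide +kernel))) (map_one _))
  have e1 := st_comm_one (S := S) (a := 18) (s := 14) (k := 19) (e := 1) (by decide +kernel) 1 t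
  have e3 := st_comm_one (S := S) (a := 13) (s := 14) (k := 16) (e := -1) (by decide +kernel) 1 (A.l.φ t)
  have e4 := st_comm_one (S := S) (a := 12) (s := 14) (k := 15) (e := -1) (by decide +kernel) 1 (A.l.φ (A.l.φ t))
  have e5 := st_comm_one (S := S) (a := 16) (s := 12) (k := 17) (e := 1) (by decide +kernel) (A.l.φ (A.l.φ t)) (A.l.φ t)
  simp only [Int.cast_one, Int.cast_neg, mul_one, one_mul, neg_mul, neg_neg] at e1 e3 e4 e5
  have hz : ∀ {s k e}, k < chevD4.nroots ∧ k ≠ 17 ∧ hN chevD4 17 ≤ hN chevD4 k →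
      Gen2 chevD4 s 19 ∧ chevD4.commTerms s 19 = [(k, e, 1, 1)] → ∀ t u, Co (rg S) ⟨17, by decide⟩
      ((S.x 19 u)⁻¹ * (S.x s t)⁻¹ * S.x 19 u * S.x s t) 0 := fun {s k e} h7 h8 t u => by
    rw [st_comm_one h8]
    exact co_zero ((rg S).x_mem (r := ⟨k, h7.1⟩) (And.intro (fun e => h7.2.1 (congrArg Fin.val e))
      (by simpa only [ht_eq_hN isChev_D4] using h7.2.2)) _)
  have h7 := (((Co.comm_mul h.pos ((rg S).x_mem_U (pos_D4 12) (A.l.φ (A.l.φ t)))
    (hz (s := 13) (k := 21) (e := 1) (by decide +kernel) (by decide +kernel) (A.l.φ t) (-t))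
    (hz (s := 12) (k := 20) (e := 1) (by decide +kernel) (by decide +kernel) _ (-t))).conj h.pos
    ((rg S).x_mem_U (pos_D4 16) (A.l.φ t))).mul h.pos
    (show Co (rg S) ⟨17, by decide⟩ (S.x 17 (-(A.l.φ (A.l.φ t) * A.l.φ t))) _ by
      rw [Co, rg_x, inv_mul_cancel]; exact one_mem _)).conj h.pos ((rg S).x_mem_U (pos_D4 15) (A.l.φ (A.l.φ t)))
  rw [← neg_mem_iff, mul_comm]
  refine ⟨_, ?_, by simpa only [zero_add] using h7⟩
  convert mul_mem (inv_mem h5) (mul_mem (mul_mem (mul_mem (inv_mem h4) (inv_mem h6)) h4) h6) using 1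
  simp only [rg_x]
  rw [← e5]
  generalize S.x 19 (-t) = b1 at *
  generalize S.x 16 (A.l.φ t) = b3 at *
  generalize S.x 15 (A.l.φ (A.l.φ t)) = b4 at *
  subst e1 e3 e4
  group

end Cfsg.Agent.H33
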