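import Cfsg.Agent.H33.SubTw

/-! Subgroups that contain the root elements over a subfield. -/

set_option autoImplicit false

namespace Cfsg.Agent.H33

open Cfsg.Agent.H38 Cfsg.Agent.H64

variable {ι R : Type} [Fintype ι] [DecidableEq ι]
variable {P : RS ι R} {F : Type*} [Field F] {G : Type*} [Group G] {X : RG P F G}

namespace SubD

variable (S : SubD X) (hμ : ∀ g, S.μ.σ g = g) (hl : ∀ s t, S.l.σ (X.x s t) = X.x s (S.l.φ t)) {M : Subgroup G}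
  (hx : ∀ s t, S.l.φ t = t → X.x s t ∈ M) [Fintype R] (hX : X.Faithful)
include hl hx

omit [Fintype R] in
theorem nw_mem (l : List ι) : X.nw l ∈ M ∧ S.l.σ (X.nw l) = X.nw l := by
  induction l with
  | nil => simp [X.nw_nil]
  | cons i l ih =>
    rw [X.nw_cons, map_mul, ih.2]
    exact ⟨mul_mem (mul_mem (mul_mem (hx _ _ (by simp)) (hx _ _ (by simp))) (hx _ _ (by simp))) ih.1,
      by simp [RG.ns, RG0.n, hl]⟩

include hX

theorem U_mem {u : G} (hu : u ∈ X.U) (h : S.l.σ u = u) : u ∈ M := by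
  classical
  obtain ⟨t, rfl⟩ := X.exists_prodL P.cl_pos (L := (Set.toFinite {r | P.Pos r}).toFinset.toList) (by simp)
    (Finset.nodup_toList _) hu
  rw [show ∀ L, S.l.σ (X.prodL L t) = X.prodL L fun r => S.l.φ (t r) from fun L => by
    induction L with
    | nil => simp [RG0.prodL_nil]
    | cons r L ih => rw [RG0.prodL_cons, RG0.prodL_cons, map_mul, ih, hl]] at h
  have := X.prodL_inj hX.sep P.cl_pos (by simp) (Finset.nodup_toList _) h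
  refine Subgroup.list_prod_mem _ fun g hg => ?_
  obtain ⟨r, hr, rfl⟩ := List.mem_map.1 hg
  exact hx _ _ (this r hr)

omit [Fintype R] in
theorem H_conj_mem {h : G} (hh : h ∈ X.H) (h' : S.l.σ h = h) (s : R) {t : F} (ht : S.l.φ t = t) :
    h * X.x s t * h⁻¹ ∈ M := by
  obtain ⟨c, -, e⟩ := (X.acts_of_mem_H hh).exists_conj s
  have := congrArg S.l.σ (e t)
  rw [map_mul, map_mul, map_inv, h', hl, ht, e, hl] at this
  exact e t ▸ hx _ _ (hX.x_inj _ this).symm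

theorem exists_H_mul (hG : X.grp = ⊤) {g : G} (hg : S.l.σ g = g) : ∃ h ∈ X.H, h⁻¹ * g ∈ M ∧ S.l.σ h = h := by
  obtain ⟨u, hu, n, w, hn, u', hu', rfl⟩ := X.exists_bruhat' (g := g) (hG ▸ trivial)
  obtain ⟨h3, h4⟩ := fix3 hX S.l hu hn hu' (one_mem _) (by rw [one_mul, hg])
  obtain ⟨h, hh, l, -, rfl⟩ := hn
  obtain ⟨h5, h6⟩ := S.nw_mem hl hx l
  have h7 : S.l.σ h = h := by simpa [h6] using h3
  refine ⟨h, hh, ?_, h7⟩
  simpa [mul_assoc] using mul_mem (mul_mem (S.U_mem hl hx hX (X.H_conj_mem_US (inv_mem hh) hu) (by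
    simpa [h4, h6, h7] using hg)) h5) (S.U_mem hl hx hX (X.Um_le _ hu') h4)

include hμ

theorem U_fix {Z : Set R} (hZp : ∀ a ∈ Z, P.Pos a) (hZ : ∀ z ∈ X.US Z, ∀ m ∈ X.U, m * z = z * m)
    (hgood : ∀ r, P.Pos r → r ∉ Z → S.Good r) (hM : ∀ z ∈ X.US Z, z ∈ M → S.l.σ z = z) {y : G} (hy : y ∈ M)
    (hy' : y ∈ X.U) : S.l.σ y = y := by
  have hZU : X.US Z ≤ X.U := X.US_mono hZp
  have h1 : ∀ y ∈ M, y ∈ X.U → ∀ z ∈ X.US Z, S.l.σ (y * z) = y * z → S.l.σ y = y := fun y hy hy' z hz h => by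
    simpa [hM z hz ((mul_mem_cancel_left hy).1 (S.U_mem hl hx hX (mul_mem hy' (hZU hz)) h))] using h
  have key : ∀ A, P.Cl (htL ι) A → (∀ a ∈ A, ∀ b, P.ht a < P.ht b → b ∈ A) → ∀ y ∈ X.US A,
      ∀ z ∈ X.US Z, y * z ∈ M → ∃ z ∈ X.US Z, S.l.σ (y * z) = y * z := fun A hA => by
    refine cl_induction (p := fun A => (∀ a ∈ A, ∀ b, P.ht a < P.ht b → b ∈ A) → ∀ y ∈ X.US A,
      ∀ z ∈ X.US Z, y * z ∈ M → ∃ z ∈ X.US Z, S.l.σ (y * z) = y * z) (fun _ y hy _ _ _ => ?_) ?_ hA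
    · rw [RG0.US_empty, Subgroup.mem_bot] at hy
      exact ⟨1, one_mem _, by simp [hy]⟩
    intro A r hA hr hmin _ _ ih hup y hy z hz hyz
    simp only [htL_cf] at hmin
    replace ih := ih fun a ha b hb => ⟨hup a ha.1 b hb, by rintro rfl; exact absurd hb (not_lt.2 (hmin a ha.1))⟩
    have hAp : ∀ a ∈ A, P.Pos a := fun a ha => P.pos_iff_ht.2 (hA.pos a ha)
    have hyU : y ∈ X.U := X.US_mono hAp hy
    obtain ⟨t, y₁, hy₁, e⟩ := exists_x_mul X.toRG0 hA hr hy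
    by_cases hrZ : r ∈ Z
    · rw [← hZ _ (X.x_mem hrZ t) _ (X.US_mono (fun a ha => hAp a ha.1) hy₁)] at e
      obtain ⟨z', hz', h4⟩ := ih _ hy₁ _ (mul_mem (X.x_mem hrZ t) hz) (by rwa [← mul_assoc, ← e])
      exact ⟨_, mul_mem (inv_mem (X.x_mem hrZ t)) hz', by rwa [e, mul_assoc, mul_inv_cancel_left]⟩
    · have hco : Co X r y t := by
        rw [Co, e, inv_mul_cancel_left]; exact X.US_mono (fun a ha => And.intro ha.2 (hmin a ha.1)) hy₁
      obtain ⟨g, hg, hgU, h4⟩ := hgood r (hAp r hr) hrZ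
      have hk := lev_comm' (P.ht_pos (hAp r hr)) hgU hco.mem
      have hgM := S.U_mem hl hx hX hgU hg.2
      have hkU := mul_mem (mul_mem (mul_mem (inv_mem hyU) (inv_mem hgU)) hyU) hgU
      have hkM : y⁻¹ * g⁻¹ * y * g ∈ M := by
        convert mul_mem (mul_mem (mul_mem (inv_mem hyz) (inv_mem hgM)) hyz) hgM using 2
        have := hZ z hz _ (mul_mem (mul_mem (inv_mem hyU) (inv_mem hgU)) hyU)
        calc _ = z⁻¹ * (z * (y⁻¹ * g⁻¹ * y)) := by group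
          _ = _ := by rw [← this]; group
      obtain ⟨z', hz', h5⟩ := ih _ (X.US_mono (fun a ha => And.intro (hup r hr a ha)
        (by rintro rfl; exact lt_irrefl (P.ht _) ha)) hk) 1 (one_mem _) (by rwa [mul_one])
      have h6 := h4 y t (hμ y) hco ⟨hμ _, h1 _ hkM hkU z' hz' h5⟩
      obtain ⟨z'', hz'', h7⟩ := ih _ hy₁ z hz ((mul_mem_cancel_left (hx r t h6)).1 (by rwa [← mul_assoc, ← e]))
      exact ⟨z'', hz'', by rw [e, mul_assoc, map_mul, h7, hl, h6]⟩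
  obtain ⟨z, hz, h2⟩ := key _ P.cl_pos (fun a ha b hb => P.pos_iff_ht.2 ((P.ht_pos ha).trans hb)) y hy' 1
    (one_mem _) (by rwa [mul_one])
  exact h1 y hy hy' z hz h2

variable (hU : ∀ g ∈ M, g ∈ X.U → S.l.σ g = g) (hgood : ∀ i, S.Good (P.sp i))
include hU hgood

theorem B_fix {u h : G} (hu : u ∈ X.U) (hh : h ∈ X.H) (hh' : S.l.σ h = h) (hb : u * h ∈ M) : S.l.σ u = u := by
  have h1 : ∀ y ∈ X.U, S.l.σ y = y → S.l.σ (u⁻¹ * y * u) = u⁻¹ * y * u := fun y hy hy' => by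
    have := hU _ (mul_mem (mul_mem (inv_mem hb) (S.U_mem hl hx hX hy hy')) hb) (by
      simpa [mul_assoc, RG.U] using X.H_conj_mem_US (inv_mem hh) (mul_mem (mul_mem (inv_mem hu) hy) hu))
    simp only [map_mul, map_inv, hh'] at this ⊢
    calc _ = h * ((S.l.σ u * h)⁻¹ * S.l.σ y * (S.l.σ u * h)) * h⁻¹ := by group
      _ = _ := by rw [this]; group
  have h2 : ∀ i, X.ns i * (S.l.σ u * u⁻¹) * (X.ns i)⁻¹ = S.l.σ u * u⁻¹ := fun i => by
    obtain ⟨t, ht⟩ := exists_co (P.pos_sp i) (X.US_mono (fun a ha => by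
      have := P.ht_pos ha
      rw [Set.mem_ofPred_eq, P.ht_sp]; omega) hu)
    obtain ⟨g, hg, hgU, h3⟩ := hgood i
    have h4 := h3 u t (hμ u) ht ⟨hμ _, by
      change S.l.σ _ = _
      rw [map_mul, h1 _ (inv_mem hgU) (by rw [map_inv, (S.mem_G0.1 hg).2]), (S.mem_G0.1 hg).2]; rfl⟩
    have h5 := h1 _ (X.x_mem_U (P.pos_sp i) t) (by rw [hl, h4])
    have h6 : ∀ a ∈ {b | b ≠ P.sp i ∧ P.ht (P.sp i) ≤ P.ht b}, P.Pos a := fun a ha =>
      P.pos_iff_ht.2 ((P.ht_pos (P.pos_sp i)).trans_le ha.2)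
    have h7 : X.ns i * ((X.x (P.sp i) t)⁻¹ * u) * (X.ns i)⁻¹ ∈ X.U :=
      (X.acts_ns i).conj_mem (fun a ha => P.pos_σ (h6 a ha) ha.1) ht
    obtain ⟨h8, h9⟩ := S.nw_mem hl hx [i]
    rw [X.nw_cons, X.nw_nil, mul_one] at h8 h9
    have h10 : h⁻¹ * X.ns i * h⁻¹⁻¹ ∈ M := by
      have := fun s t => S.H_conj_mem hl hx hX (inv_mem hh) (by rw [map_inv, hh']) s (t := t)
      rw [RG.ns, RG0.n, ← conj_mul, ← conj_mul]
      exact mul_mem (mul_mem (this _ _ (by simp)) (this _ _ (by simp))) (this _ _ (by simp))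
    have h11 := mul_mem (inv_mem (hx (P.sp i) t h4)) hb
    have h12 := hU _ (mul_mem (mul_mem (inv_mem h11) (mul_mem h8 h11)) (inv_mem h10)) (by
      simpa [mul_assoc, RG.U] using X.H_conj_mem_US (S := {r | P.Pos r}) (inv_mem hh)
        (mul_mem (inv_mem (X.US_mono h6 ht)) h7))
    simp only [map_mul, map_inv, hh', h9, hl, h4] at h5 h12
    generalize S.l.σ u = v at *
    generalize X.x (P.sp i) t = x at *
    generalize X.ns i = n at *
    have h13 : x⁻¹ * (v * u⁻¹) * x = v * u⁻¹ := by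
      calc _ = x⁻¹ * v * (u⁻¹ * x * u) * u⁻¹ := by group
        _ = _ := by rw [← h5]; group
    calc _ = x⁻¹ * v * h * ((x⁻¹ * (v * h))⁻¹ * (n * (x⁻¹ * (v * h))) * (h⁻¹ * n * h⁻¹⁻¹)⁻¹) * h⁻¹ * n * u⁻¹ * x * n⁻¹ := by
          rw [← h13]; group
      _ = _ := by rw [h12, ← h13]; group
  obtain ⟨_, w, ⟨k, hk, l, rfl, rfl⟩, h3⟩ := X.exists_rep_w0
  have h4 : ∀ l, X.nw l * (S.l.σ u * u⁻¹) * (X.nw l)⁻¹ = S.l.σ u * u⁻¹ := fun l => by
    induction l with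
    | nil => simp [X.nw_nil]
    | cons i l ih =>
      rw [X.nw_cons, mul_inv_rev, ← mul_assoc, mul_assoc (X.ns i), mul_assoc (X.ns i), ih, h2]
  have h5 := mul_mem (S.l.σ_U hu) (inv_mem hu)
  exact mul_inv_eq_one.1 (hX.eq_one_of_mem_B_V (X.U_le_B h5)
    (h4 l ▸ (X.acts_nw l).conj_mem (T := {r | ¬ P.Pos r}) (fun s hs h => (h3 s).1 h hs) h5))

variable (hG : X.grp = ⊤) (hP : P.Conn) (hZ : Subgroup.center G = ⊥)
include hG hP hZ

theorem fix_of_PJ {J : Set ι} (hJ : ∃ j, j ∉ J) (hπ : ∀ j, S.μ.π j ∈ J ↔ j ∈ J) (hπ' : ∀ j, S.l.π j ∈ J ↔ j ∈ J)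
    {g : G} (hg : g ∈ M) (hg' : g ∈ X.PJ J) : S.l.σ g = g := by
  have h2 := S.mem_U_of_centralizes hX hG hP hZ hJ hπ (mul_mem hg' (inv_mem (tw_σ_PJ S.l hπ' hg'))) (hμ _)
    fun y hy hy' => by
      have := hU _ (mul_mem (mul_mem (inv_mem hg) (S.U_mem hl hx hX (X.UJ_le_U J hy) hy'.2)) hg) (X.UJ_le_U J (by
        simpa using (Subgroup.mem_normalizer_iff.1 (X.PJ_le_normalizer J (inv_mem hg')) y).1 hy))
      rw [map_mul, map_mul, map_inv, (S.mem_G0.1 hy').2] at this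
      calc _ = g * ((S.l.σ g)⁻¹ * y * S.l.σ g) * (S.l.σ g)⁻¹ := by group
        _ = _ := by rw [this]; group
  obtain ⟨u, hu, n, w, hn, u', hu', rfl⟩ := X.exists_bruhat' (g := g) (hG ▸ trivial)
  obtain ⟨h3, h4⟩ := fix3 hX S.l hu hn hu' (inv_mem h2) (by group)
  obtain ⟨h, hh, l, -, rfl⟩ := hn
  obtain ⟨h5, h6⟩ := S.nw_mem hl hx l
  rw [map_mul, map_mul, h3, h4, S.B_fix hμ hl hx hX hU hgood hu hh (by simpa [h6] using h3) (by
    simpa [mul_assoc] using mul_mem (mul_mem hg (inv_mem (S.U_mem hl hx hX (X.Um_le _ hu') h4))) (inv_mem h5))]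

theorem spe' [Fintype F] (p : ℕ) [hp : Fact p.Prime] [CharP F p] [Finite G] [Nonempty ι] (hne : ¬ M ≤ S.G0) :
    IsStronglyPEmbedded p ((S.G0 ⊓ M).subgroupOf M) := by
  refine H69.isStronglyPEmbedded_iff_normalizer.2 ⟨mt Subgroup.subgroupOf_eq_top.1 fun h => hne (h.trans inf_le_left),
    ?_, fun A hA hp hA' m hm => ?_⟩
  · obtain ⟨i⟩ := ‹Nonempty ι›
    rw [Nat.card_congr (Subgroup.subgroupOfEquivOfLe inf_le_right).toEquiv, ← orderOf_x hX p (P.sp i)]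
    exact Subgroup.orderOf_dvd_natCard _ ⟨⟨hμ _, (hl _ 1).trans (congrArg _ (map_one _))⟩, hx _ _ (map_one _)⟩
  · obtain ⟨g, hg, J, hJ, h2, h3, h4⟩ := S.exists_std hX p hG (Q := A.map M.subtype) (hp.map _)
      (fun e => hA' ((Subgroup.map_eq_bot_iff_of_injective _ M.subtype_injective).1 e))
      (by rintro _ ⟨y, hy, rfl⟩; exact (hA hy).1)
    obtain ⟨h, hh, h5, h6⟩ := S.exists_H_mul hl hx hX hG hg.2
    have h7 := X.B_le_PJ J (X.H_le_B hh)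
    have := S.fix_of_PJ hμ hl hx hX hU hgood hG hP hZ hJ h2 h3 (mul_mem (mul_mem h5 m.2) (inv_mem h5)) (by
      simpa [mul_assoc] using mul_mem (mul_mem (inv_mem h7) (h4 _ (map_mem_normalizer_map _ hm))) h7)
    exact ⟨S.mem_G0.2 ⟨hμ _, by simpa [h6, (S.mem_G0.1 hg).2] using this⟩, m.2⟩

end SubD

end Cfsg.Agent.H33
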