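import Cfsg.Agent.H33.SubE
import Cfsg.Agent.H33.SubCh
import Cfsg.Agent.H37.SS

/-! Subgroups of Chevalley groups that contain the root elements over the prime field. -/

set_option autoImplicit false

namespace Cfsg.Agent.H33

open Cfsg.Lie Cfsg.Lie.ChevalleyDatum Cfsg.Agent.H37 Cfsg.Agent.H38 Cfsg.Agent.H64

section
variable {ι R : Type} [Fintype ι] [DecidableEq ι]
variable {P : RS ι R} {F : Type*} [Field F] {G : Type*} [Group G] {X : RG P F G} [Fintype R] (hX : X.Faithful)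
  (hG : X.grp = ⊤) {θ : R} (hθ : ∀ r, P.Pos r → ∀ t u, X.x r t * X.x θ u = X.x θ u * X.x r t)
  [Fintype F] (p : ℕ) [hp : Fact p.Prime] [CharP F p] [Finite G] {Y M : Subgroup G}
  (hs : IsStronglyPEmbedded p (Y.subgroupOf M)) (h0 : Y ≤ M) (hθ0 : X.x θ 1 ∈ Y)
include hX hs h0

theorem spe_pair {u : G} {r β : R} {c : F} (h : β ≠ P.neg r) (h2 : u * X.x β 1 * u⁻¹ ∈ Y)
    (h3 : u * X.x r c * u⁻¹ ∈ M) : u * X.x r c * u⁻¹ ∈ Y :=
  spe_pgroup hs h0 ((isPGroup_pair p X.toRG0 hX.sep h).map (MulAut.conj u).toMonoidHom)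
    ⟨_, Subgroup.mem_sup_right (X.x_mem (S := {β}) rfl 1), rfl⟩ h2
    (fun h => one_ne_zero (hX.eq_zero_of_x_eq_one (conj_eq_one_iff.1 h)))
    ⟨_, Subgroup.mem_sup_left (X.x_mem (S := {r}) rfl c), rfl⟩ h3

include hG hθ hθ0

theorem spe_false (h : ∀ u ∈ X.U, ∀ c, u * X.x (P.neg θ) c * u⁻¹ ∈ M → u * X.x (P.neg θ) c * u⁻¹ ∈ Y) : False := by
  refine H69.spe_ne_top hs (Subgroup.subgroupOf_eq_top.2 fun g hg => ?_)
  obtain ⟨u, hu, w, -, c, -, e⟩ := exists_conj_top hX hG hθ g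
  have h3 := mul_mem (mul_mem hg (h0 hθ0)) (inv_mem hg)
  refine spe_conj hs h0 hg hθ0 (orderOf_x hX p θ) ?_
  rw [e] at h3 ⊢
  by_cases h4 : θ = P.neg (w θ)
  · rw [← P.neg_neg (w θ), ← h4] at h3 ⊢
    exact h u hu c h3
  · exact spe_pair hX p hs h0 h4 (by rwa [conj_top hθ hu]) h3

theorem spe_false_odd (h2 : p ≠ 2) (T : Twist X) (hY : ∀ g ∈ Y, T.σ g = g)
    (hY' : ∀ g ∈ X.U, T.σ g = g → g ∈ Y) (φ : Matrix.SpecialLinearGroup (Fin 2) F →* G)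
    (hu : ∀ t, φ (H90.xu t) = X.x θ t) (hl : ∀ t, φ (H90.xl t) = X.x (P.neg θ) t) (hφ : T.σ (φ (-1)) = φ (-1)) {χ : R → F}
    (hχ : ∀ s t, φ (-1) * X.x s t * (φ (-1))⁻¹ = X.x s (χ s * t)) {β : R} (hβ : β ≠ θ) (hβp : P.Pos β) (hβ0 : T.σ (X.x β 1) = X.x β 1)
    (hβ' : ∀ s, P.Pos s → χ s = 1 → ∀ t, X.x s t * X.x β 1 = X.x β 1 * X.x s t) : False := by
  refine spe_false hX hG hθ p hs h0 hθ0 fun u hu' c hc => ?_
  have h3 : ∀ n : ℕ, H90.xu (1 : F) ^ n = H90.xu (n : F) ∧ H90.xl c ^ n = H90.xl (n * c) := fun n => by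
    induction n with
    | zero => simp [H90.xu_zero, H90.xl_zero]
    | succ n ih => simp [pow_succ, ih, H90.xu_add, H90.xl_add, add_mul]
  let f := (MulAut.conj u).toMonoidHom.comp φ
  have e1 : f (H90.xu 1) = X.x θ 1 := by simpa [f, hu] using conj_top hθ hu' 1
  have e2 : f (H90.xl c) = u * X.x (P.neg θ) c * u⁻¹ := by simp [f, hl]
  rcases neg_one_mem_or p h2 (H := M.comap f) (a := H90.xu 1) (b := H90.xl c) (show f _ ∈ M from e1 ▸ h0 hθ0)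
    (show f _ ∈ M from e2 ▸ hc) (by simp [h3, H90.xu_zero]) (by simp [h3, H90.xl_zero]) with h4 | ⟨A, hA, h4, h5⟩
  · have h5 := hY _ (spe_conj hs h0 h4 hθ0 (orderOf_x hX p θ) (by
      rw [← e1, ← map_inv, ← map_mul, ← map_mul]; simpa [e1] using hθ0))
    change T.σ (u * φ (-1) * u⁻¹) = u * φ (-1) * u⁻¹ at h5
    rw [map_mul, map_mul, map_inv, hφ] at h5
    have h6 := Subgroup.mem_centralizer_singleton_iff.1 (US_le_centralizer X.toRG0 (fun s hs => hβ' s hs.1 hs.2)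
      (mem_US_of_comm_H hX hχ (mul_mem (inv_mem hu') (T.σ_U hu')) (by
        calc _ = u⁻¹ * (u * φ (-1) * u⁻¹) * T.σ u * (φ (-1))⁻¹ := by group
          _ = _ := by rw [← h5]; group)))
    refine spe_pair hX p hs h0 (by rwa [P.neg_neg])
      (hY' _ (mul_mem (mul_mem hu' (X.x_mem_U hβp 1)) (inv_mem hu')) ?_) hc
    rw [map_mul, map_mul, map_inv, hβ0]
    calc _ = u * (u⁻¹ * T.σ u * X.x β 1) * (T.σ u)⁻¹ := by group
      _ = _ := by rw [h6]; group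
  · exact spe_pgroup hs h0 (hA.map f) ⟨_, h4, e1⟩ hθ0 (fun h => one_ne_zero (hX.eq_zero_of_x_eq_one h))
      ⟨_, h5, e2⟩ hc

omit [Fintype F] in
theorem spe_false_two (h2 : p = 2) {i : G} (hi : i ∈ Y) (ho : orderOf i = 2)
    (h : ∀ u ∈ X.U, ∀ w ∈ P.W, ∀ c, u * X.x (w θ) c * u⁻¹ ≠ i) : False := by
  subst h2
  refine H69.spe_ne_top hs (Subgroup.subgroupOf_eq_top.2 fun g hg => ?_)
  refine spe_conj hs h0 hg hθ0 (orderOf_x hX 2 θ) (by_contra fun h3 => ?_)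
  obtain ⟨k, hk⟩ := spe_isConj hs h0 hi ho (mul_mem (mul_mem hg (h0 hθ0)) (inv_mem hg)) h3 (by
    rw [← sq, conj_pow, ← orderOf_x hX 2 θ, pow_orderOf_eq_one]; simp)
  obtain ⟨u, hu, w, hw, c, -, e⟩ := exists_conj_top hX hG hθ (k⁻¹ * g)
  refine h u hu w hw c ?_
  rw [← e]
  calc _ = k⁻¹ * (g * X.x θ 1 * g⁻¹) * k := by group
    _ = _ := by rw [← hk]; group

end

variable {D : ChevalleyDatum} [Chev D] {F : Type*} [Field F]

section
variable {G : Type*} [Group G] {S : StRel D F G} {l : MulAut G} {φ : F →+* F}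
  (hl : ∀ r < D.nroots, ∀ t, l (S.x r t) = S.x r (φ t)) (hX : (rg S).Faithful)
  [Fintype F] [Finite G] (hG : (rg S).grp = ⊤) (p : ℕ) [hp : Fact p.Prime] [CharP F p] {M : Subgroup G}
  (hx : ∀ r < D.nroots, ∀ t, φ t = t → S.x r t ∈ M)
include hX hG hx

theorem ch_not_spe' (h1 : OddOK D) (h2 : TwoOK D) :
    ¬ IsStronglyPEmbedded p (((chD hl).G0 ⊓ M).subgroupOf M) := fun hs => by
  have hx' := fun s : Fin D.nroots => hx s s.2
  replace hx : ∀ r < D.nroots, ∀ t, φ t = t → S.x r t ∈ (chD hl).G0 ⊓ M := fun r hr t ht =>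
    ⟨⟨rfl, (hl r hr t).trans (congrArg _ ht)⟩, hx r hr t ht⟩
  have h0 : (chD hl).G0 ⊓ M ≤ M := inf_le_right
  have hθ := x_comm_top (rg S).toRG0
  have hθ0 := hx _ (top D).2 1 (map_one _)
  by_cases h3 : p = 2
  · have h4 : ∀ r, (rg S).x r 1 * (rg S).x r 1 = 1 := fun r => by
      rw [← sq, ← h3, ← orderOf_x hX p r, pow_orderOf_eq_one]
    rcases h2 with ⟨i, hi, j, hj, h5, h6⟩ | ⟨h5, i, hi, h6⟩
    · have h7 : (rs D).sp ⟨i, hi⟩ ≠ (rs D).sp ⟨j, hj⟩ := fun e => h5 (congrArg Fin.val ((rs D).sp_inj e))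
      have h8 : Commute ((rg S).x ((rs D).sp ⟨j, hj⟩) 1) ((rg S).x ((rs D).sp ⟨i, hi⟩) 1) :=
        H40.x_commute S (Chev.simple_lt i hi) (Chev.simple_lt j hj) (fun e => h7 (Fin.ext e.symm))
          (fun e => (rs D).ne_neg_of_pos ((rs D).pos_sp ⟨i, hi⟩) ((rs D).pos_sp ⟨j, hj⟩) (Fin.ext e)) h6 1 1
      have h9 : ∀ {a b}, (rs D).sp a ≠ (rs D).sp b → (rg S).x ((rs D).sp a) 1 * (rg S).x ((rs D).sp b) 1 ∉
          (rg S).US ({r | (rs D).Pos r} \ {(rs D).sp a}) := fun h h' => x_not_mem_diff hX _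
        ((mul_mem_cancel_right ((rg S).x_mem (And.intro ((rs D).pos_sp _) h.symm) 1)).1 h')
      have h10 := mul_mem ((rg S).x_mem_U ((rs D).pos_sp ⟨i, hi⟩) 1) ((rg S).x_mem_U ((rs D).pos_sp ⟨j, hj⟩) 1)
      refine spe_false_two hX hG hθ p hs h0 hθ0 h3 (mul_mem (hx _ (Chev.simple_lt i hi) 1 (map_one _))
        (hx _ (Chev.simple_lt j hj) 1 (map_one _))) (orderOf_eq_prime ?_ fun e => h9 h7
          (bot_le (α := Subgroup G) (Subgroup.mem_bot.2 e))) fun u hu w _ c e =>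
        h7 ((eq_sp_of_conj hX hu h10 (h9 h7) e).symm.trans (eq_sp_of_conj hX hu h10 (h8.eq ▸ h9 h7.symm) e))
      exact (h8.symm.mul_pow 2).trans (by rw [sq, sq, h4, h4, one_mul])
    · refine spe_false_two hX hG hθ p hs h0 hθ0 h3 (hx _ (Chev.simple_lt i hi) 1 (map_one _))
        (h3 ▸ orderOf_x hX p ((rs D).sp ⟨i, hi⟩)) fun u hu w hw c e => h6 ?_
      rw [← top_val, ← fun_W _ h5 hw, eq_sp_of_conj hX hu ((rg S).x_mem_U ((rs D).pos_sp ⟨i, hi⟩) 1)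
        (x_not_mem_diff hX _) e, rs_sp_val]
  · obtain ⟨ψ, h4, h5, h6⟩ := exists_sl2 S (top D).2
    have h7 : D.nroots - 2 < D.nroots := by have := nroots_pos (D := D); omega
    have h8 : S.n (top D) (-1) ∈ (chD hl).G0 ⊓ M := H40.n_inv S (top D).2 1 ▸ inv_mem (n_one_mem hx (top D).2)
    refine spe_false_odd hX hG hθ p hs h0 hθ0 h3 (fTw hl) (fun _ h => h.1.2) (fun g hg h =>
      ⟨⟨rfl, h⟩, (chD hl).U_mem (fun s => hl s s.2) hx' hX hg h⟩) ψ h4 h5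
      (by rw [h6, H40.h_def]; exact (mul_mem h8 h8).1.2) (χ := fun s => (-1) ^ D.pairing (top D) s)
      (fun s t => h6 ▸ H40.h_conj S (top D).2 s.2 (by simp) t) (β := ⟨_, h7⟩) (fun e => ?_) ((rs_pos_iff _).2 h1.1)
      (hx _ h7 1 (map_one _)).1.2
      fun s hs h9 t => ?_
    · have : D.nroots - 2 = D.nroots - 1 := congrArg Fin.val e
      have := Chev.two_mul_half (D := D)
      omega
    rcases h1.2 s s.2 ((rs_pos_iff s).1 hs) with h | h | h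
    · rw [show s = ⟨_, h7⟩ from Fin.ext h, RG0.x_comm]
    · rw [top_val, h, zpow_one, neg_eq_iff_add_eq_zero, one_add_one_eq_two] at h9
      exact absurd ((Nat.prime_dvd_prime_iff_eq hp.out Nat.prime_two).1 ((CharP.cast_eq_zero_iff F p 2).1 h9)) h3
    · by_cases h10 : s = ⟨_, h7⟩
      · rw [h10, RG0.x_comm]
      exact H40.x_commute S h7 s.2 (fun e => h10 (Fin.ext e))
        (fun e => (rs D).ne_neg_of_pos (r := ⟨_, h7⟩) ((rs_pos_iff _).2 h1.1) hs (Fin.ext e)) h 1 t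

include hl hp in
theorem ch_fix (hP : (rs D).Conn) (hZ : Subgroup.center G = ⊥) (hD : AllOK D) {Z : List ℕ} {ok : List ℤ}
    (hok : ∀ e ∈ ok, (e : F) ≠ 0) {q : ℤ} (hq : (p : ℤ) ∣ q) (h1 : ZOK D q Z) (h2 : GoodOK D ok Z)
    (h3 : ∀ i < D.rank, D.simple i ∉ Z) (hM : ∀ z ∈ (rg S).US {a | a.1 ∈ Z}, z ∈ M → l z = z) :
    ∀ g ∈ M, l g = g := by
  have : Nonempty (Fin D.rank) := ⟨⟨0, by have := Chev.two_le_rank (D := D); omega⟩⟩
  have hgood : ∀ r, (rs D).Pos r → r.1 ∉ Z → (chD hl).Good r := fun r hr hr' => by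
    obtain ⟨s, hs, hs', h3, c, hc, h4⟩ := (h2 r r.2 ((rs_pos_iff r).1 hr)).resolve_left hr'
    have h5 := (Chev.commTerms_sound hs r.2 (List.mem_of_mem_head? hc)).1
    have h6 : (rs D).Pos ⟨s, hs⟩ := (rs_pos_iff _).2 hs'
    obtain ⟨h7, e, he, h8⟩ := co_of_R1 S (b := ⟨_, h5⟩) (s := ⟨s, hs⟩) h4 hr h6 fun e => h3 (congrArg Fin.val e)
    refine ⟨(rg S).x ⟨s, hs⟩ 1, ⟨rfl, (hl s hs 1).trans (by rw [map_one]; rfl)⟩, (rg S).x_mem_U h6 1,
      fun y t _ hy hk => ?_⟩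
    have := (chD hl).fix_of_co hX (fun s t => hl s s.2 t) ((rs D).pos_iff_ht.2 (by
      rw [ht_cf h7]; exact add_pos ((rs D).ht_pos hr) ((rs D).ht_pos h6)))
      (Co.comm hr h6 h7 (B := ∅) (by simp) (by simp) hy (h8 t)) hk
    simpa [hok e he] using this
  intro g hg
  by_contra h
  refine ch_not_spe' hl hX hG p hx hD.2.1 hD.2.2.1 ((chD hl).spe' (fun _ => rfl) (fun s => hl s s.2)
    (fun s => hx s s.2) hX (fun g hg hu => (chD hl).U_fix (fun _ => rfl) (fun s => hl s s.2) (fun s => hx s s.2) hX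
      (fun a ha => (rs_pos_iff a).2 (h1 a ha).2.1) (fun z hz m hm => ?_) hgood hM hg hu)
    (fun i => hgood _ ((rs D).pos_sp i) (h3 i i.2)) hG hP hZ p fun h' => h (h' hg).2)
  refine (Subgroup.mem_centralizer_singleton_iff.1 (US_le_centralizer (rg S).toRG0 (y := m) (fun a ha t =>
    (Subgroup.mem_centralizer_singleton_iff.1 (US_le_centralizer (rg S).toRG0 (fun s hs u => ?_) hm)).symm) hz)).symm
  by_cases h3 : a = s
  · rw [h3, RG0.x_comm]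
  have h4 : a.1 ≠ s := fun e => h3 (Fin.ext e)
  exact (st_commute S p ⟨s.2, a.2, h4, fun e => (rs D).ne_neg_of_pos hs ((rs_pos_iff a).2 (h1 a ha).2.1)
    (Fin.ext e)⟩ (fun c hc => hq.trans ((h1 a ha).2.2 s s.2 ((rs_pos_iff s).1 hs) h4 c hc)) u t).eq.symm

end

end Cfsg.Agent.H33
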