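import Cfsg.Agent.H33.SubF

/-! Subgroups of finite Chevalley groups that contain the root elements over the prime field. -/

set_option autoImplicit false

namespace Cfsg.Agent.H33

open Cfsg.Lie Cfsg.Lie.ChevalleyDatum Cfsg.Agent.H37 Cfsg.Agent.H38 Cfsg.Agent.H64

theorem subring_inv {F : Type*} [Field F] [Finite F] (R : Subring F) {t : F} (ht : t ∈ R) : t⁻¹ ∈ R := by
  by_cases h : t = 0
  · simp [h]
  obtain ⟨v, hv⟩ := Finite.injective_iff_surjective.1 (mul_right_injective₀ (a := (⟨t, ht⟩ : R))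
    fun e => h (congrArg Subtype.val e)) 1
  exact inv_eq_of_mul_eq_one_right (congrArg Subtype.val hv) ▸ v.2

theorem exists_pow_subfield {F : Type*} [Field F] [Finite F] (p : ℕ) [hp : Fact p.Prime] [CharP F p] (R : Subfield F) :
    ∃ m, 0 < m ∧ Nat.card R = p ^ m ∧ ∀ t, t ^ p ^ m = t ↔ t ∈ R := by
  classical
  have := Fintype.ofFinite R
  obtain ⟨m, -, hm⟩ := FiniteField.card R p
  have h1 : ∀ t ∈ R, t ^ p ^ (m : ℕ) = t := fun t ht => hm ▸ congrArg Subtype.val (FiniteField.pow_card (⟨t, ht⟩ : R))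
  refine ⟨m, m.2, by rw [Nat.card_eq_fintype_card, hm], fun t => ⟨fun h => ?_, h1 t⟩⟩
  have h2 := FiniteField.X_pow_card_pow_sub_X_ne_zero F m.2.ne' hp.out.one_lt
  have h4 : ∀ t, t ∈ (Polynomial.X ^ p ^ (m : ℕ) - Polynomial.X : Polynomial F).roots ↔ t ^ p ^ (m : ℕ) = t :=
    fun t => (Polynomial.mem_roots h2).trans (by simp [sub_eq_zero]; rfl)
  have h3 : (R : Set F).toFinset = (Polynomial.X ^ p ^ (m : ℕ) - Polynomial.X : Polynomial F).roots.toFinset :=
    Finset.eq_of_subset_of_card_le (fun t ht => by simpa [h4] using h1 t (by simpa using ht)) (by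
      rw [Set.toFinset_card, show Fintype.card (R : Set F) = _ from hm]
      exact ((Multiset.toFinset_card_le _).trans (Polynomial.card_roots' _)).trans
        (FiniteField.X_pow_card_pow_sub_X_natDegree_eq F m.2.ne' hp.out.one_lt).le)
  simpa [h4, h] using Finset.ext_iff.1 h3 t

variable {D : ChevalleyDatum} [Chev D] {F : Type*} [Field F] {G : Type*} [Group G] {S : StRel D F G} {M : Subgroup G}

section
variable {φ : F →+* F} (hx : ∀ r < D.nroots, ∀ t, φ t = t → S.x r t ∈ M)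
include hx

omit [Chev D] in
theorem exists_subfield [Finite F] {k : ℕ} (hk : k < D.nroots) {e : ℤ} (he : (e : F) ≠ 0)
    (h : ∀ t u, S.x k t ∈ M → S.x k u ∈ M → S.x k (-e * t * u) ∈ M) : ∃ R : Subfield F, ∀ t, t ∈ R ↔ S.x k t ∈ M := by
  let R : Subring F :=
    { par S M hk with
      one_mem' := hx k hk 1 (map_one _)
      mul_mem' := fun {a b} ha hb => by
        have := h ((e : F)⁻¹ ^ 2) _ (hx k hk _ (by simp)) (h a b ha hb)
        rwa [show -e * (e : F)⁻¹ ^ 2 * (-e * a * b) = a * b by field_simp] at this }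
  exact ⟨{ R with inv_mem' := fun _ => subring_inv R }, fun _ => Iff.rfl⟩

theorem subfield_of_ringOK [Finite F] (p : ℕ) [CharP F p] {q : ℤ} (hq : (p : ℤ) ∣ q) {ok : List ℤ}
    (hok : ∀ e ∈ ok, (e : F) ≠ 0) {a b k : ℕ} (h : RingOK D q ok a b k) :
    ∃ R : Subfield F, ∀ t, t ∈ R ↔ S.x k t ∈ M := by
  obtain ⟨h, hk, ⟨e, he, h1⟩, h2, h3, h4⟩ := h
  obtain ⟨L, hL⟩ := List.head?_eq_some_iff.1 h1
  refine exists_subfield hx hk (hok e he) fun t u ht hu => ?_
  have h5 := h4 ▸ mem_refl h.2.1 hk (n_one_mem hx h.2.1) ht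
  have h6 := h3 ▸ mem_refl h.1 hk (n_one_mem hx h.1) hu
  have := mul_mem (mul_mem (mul_mem (inv_mem h6) (inv_mem h5)) h6) h5
  rw [st_comm_eq S h, hL, List.map_cons, H40.gword_cons,
    st_gword_one S p h fun c hc => ⟨by simp [hL, hc], hq.trans (h2 c (by simp [hL, hc]))⟩] at this
  simpa using this

theorem mul_of_B2 {a b s l : ℕ} (h : B2OK D a b s l) :
    ∃ e ∈ ([2, -2] : List ℤ), ∀ t u, S.x l t ∈ M → S.x l u ∈ M → S.x l (-e * t * u) ∈ M := by
  obtain ⟨hab, has, ⟨hl, ha, -⟩, ⟨-, hs, -⟩, ⟨-, hb, -⟩, -, -, -, -, -, ⟨e, he, e', he', h3⟩, ⟨f, hf, h4⟩, h5, -, -,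
    h6, -⟩ := h
  have h7 : ∀ t, S.x l t ∈ M → S.x s t ∈ M := fun t ht => by
    have h8 := h6 ▸ mem_refl ha hl (n_one_mem hx ha) ht
    have h9 := hx a ha 1 (map_one _)
    have := mul_mem (mul_mem (mul_mem (inv_mem h8) (inv_mem h9)) h8) h9
    rw [st_comm_eq S hab, h3] at this
    have h10 : ∀ e ∈ ([1, -1] : List ℤ), ∀ {r} (hr : r < D.nroots), S.x r (e * t) ∈ M ↔ S.x r t ∈ M := fun e he r hr => by
      simp only [List.mem_cons, List.not_mem_nil, or_false] at he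
      rcases he with rfl | rfl <;> simp [← H40.x_inv S hr]
    simp only [gword, List.map_cons, List.map_nil, List.prod_cons, List.prod_nil, mul_one, pow_one, even_two,
      Even.neg_pow, one_pow, mul_neg, neg_mul] at this
    rwa [mul_mem_cancel_right ((h10 _ he' hl).2 ht), ← H40.x_inv S hs, inv_mem_iff, h10 _ he hs] at this
  have h8 : ∀ t u, S.x s t ∈ M → S.x s u ∈ M → S.x l (-f * t * u) ∈ M := fun t u ht hu => by
    have h8 := h5 ▸ mem_refl hb hs (n_one_mem hx hb) ht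
    have := mul_mem (mul_mem (mul_mem (inv_mem hu) (inv_mem h8)) hu) h8
    rw [st_comm_eq S has, h4] at this
    simpa [gword] using this
  exact ⟨f, hf, fun t u ht hu => h8 t u (h7 t ht) (h7 u hu)⟩

theorem ring_of_B2_two [Finite F] [CharP F 2] {a b s l : ℕ} (h : B2OK D a b s l) : ∃ R : Subring F,
    (∀ t t', S.x s t * S.x l t' ∈ M → t ∈ R ∧ t' ∈ R) ∧ ∀ c ∈ R, S.x l c ∈ M := by
  obtain ⟨hab, has, hla, hls, hlb, hsb, e1, e2, e3, e4, ⟨e, he, e', he', h3⟩, ⟨f, hf, h4⟩, h5, h6, h7, h8, -⟩ := h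
  have hl := hla.1
  have ha := hab.1
  have hb := hab.2.1
  have hs := has.2.1
  have hpm : ∀ e ∈ ([1, -1] : List ℤ), (e : F) = 1 := fun e he => by
    simp only [List.mem_cons, List.not_mem_nil, or_false] at he
    rcases he with rfl | rfl <;> simp [CharTwo.neg_eq]
  have heta : ∀ {q r}, q < D.nroots → r < D.nroots → ∀ u, S.n q 1 * S.x r u * (S.n q 1)⁻¹ = S.x (refl D q r) u :=
    fun hq hr u => by
      rw [H40.n_conj' S hq hr one_ne_zero, hpm _ (by simpa using Chev.eta_eq_or hq hr)]; simp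
  have c1 := st_commute S 2 hla (by simp [e1])
  have c2 := st_commute S 2 hls (by simp [e2])
  have c3 := st_commute S 2 hlb (by simp [e3])
  have c4 := st_commute S 2 hsb (by simp [e4])
  have c5 := st_commute S 2 has (by
    simp only [List.mem_cons, List.not_mem_nil, or_false] at hf
    rcases hf with rfl | rfl <;> simp [h4])
  have key : ∀ t t' u u', S.x s t * S.x l t' ∈ M → S.x s u * S.x l u' ∈ M →
      S.x s (t * u') * S.x l (t ^ 2 * u') ∈ M := fun t t' u u' h1 h2 => by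
    have h9 : S.x a t * S.x l t' ∈ M := by
      simpa [← conj_mul, heta hb hs, heta hb hl, h5, h6] using
        mul_mem (mul_mem (n_one_mem hx hb) h1) (inv_mem (n_one_mem hx hb))
    have h10 : S.x s u * S.x b u' ∈ M := by
      simpa [← conj_mul, heta ha hs, heta ha hl, h7, h8] using
        mul_mem (mul_mem (n_one_mem hx ha) h2) (inv_mem (n_one_mem hx ha))
    have h11 := st_comm_eq S hab t u'
    simp only [h3, gword, List.map_cons, List.map_nil, List.prod_cons, List.prod_nil, mul_one, pow_one, hpm e he,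
      hpm e' he', CharTwo.neg_eq, one_mul] at h11
    have := mul_mem (mul_mem (mul_mem (inv_mem h10) (inv_mem h9)) h10) h9
    have h12 := ((((c1 t' t).inv_left.mul_left (c2 t' u)).mul_left (c3 t' u')).mul_left (c1 t' t)).eq
    rw [← h11]
    convert this using 1
    calc _ = (S.x b u')⁻¹ * (S.x s u)⁻¹ * (S.x l t')⁻¹ * (S.x l t' * (S.x s u * (S.x a t)⁻¹ * S.x b u' * S.x a t)) := by
          group
      _ = _ := by rw [(c5 t u).inv_right.eq, ← h12]; group
  have hadd : ∀ {t t' u u'}, S.x s t * S.x l t' ∈ M → S.x s u * S.x l u' ∈ M →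
      S.x s (t + u) * S.x l (t' + u') ∈ M := fun {t t' u u'} h1 h2 => by
    rw [← S.x_add s hs, ← S.x_add l hl, ← (c2 t' u).symm.mul_mul_mul_comm]
    exact mul_mem h1 h2
  let A : AddSubgroup F :=
    { carrier := {t | ∃ t', S.x s t * S.x l t' ∈ M}
      add_mem' := fun ⟨_, h1⟩ ⟨_, h2⟩ => ⟨_, hadd h1 h2⟩
      zero_mem' := ⟨0, mul_mem (hx s hs 0 (map_zero _)) (hx l hl 0 (map_zero _))⟩
      neg_mem' := fun {x} h => by rwa [CharTwo.neg_eq x] }
  have h9 : ∀ u u', S.x s u * S.x l u' ∈ M → ∀ a ∈ A, u' * a ∈ A := fun u u' h1 a ⟨_, h2⟩ =>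
    ⟨_, mul_comm a u' ▸ key _ _ _ _ h2 h1⟩
  have h10 := fun t' (h : φ t' = t') => mul_mem (hx s hs 0 (map_zero _)) (hx l hl t' h)
  let R : Subring F :=
    { carrier := {c | ∀ a ∈ A, c * a ∈ A}
      mul_mem' := fun ha hb x hx => mul_assoc _ _ x ▸ ha _ (hb x hx)
      one_mem' := fun x hx => (one_mul x).symm ▸ hx
      add_mem' := fun ha hb x hx => (add_mul _ _ x).symm ▸ add_mem (ha x hx) (hb x hx)
      zero_mem' := fun x _ => (zero_mul x).symm ▸ zero_mem _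
      neg_mem' := fun ha x hx => (neg_mul _ x).symm ▸ neg_mem (ha x hx) }
  have h11 : ∀ c ∈ R, ∃ v ∈ R, v ^ 2 = c := fun c hc => by
    obtain ⟨v, hv⟩ := surjective_frobenius R 2 ⟨c, hc⟩
    exact ⟨v, v.2, congrArg Subtype.val hv⟩
  have h13 : ∀ c ∈ R, ∃ c', S.x s c * S.x l c' ∈ M := fun c hc => by
    have := hc 1 ⟨0, mul_mem (hx s hs 1 (map_one _)) (hx l hl 0 (map_zero _))⟩
    rwa [mul_one] at this
  have h14 : ∀ t ∈ R, ∀ u ∈ R, S.x s (t * u) * S.x l (t ^ 2 * u) ∈ M := fun t ht u hu => by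
    obtain ⟨v, hv, rfl⟩ := h11 u hu
    obtain ⟨_, h1⟩ := h13 t ht
    obtain ⟨_, h2⟩ := h13 v hv
    simpa using key _ _ _ _ h1 (key _ _ _ _ h2 (h10 1 (map_one _)))
  refine ⟨R, fun t t' h => ⟨?_, h9 _ _ h⟩, fun c hc => ?_⟩
  · obtain ⟨v, hv, e⟩ := h11 _ (h9 _ _ (key _ _ _ _ h (h10 1 (map_one _))))
    exact frobenius_inj F 2 (show v ^ 2 = t ^ 2 by simpa using e) ▸ hv
  by_cases h15 : c ^ 2 + c = 0
  · rcases mul_eq_zero.1 (show c * (c + 1) = 0 by linear_combination h15) with e | e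
    · exact hx l hl c (by simp [e])
    · exact hx l hl c (by simp [eq_neg_of_add_eq_zero_left e])
  have h16 := mul_mem hc (subring_inv R (add_mem (pow_mem hc 2) hc))
  have := hadd (h14 c hc _ h16) (h14 1 (one_mem _) _ (mul_mem hc h16))
  rwa [one_mul, CharTwo.add_self_eq_zero, H40.x_zero S hs, one_mul, one_pow, one_mul, ← add_mul,
    mul_comm c, mul_inv_cancel_left₀ h15] at this

end

variable [Fintype F] (p : ℕ) [hp : Fact p.Prime] [CharP F p] (hx : ∀ r < D.nroots, ∀ t, frobenius F p t = t → S.x r t ∈ M)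
include hx

omit [Chev D] [Fintype F] in
theorem hx_pull (R : Subfield F) : ∀ r < D.nroots, ∀ t : R, frobenius R p t = t → (S.pullF R.subtype).x r t ∈ M :=
  fun r hr t ht => hx r hr t (congrArg Subtype.val ht)

/-- the conclusion: the subgroup is defined over a subfield -/
def Over (S : StRel D F G) (M : Subgroup G) (R : Subfield F) : Prop :=
  (∀ t, t ∈ R ↔ S.x (D.nroots - 1) t ∈ M) ∧ (∀ r < D.nroots, ∀ t ∈ R, S.x r t ∈ M) ∧ ∀ (φ : F →+* F) (l : MulAut G),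
    (∀ t, φ t = t ↔ t ∈ R) → (∀ r < D.nroots, ∀ t, l (S.x r t) = S.x r (φ t)) → ∀ g ∈ M, l g = g

variable (hX : (rg S).Faithful) [Finite G] (hG : (rg S).grp = ⊤) (hP : (rs D).Conn) (hZ : Subgroup.center G = ⊥)
  (hD : AllOK D)
include hX hG hP hZ hD

theorem over_of {Z : List ℕ} {ok : List ℤ} (hok : ∀ e ∈ ok, (e : F) ≠ 0) {q : ℤ} (hq : (p : ℤ) ∣ q) (h1 : ZOK D q Z)
    (h2 : GoodOK D ok Z) (h3 : ∀ i < D.rank, D.simple i ∉ Z) {R : Subfield F}
    (hR : ∀ t, t ∈ R ↔ S.x (D.nroots - 1) t ∈ M) (hM : ∀ (φ : F →+* F) (l : MulAut G), (∀ t ∈ R, φ t = t) →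
      (∀ r < D.nroots, ∀ t, l (S.x r t) = S.x r (φ t)) → ∀ z ∈ (rg S).US {a | a.1 ∈ Z}, z ∈ M → l z = z) :
    Over S M R := by
  have h4 : ∀ r < D.nroots, ∀ t ∈ R, S.x r t ∈ M := fun r hr t ht => grp_le_of_top (hx_pull p hx R) hD.1
    (fun t => (hR t).1 t.2) ((rg (S.pullF R.subtype)).x_mem_grp ⟨r, hr⟩ ⟨t, ht⟩)
  exact ⟨hR, h4, fun φ l h5 hl => ch_fix hl hX hG p (fun r hr t ht => h4 r hr t ((h5 t).1 ht)) hP hZ hD hok hq h1 h2 h3
    (hM φ l (fun t => (h5 t).2) hl)⟩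

theorem over_of_single {ok : List ℤ} (hok : ∀ e ∈ ok, (e : F) ≠ 0) (h2 : GoodOK D ok [D.nroots - 1])
    (h3 : ∀ i < D.rank, D.simple i ∉ [D.nroots - 1]) (hR : ∃ R : Subfield F, ∀ t, t ∈ R ↔ S.x (D.nroots - 1) t ∈ M) :
    ∃ R, Over S M R := by
  obtain ⟨R, hR⟩ := hR
  refine ⟨R, over_of p hx hX hG hP hZ hD hok (dvd_zero _) hD.2.2.2 h2 h3 hR fun φ l h4 hl z hz hzM =>
    by_contra fun h => ?_⟩
  obtain ⟨t, ht, rfl⟩ := exists_of_single hl (top D).2 hz h
  exact ht (h4 t ((hR t).2 hzM))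

theorem over_ring {ok : List ℤ} (hok : ∀ e ∈ ok, (e : F) ≠ 0) {a b k : ℕ} (hk : k = D.nroots - 1)
    (h : GoodOK D ok [k] ∧ RingOK D 0 [1, -1] a b k) (h3 : ∀ i < D.rank, D.simple i ∉ [k]) : ∃ R, Over S M R := by
  subst hk
  exact over_of_single p hx hX hG hP hZ hD hok h.1 h3 (subfield_of_ringOK hx p (dvd_zero _) (by simp) h.2)

theorem over_B2 {a b s k : ℕ} (hk : k = D.nroots - 1) (h : GoodOK D [1, -1, 2, -2] [k] ∧ B2OK D a b s k)
    (h' : GoodOK D [1, -1] [s, k] ∧ ZOK D 2 [s, k]) (h3 : ∀ i < D.rank, D.simple i ∉ [s, k]) : ∃ R, Over S M R := by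
  subst hk
  by_cases h2 : p = 2
  · subst h2
    obtain ⟨R, h4, h5⟩ := ring_of_B2_two hx h.2
    refine ⟨{ R with inv_mem' := fun _ => subring_inv R }, over_of 2 hx hX hG hP hZ hD (by simp) dvd_rfl h'.2 h'.1 h3
      (fun t => ⟨h5 t, fun ht => (h4 0 t (mul_mem (hx s h.2.2.1.2.1 0 (map_zero _)) ht)).2⟩)
      fun φ l h6 hl z hz hzM => by_contra fun h7 => ?_⟩
    obtain ⟨t, u, ht, rfl⟩ := exists_of_pair hl h.2.2.2.2.1 h.2.2.2.2.2.2.2.2.1 hz h7
    exact ht.elim (fun e => e (h6 t (h4 t u hzM).1)) fun e => e (h6 u (h4 t u hzM).2)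
  · have h4 : (2 : F) ≠ 0 := fun h => h2 ((Nat.prime_dvd_prime_iff_eq hp.out Nat.prime_two).1
      ((CharP.cast_eq_zero_iff F p 2).1 h))
    obtain ⟨e, he, h5⟩ := mul_of_B2 hx h.2
    refine over_of_single p hx hX hG hP hZ hD (by simpa) h.1 (fun i hi e => h3 i hi (List.mem_cons_of_mem _ e))
      (exists_subfield hx (top D).2 ?_ h5)
    simp only [List.mem_cons, List.not_mem_nil, or_false] at he
    rcases he with rfl | rfl <;> simpa using h4

omit hx hX hG hP hZ hD in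
theorem over_G2 [Chev chevG2] {S : StRel chevG2 F G}
    (hx : ∀ r < chevG2.nroots, ∀ t, frobenius F p t = t → S.x r t ∈ M) (hX : (rg S).Faithful) (hG : (rg S).grp = ⊤)
    (hP : (rs chevG2).Conn) (hZ : Subgroup.center G = ⊥) : ∃ R, Over S M R := by
  by_cases h3 : p = 3
  · subst h3
    have h2 : (2 : F) ≠ 0 := fun h => absurd ((CharP.cast_eq_zero_iff F 3 2).1 h) (by decide)
    obtain ⟨R, hR⟩ := subfield_of_ringOK hx 3 (dvd_zero _) (by simp) good_G2.2
    obtain ⟨R', hR'⟩ := subfield_of_ringOK hx 3 dvd_rfl (by simpa) good_G2'.2.2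
    refine ⟨R, over_of 3 hx hX hG hP hZ allOK_G2 (by simpa) dvd_rfl good_G2'.2.1 good_G2'.1 (by decide +kernel) hR
      fun φ l h4' hl z hz hzM => by_contra fun hz' => ?_⟩
    have h : Gen2 chevG2 11 9 ∧ chevG2.commTerms 11 9 = [] ∧ chevG2.pairing 6 9 = 0 ∧ chevG2.pairing 6 11 = 1 ∧
      chevG2.pairing 9 11 = (3 : ℕ) ∧ 6 < chevG2.nroots := by decide +kernel
    obtain ⟨h4, h5, h6, h7, h8, h9⟩ := h
    obtain ⟨t, u, ht, rfl⟩ := exists_of_pair hl h4 h5 hz hz'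
    have h10 : S.n 6 (-1) ∈ M := H40.n_inv S h9 1 ▸ inv_mem (n_one_mem hx h9)
    have h11 : S.h 6 (-1) ∈ M := H40.h_def S 6 (-1) ▸ mul_mem h10 h10
    have h12 := mul_mem (inv_mem hzM) (mul_mem (mul_mem h11 hzM) (inv_mem h11))
    rw [← conj_mul, H40.h_conj S h9 h4.1 (by simp), H40.h_conj S h9 h4.2.1 (by simp), h6, h7, zpow_zero, one_mul,
      mul_inv_rev, mul_assoc, inv_mul_cancel_left, H40.x_inv S h4.1, S.x_add _ h4.1,
      show -u + (-1) ^ (1 : ℤ) * u = u by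
        have : (3 : F) = 0 := CharP.cast_eq_zero F 3
        linear_combination (-u) * this] at h12
    exact ht.elim (fun e => e (h4' t ((hR t).2 (all_torus_p (hx_pull 3 hx R') 3 h4.2.1 h4.1 (fun t => (hR' t).1 t.2) h8
      ⟨t, (hR' t).2 ((mul_mem_cancel_right h12).1 hzM)⟩)))) fun e => e (h4' u ((hR u).2 h12))
  · have h4 : (3 : F) ≠ 0 := fun h => h3 ((Nat.prime_dvd_prime_iff_eq hp.out Nat.prime_three).1
      ((CharP.cast_eq_zero_iff F p 3).1 h))
    exact over_ring p hx hX hG hP hZ allOK_G2 (by simpa) rfl good_G2 (by decide +kernel)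

omit hx hX hG hP hZ hD in
theorem fin_over (hD : IsChev D) {M : Subgroup (D.group F)}
    (hx : ∀ r < D.nroots, ∀ t, frobenius F p t = t → (ss F hD).x r t ∈ M) : ∃ m, 0 < m ∧ p ^ m ≤ Nat.card M ∧
      (∀ t, (ss F hD).x (D.nroots - 1) t ∈ M → t ^ p ^ m = t) ∧
      (∀ r < D.nroots, ∀ t, t ^ p ^ m = t → (ss F hD).x r t ∈ M) ∧ ∀ g ∈ M, ∀ i j,
        ((g : GL D.Idx F) : Matrix D.Idx D.Idx F) i j ^ p ^ m = ((g : GL D.Idx F) : Matrix D.Idx D.Idx F) i j := by
  have hX := ss_faithful F hD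
  have hG := ss_grp F hD
  have hP := rs_conn hD
  have hZ := grp_center F hD
  obtain ⟨R, h1, h2, h3⟩ : ∃ R, Over (ss F hD) M R := by
    simp only [List.mem_cons, List.not_mem_nil, or_false] at hD
    rcases hD with rfl | rfl | rfl | rfl | rfl | rfl | rfl
    exacts [over_G2 p hx hX hG hP hZ,
      over_B2 p hx hX hG hP hZ allOK_B2 rfl good_B2 good_B2' (by decide +kernel),
      over_ring p hx hX hG hP hZ allOK_D4 (by simp) rfl good_D4 (by decide +kernel),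
      over_B2 p hx hX hG hP hZ allOK_F4 rfl good_F4 good_F4' (by decide +kernel),
      over_ring p hx hX hG hP hZ allOK_E6 (by simp) rfl good_E6 (by decide +kernel),
      over_ring p hx hX hG hP hZ allOK_E7 (by simp) rfl good_E7 (by decide +kernel),
      over_ring p hx hX hG hP hZ allOK_E8 (by simp) rfl good_E8 (by decide +kernel)]
  obtain ⟨m, hm, h4, h5⟩ := exists_pow_subfield p R
  obtain ⟨l, hl, hl'⟩ := exists_fieldAut hD (iterateFrobenius F p m)
  refine ⟨m, hm, h4 ▸ Nat.card_le_card_of_injective (fun t : R => (⟨_, (h1 t).1 t.2⟩ : M)) fun t u e =>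
    Subtype.ext (hX.x_inj (top D) (congrArg Subtype.val e)), fun t ht => (h5 t).2 ((h1 t).2 ht),
    fun r hr t ht => h2 r hr t ((h5 t).1 ht), fun g hg => ?_⟩
  simpa only [iterateFrobenius_def] using (hl' g).1 (h3 _ l (by simpa only [iterateFrobenius_def] using h5) hl g hg)

end Cfsg.Agent.H33
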