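import Cfsg.Agent.H33.SubG

/-! Specialisation of finitely many matrices to a finite field. -/

set_option autoImplicit false

namespace Cfsg.Agent.H33

open Cfsg.Lie Cfsg.Lie.ChevalleyDatum Cfsg.Agent.H37 Cfsg.Agent.H38 Cfsg.Agent.H64

universe u

theorem exists_spec {k : Type u} [Field k] [IsAlgClosed k] (F₀ : Subfield k) [Finite F₀] {T : Set k} (hT : T.Finite) :
    ∃ (F : Type u) (_ : Field F) (_ : Fintype F) (j : F →+* k) (Γ : Subring (k × F)), (∀ b, (0, b) ∈ Γ → b = 0) ∧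
      (∀ t ∈ T, ∃ t', (t, t') ∈ Γ) ∧ ∀ t ∈ F₀, ∃ t', (t, t') ∈ Γ ∧ j t' = t := by
  let A := Algebra.adjoin F₀ T
  have : Algebra.FiniteType F₀ A := (Subalgebra.fg_iff_finiteType _).1 (Subalgebra.fg_def.2 ⟨T, hT, rfl⟩)
  obtain ⟨m, hm⟩ := Ideal.exists_maximal A
  let _ := Ideal.Quotient.field m
  have : Module.Finite F₀ (A ⧸ m) := finite_of_finite_type_of_isJacobsonRing _ _
  have : Finite (A ⧸ m) := Module.finite_of_finite F₀
  let j : (A ⧸ m) →ₐ[F₀] k := IsAlgClosed.lift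
  refine ⟨A ⧸ m, inferInstance, Fintype.ofFinite _, j, (A.val.toRingHom.prod (Ideal.Quotient.mk m)).range, ?_,
    fun t ht => ⟨_, ⟨t, Algebra.subset_adjoin ht⟩, rfl⟩,
    fun t ht => ⟨_, ⟨algebraMap F₀ A ⟨t, ht⟩, rfl⟩, j.commutes ⟨t, ht⟩⟩⟩
  rintro b ⟨a, ha⟩
  obtain ⟨h1, rfl⟩ := Prod.mk.inj ha
  rw [show a = 0 from Subtype.ext h1, map_zero]

theorem pow_pow_iff {k : Type*} [Monoid k] (p m : ℕ) (t : k) :
    Function.IsPeriodicPt (fun x : k => x ^ p) m t ↔ t ^ p ^ m = t := by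
  rw [Function.IsPeriodicPt, Function.IsFixedPt, pow_iterate]

variable {k F : Type*} [Field k] [Field F] (Γ : Subring (k × F)) {D : ChevalleyDatum}

/-- the entries of two matrices are related -/
def MR (a : Matrix D.Idx D.Idx k) (b : Matrix D.Idx D.Idx F) : Prop := ∀ i j, (a i j, b i j) ∈ Γ

theorem mr_one : MR Γ (1 : Matrix D.Idx D.Idx k) 1 := fun i j => by
  simp only [Matrix.one_apply]; split_ifs; exacts [one_mem Γ, zero_mem Γ]

variable {Γ}

theorem MR.mul {a a' : Matrix D.Idx D.Idx k} {b b' : Matrix D.Idx D.Idx F} (h : MR Γ a b) (h' : MR Γ a' b') :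
    MR Γ (a * a') (b * b') := fun i j => by
  have := sum_mem fun l (_ : l ∈ Finset.univ) => mul_mem (h i l) (h' l j)
  rwa [← Prod.mk.eta (p := ∑ _, _), Prod.fst_sum, Prod.snd_sum] at this

theorem mr_x {t : k} {t' : F} (h : (t, t') ∈ Γ) (r : ℕ) : MR Γ (D.x k r t) (D.x F r t') := by
  unfold ChevalleyDatum.x
  split_ifs
  swap
  · exact mr_one Γ
  have h1 : ∀ z : ℤ, ((z : k), (z : F)) ∈ Γ := intCast_mem Γ
  have h2 : ∀ L : List (ℕ × ℤ), ((L.map fun km => (km.2 : k) * t ^ km.1).sum,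
      (L.map fun km => (km.2 : F) * t' ^ km.1).sum) ∈ Γ := fun L => by
    induction L with
    | nil => exact zero_mem Γ
    | cons a L ih => exact add_mem (mul_mem (h1 a.2) (pow_mem h a.1)) ih
  intro row col
  rcases row with i' | u <;> rcases col with i | s <;> simp only [ChevalleyDatum.xMat, Matrix.of_apply] <;> split_ifs
  all_goals first
    | exact one_mem Γ | exact zero_mem Γ | exact mul_mem (neg_mem (h1 _)) h | exact mul_mem (h1 _) h
    | exact neg_mem (pow_mem h 2) | exact add_mem (one_mem Γ) (h2 _) | exact add_mem (zero_mem Γ) (h2 _)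

variable (Γ D) in
/-- pairs of related group elements -/
def relG : Subgroup (GL D.Idx k × D.group F) where
  carrier := {z | MR Γ z.1.1 z.2.1.1 ∧ MR Γ (z.1⁻¹).1 (z.2⁻¹).1.1}
  one_mem' := ⟨mr_one Γ, by simpa using mr_one Γ⟩
  mul_mem' h h' := ⟨h.1.mul h'.1, by simp only [Prod.fst_mul, Prod.snd_mul, mul_inv_rev]; exact h'.2.mul h.2⟩
  inv_mem' h := ⟨h.2, by simpa using h.1⟩

variable [Chev D] (hD : IsChev D)

theorem x_mem_relG {t : k} {t' : F} (h : (t, t') ∈ Γ) {r : ℕ} (hr : r < D.nroots) :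
    ((matRel hD k).x r t, (ss F hD).x r t') ∈ relG Γ D :=
  ⟨mr_x h r, by rw [H40.x_inv _ hr, H40.x_inv _ hr]; exact mr_x (neg_mem h) r⟩

theorem exists_params {M : Subgroup (GL D.Idx k)} [Finite M] (hM : M ≤ D.group k) : ∃ T : Set k, T.Finite ∧
    M ≤ Subgroup.closure {g | ∃ r < D.nroots, ∃ t ∈ T, g = (matRel hD k).x r t} := by
  have h1 : ∀ g ∈ (mg hD k).grp, ∃ T : Set k, T.Finite ∧
      g ∈ Subgroup.closure {g | ∃ r < D.nroots, ∃ t ∈ T, g = (matRel hD k).x r t} := fun g hg => by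
    induction hg using RG0.US_induction with
    | h1 => exact ⟨∅, Set.finite_empty, one_mem _⟩
    | hm g _ r _ t ih =>
      obtain ⟨T, hT, h⟩ := ih
      refine ⟨insert t T, hT.insert t, mul_mem (Subgroup.closure_mono ?_ h)
        (Subgroup.subset_closure ⟨r, r.2, t, Or.inl rfl, rfl⟩)⟩
      exact fun _ ⟨r, hr, u, hu, e⟩ => ⟨r, hr, u, Or.inr hu, e⟩
  choose T h2 h3 using fun g : M => h1 g ((mg_grp hD k).ge (hM g.2))
  refine ⟨⋃ g, T g, Set.finite_iUnion h2, fun g hg => Subgroup.closure_mono ?_ (h3 ⟨g, hg⟩)⟩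
  exact fun _ ⟨r, hr, u, hu, e⟩ => ⟨r, hr, u, Set.mem_iUnion.2 ⟨_, hu⟩, e⟩

end Cfsg.Agent.H33
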