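import Cfsg.Agent.H33.SubSt

/-! Tables for the maximality of subfield subgroups. -/

set_option autoImplicit false
set_option Elab.async false

namespace Cfsg.Agent.H33

open Cfsg.Lie Cfsg.Lie.ChevalleyDatum Cfsg.Agent.H37 Cfsg.Agent.H38 Cfsg.Agent.H64

/-- the root subgroups of `Z` are central in the unipotent subgroup in characteristic `p` -/
def ZOK (D : ChevalleyDatum) (p : ℤ) (Z : List ℕ) : Prop := ∀ a ∈ Z, a < D.nroots ∧ D.nroots / 2 ≤ a ∧
  ∀ s < D.nroots, D.nroots / 2 ≤ s → a ≠ s → ∀ c ∈ D.commTerms s a, p ∣ c.2.1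

instance decZOK (D : ChevalleyDatum) (p : ℤ) (Z : List ℕ) : Decidable (ZOK D p Z) := by unfold ZOK; infer_instance

/-- the other root subgroups are detected by a commutator -/
def GoodOK (D : ChevalleyDatum) (ok : List ℤ) (Z : List ℕ) : Prop := ∀ a < D.nroots, D.nroots / 2 ≤ a → a ∈ Z ∨
  ∃ s < D.nroots, D.nroots / 2 ≤ s ∧ a ≠ s ∧ ∃ c ∈ (D.commTerms s a).head?, R1 D ok c.1 a s

instance decGoodOK (D : ChevalleyDatum) (ok : List ℤ) (Z : List ℕ) : Decidable (GoodOK D ok Z) := by
  unfold GoodOK; infer_instance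

/-- the second highest root commutes with the positive roots orthogonal to the highest root -/
def OddOK (D : ChevalleyDatum) : Prop := D.nroots / 2 ≤ D.nroots - 2 ∧ ∀ s < D.nroots, D.nroots / 2 ≤ s →
  s = D.nroots - 2 ∨ D.pairing (D.nroots - 1) s = 1 ∨ D.commTerms (D.nroots - 2) s = []

instance decOddOK (D : ChevalleyDatum) : Decidable (OddOK D) := by unfold OddOK; infer_instance

/-- short roots -/
def shortB (D : ChevalleyDatum) (r : ℕ) : Bool := (List.range D.nroots).any fun s => s != r && 2 ≤ D.pairing r s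

/-- there are two orthogonal fundamental roots or a short one -/
def TwoOK (D : ChevalleyDatum) : Prop :=
  (∃ i < D.rank, ∃ j < D.rank, i ≠ j ∧ D.commTerms (D.simple i) (D.simple j) = []) ∨
  ((∀ j < D.rank, ∀ r < D.nroots, shortB D (D.reflectRoot j r) = shortB D r) ∧
    ∃ i < D.rank, shortB D (D.nroots - 1) ≠ shortB D (D.simple i))

instance decTwoOK (D : ChevalleyDatum) : Decidable (TwoOK D) := by unfold TwoOK; infer_instance

/-- a subsystem of type `A₂` -/
def RingOK (D : ChevalleyDatum) (p : ℤ) (ok : List ℤ) (a b k : ℕ) : Prop := Gen2 D a b ∧ k < D.nroots ∧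
  (∃ e ∈ ok, (D.commTerms a b).head? = some (k, e, 1, 1)) ∧ (∀ c ∈ (D.commTerms a b).tail, p ∣ c.2.1) ∧
  refl D a k = b ∧ refl D b k = a

instance decRingOK (D : ChevalleyDatum) (p : ℤ) (ok : List ℤ) (a b k : ℕ) : Decidable (RingOK D p ok a b k) := by
  unfold RingOK; infer_instance

/-- the conditions that do not depend on the characteristic -/
def AllOK (D : ChevalleyDatum) : Prop := GenOK D ∧ OddOK D ∧ TwoOK D ∧ ZOK D 0 [D.nroots - 1]

instance decAllOK (D : ChevalleyDatum) : Decidable (AllOK D) := by unfold AllOK; infer_instance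

theorem allOK_G2 : AllOK chevG2 := by decide +kernel
theorem allOK_B2 : AllOK chevB2 := by decide +kernel
theorem allOK_D4 : AllOK chevD4 := by decide +kernel
theorem allOK_F4 : AllOK chevF4 := by decide +kernel
theorem allOK_E6 : AllOK chevE6 := by decide +kernel
theorem allOK_E7 : AllOK chevE7 := by decide +kernel
theorem allOK_E8 : AllOK chevE8 := by decide +kernel

theorem good_G2 : GoodOK chevG2 [1, -1, 3, -3] [11] ∧ RingOK chevG2 0 [1, -1] 6 10 11 := by decide +kernel
theorem good_G2' : GoodOK chevG2 [1, -1, 2, -2] [9, 11] ∧ ZOK chevG2 3 [9, 11] ∧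
    RingOK chevG2 3 [2, -2] 7 8 9 := by decide +kernel
theorem good_B2 : GoodOK chevB2 [1, -1, 2, -2] [7] ∧ B2OK chevB2 5 4 6 7 := by decide +kernel
theorem good_B2' : GoodOK chevB2 [1, -1] [6, 7] ∧ ZOK chevB2 2 [6, 7] := by decide +kernel
theorem good_F4 : GoodOK chevF4 [1, -1, 2, -2] [47] ∧ B2OK chevF4 29 41 44 47 := by decide +kernel
theorem good_F4' : GoodOK chevF4 [1, -1] [44, 47] ∧ ZOK chevF4 2 [44, 47] := by decide +kernel
theorem good_D4 : GoodOK chevD4 [1, -1] [23] ∧ RingOK chevD4 0 [1, -1] 14 22 23 := by decide +kernel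
theorem good_E6 : GoodOK chevE6 [1, -1] [71] ∧ RingOK chevE6 0 [1, -1] 46 70 71 := by decide +kernel
theorem good_E7 : GoodOK chevE7 [1, -1] [125] ∧ RingOK chevE7 0 [1, -1] 93 124 125 := by decide +kernel
theorem good_E8 : GoodOK chevE8 [1, -1] [239] ∧ RingOK chevE8 0 [1, -1] 120 238 239 := by decide +kernel

end Cfsg.Agent.H33
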