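import Cfsg.Agent.H33.SubA
import Cfsg.Agent.H64.WeakClMat
import Cfsg.Agent.H64.Cent
import Cfsg.Agent.H37.SL2Hom

/-! Overgroups of subfield subgroups of Chevalley groups: computations with root elements. -/

set_option autoImplicit false

namespace Cfsg.Agent.H33

open Cfsg.Lie Cfsg.Lie.ChevalleyDatum Cfsg.Agent.H37 Cfsg.Agent.H38 Cfsg.Agent.H64

variable {D : ChevalleyDatum} [Chev D] {F : Type*} [Field F] {G : Type*} [Group G] (S : StRel D F G)

/-- two different roots that are not opposite -/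
def Gen2 (D : ChevalleyDatum) (s a : ℕ) : Prop := s < D.nroots ∧ a < D.nroots ∧ a ≠ s ∧ a ≠ D.neg s

instance decGen2 (D : ChevalleyDatum) (s a : ℕ) : Decidable (Gen2 D s a) := inferInstanceAs (Decidable (_ ∧ _))

omit [Chev D] in
theorem st_comm_eq {a s : ℕ} (h : Gen2 D s a) (t u : F) : (S.x a u)⁻¹ * (S.x s t)⁻¹ * S.x a u * S.x s t =
    gword S.x ((D.commTerms s a).map fun c => (c.1, (c.2.1 : F) * (-t) ^ c.2.2.1 * u ^ c.2.2.2)) := by
  rw [mul_assoc, S.x_comm s h.1 a h.2.1 h.2.2.1 h.2.2.2, ← mul_inv_rev, inv_mul_cancel_left]; rfl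

theorem st_gword_one (p : ℕ) [CharP F p] {a s : ℕ} (h : Gen2 D s a) {L : List (ℕ × ℤ × ℕ × ℕ)}
    (hL : ∀ c ∈ L, c ∈ D.commTerms s a ∧ (p : ℤ) ∣ c.2.1) (t u : F) :
    gword S.x (L.map fun c => (c.1, (c.2.1 : F) * t ^ c.2.2.1 * u ^ c.2.2.2)) = 1 := by
  refine List.prod_eq_one fun g hg => ?_
  simp only [List.map_map, List.mem_map, Function.comp_apply] at hg
  obtain ⟨c, hc, rfl⟩ := hg
  rw [(CharP.intCast_eq_zero_iff F p _).2 (hL c hc).2, zero_mul, zero_mul,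
    H40.x_zero S (Chev.commTerms_sound h.1 h.2.1 (hL c hc).1).1]

theorem st_commute (p : ℕ) [CharP F p] {a s : ℕ} (h : Gen2 D s a) (hL : ∀ c ∈ D.commTerms s a, (p : ℤ) ∣ c.2.1)
    (t u : F) : Commute (S.x a u) (S.x s t) := by
  have := st_comm_eq S h t u
  rw [st_gword_one S p h fun c hc => ⟨hc, hL c hc⟩] at this
  rw [commute_iff_eq, ← mul_one (S.x s t * _), ← this]; group

theorem co_of_R1 {ok : List ℤ} {b a s : Fin D.nroots} (h : R1 D ok b a s) (ha : (rs D).Pos a) (hs : (rs D).Pos s)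
    (has : a ≠ s) : (rs D).cf b = (rs D).cf a + (rs D).cf s ∧ ∃ e ∈ ok, ∀ t, Co (rg S) b
      (((rg S).x a t)⁻¹ * ((rg S).x s 1)⁻¹ * (rg S).x a t * (rg S).x s 1) (-e * t) := by
  obtain ⟨⟨e, he, h1⟩, h2⟩ := h
  obtain ⟨L, hL⟩ := List.head?_eq_some_iff.1 h1
  have h3 := (Chev.commTerms_sound s.2 a.2 (c := (b, e, 1, 1)) (by simp [hL])).2.2.2
  have h4 : (rs D).cf b = (rs D).cf a + (rs D).cf s := funext fun j => by simpa [rs_cf, add_comm] using h3 j j.2
  refine ⟨h4, e, he, fun t => ?_⟩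
  rw [Co, rg_x, rg_x, rg_x, st_comm_eq S ⟨s.2, a.2, fun e => has (Fin.ext e),
    fun e => (rs D).ne_neg_of_pos hs ha (Fin.ext e)⟩, hL, List.map_cons, H40.gword_cons]
  simp only [pow_one, mul_neg, mul_one, neg_mul, inv_mul_cancel_left]
  refine H40.gword_mem S fun q hq => ?_
  obtain ⟨c, hc, rfl⟩ := List.mem_map.1 hq
  obtain ⟨h5, -, h7, h8, h9⟩ := comb_of_term (a := a) (s := s) (c := c) (by simp [hL, hc])
  have h10 : (rs D).ht b < (rs D).ht ⟨c.1, h5⟩ := by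
    have := (rs D).ht_pos ha
    have := (rs D).ht_pos hs
    have h8' : (1 : ℤ) ≤ c.2.2.1 := by exact_mod_cast h8
    have h9' : (1 : ℤ) ≤ c.2.2.2 := by exact_mod_cast h9
    have h10 : (3 : ℤ) ≤ c.2.2.1 + c.2.2.2 := by exact_mod_cast h2 c (by simp [hL, hc])
    rw [h7, ht_cf h4]
    nlinarith
  exact (rg S).x_mem (r := ⟨c.1, h5⟩) (And.intro (by rintro rfl; exact lt_irrefl _ h10) h10.le) _

theorem exists_sl2 {r : ℕ} (hr : r < D.nroots) : ∃ φ : Matrix.SpecialLinearGroup (Fin 2) F →* G,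
    (∀ t, φ (H90.xu t) = S.x r t) ∧ (∀ t, φ (H90.xl t) = S.x (D.neg r) t) ∧ φ (-1) = S.h r (-1) := by
  obtain ⟨φ, h1, h2, -⟩ := S.exists_sl2Hom hr
  refine ⟨φ, h1, h2, ?_⟩
  rw [H40.h_def, H40.n_def, ← h1, ← h2, ← map_mul, ← map_mul, ← map_mul]
  congr 1
  ext i j
  fin_cases i <;> fin_cases j <;> simp

variable {S} {M : Subgroup G}

theorem mem_refl {q s : ℕ} (hq : q < D.nroots) (hs : s < D.nroots) (hn : S.n q 1 ∈ M) {u : F} (h : S.x s u ∈ M) :
    S.x (refl D q s) u ∈ M := by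
  have := mul_mem (mul_mem hn h) (inv_mem hn)
  rw [H40.n_conj' S hq hs one_ne_zero] at this
  rcases Chev.eta_eq_or hq hs with e | e <;> simp only [e, one_zpow, Int.cast_one, Int.cast_neg, one_mul, neg_mul] at this
  · exact this
  · rwa [← H40.x_inv S (Chev.refl_lt hq hs), inv_mem_iff] at this

omit [Chev D] in
theorem n_mem_of {q : ℕ} {t : F} (h1 : S.x q t ∈ M) (h2 : S.x (D.neg q) (-t⁻¹) ∈ M) : S.n q t ∈ M :=
  H40.n_def S q t ▸ mul_mem (mul_mem h1 h2) h1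

variable (S M) in
/-- the parameters of the root elements in a subgroup -/
def par {r : ℕ} (hr : r < D.nroots) : AddSubgroup F where
  carrier := {t | S.x r t ∈ M}
  add_mem' ha hb := show S.x r _ ∈ M from S.x_add r hr _ _ ▸ mul_mem ha hb
  zero_mem' := show S.x r _ ∈ M from H40.x_zero S hr ▸ one_mem _
  neg_mem' ha := show S.x r _ ∈ M from H40.x_inv S hr _ ▸ inv_mem ha

variable {φ : F →+* F} (hx : ∀ r < D.nroots, ∀ t, φ t = t → S.x r t ∈ M)
include hx

theorem n_one_mem {q : ℕ} (hq : q < D.nroots) : S.n q 1 ∈ M :=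
  n_mem_of (hx q hq _ (by simp)) (hx _ (Chev.neg_lt hq) _ (by simp))

theorem all_refl {q s : ℕ} (hq : q < D.nroots) (hs : s < D.nroots) (h : ∀ t, S.x s t ∈ M) (t : F) :
    S.x (refl D q s) t ∈ M := mem_refl hq hs (n_one_mem hx hq) (h t)

theorem all_torus {q s : ℕ} (hq : q < D.nroots) (hs : s < D.nroots) (h : ∀ t, S.x q t ∈ M)
    (h' : ∀ t : F, t ≠ 0 → ∃ c, c ≠ 0 ∧ c ^ D.pairing q s = t) (t : F) : S.x s t ∈ M := by
  by_cases ht : t = 0
  · exact hx s hs t (by simp [ht])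
  obtain ⟨c, hc, rfl⟩ := h' t ht
  have h1 := refl_self D q ▸ all_refl hx hq hq h
  have h2 : S.h q c ∈ M := H40.h_def S q c ▸ mul_mem (n_mem_of (h _) (h1 _)) (n_mem_of (h _) (h1 _))
  simpa [H40.h_conj S hq hs hc] using mul_mem (mul_mem h2 (hx s hs 1 (map_one _))) (inv_mem h2)

theorem all_torus_one {q s : ℕ} (hq : q < D.nroots) (hs : s < D.nroots) (h : ∀ t, S.x q t ∈ M)
    (h' : D.pairing q s ∈ [1, -1]) : ∀ t, S.x s t ∈ M := by
  refine all_torus hx hq hs h fun t ht => ?_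
  simp only [List.mem_cons, List.not_mem_nil, or_false] at h'
  rcases h' with e | e <;> rw [e]
  exacts [⟨t, ht, by simp⟩, ⟨t⁻¹, by simpa, by simp⟩]

theorem all_torus_p [Finite F] (p : ℕ) [Fact p.Prime] [CharP F p] {q s : ℕ} (hq : q < D.nroots) (hs : s < D.nroots)
    (h : ∀ t, S.x q t ∈ M) (h' : D.pairing q s = p) : ∀ t, S.x s t ∈ M := by
  refine all_torus hx hq hs h fun t ht => ?_
  obtain ⟨c, rfl⟩ := surjective_frobenius F p t
  exact ⟨c, by simpa using ht, by rw [h', zpow_natCast, frobenius_def]⟩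

omit hx in
/-- every fundamental root is reached from the highest root -/
def GenOK (D : ChevalleyDatum) : Prop := ∀ i < D.rank, D.pairing (D.nroots - 1) (D.simple i) ∈ [1, -1] ∨
  ∃ q < D.nroots, refl D q (D.nroots - 1) = D.simple i ∨
    (D.pairing (D.nroots - 1) q ∈ [1, -1] ∧ D.pairing q (D.simple i) ∈ [1, -1])

omit hx in
instance decGenOK (D : ChevalleyDatum) : Decidable (GenOK D) := by unfold GenOK; infer_instance

theorem grp_le_of_top (hD : GenOK D) (h : ∀ t, S.x (D.nroots - 1) t ∈ M) : (rg S).grp ≤ M := by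
  have h0 : D.nroots - 1 < D.nroots := (top D).2
  have h1 : ∀ i < D.rank, ∀ t, S.x (D.simple i) t ∈ M := fun i hi => by
    have := Chev.simple_lt i hi
    rcases hD i hi with h2 | ⟨q, hq, h2 | ⟨h2, h3⟩⟩
    exacts [all_torus_one hx h0 this h h2, h2 ▸ all_refl hx hq h0 h,
      all_torus_one hx hq this (all_torus_one hx h0 hq h h2) h3]
  rw [RG.grp_eq_simple, RG0.US_le]
  rintro _ ⟨i, rfl | rfl⟩ t
  · exact h1 i i.2 t
  · exact (refl_self D _ ▸ all_refl hx (Chev.simple_lt _ i.2) (Chev.simple_lt _ i.2) (h1 i i.2) t :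
      S.x (D.neg (D.simple i)) t ∈ M)

variable (hR : ∀ R : Subring F, (∀ t, φ t = t → t ∈ R) → (∃ t ∈ R, φ t ≠ t) → R = ⊤)
include hR

omit [Chev D] in
theorem all_of_mul {k : ℕ} (hk : k < D.nroots) {e : F} (he : e ≠ 0) (he' : φ e = e)
    (h : ∀ t u, S.x k t ∈ M → S.x k u ∈ M → S.x k (e * t * u) ∈ M) {t : F} (ht : φ t ≠ t) (htM : S.x k t ∈ M) (c : F) :
    S.x k c ∈ M := by
  have h1 : ∀ c, φ c = c → ∀ a ∈ par S M hk, c * a ∈ par S M hk := fun c hc a ha => by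
    have := h (e⁻¹ * c) a (hx k hk _ (by simp [he', hc])) ha
    rwa [mul_inv_cancel_left₀ he] at this
  have := mul_mem_of_ring hR (par S M hk) h1 ht (fun a ha => by
    have := h1 e⁻¹ (by simp [he']) _ (h t a htM ha)
    rwa [mul_assoc, inv_mul_cancel_left₀ he] at this) c 1 (hx k hk 1 (map_one _))
  rwa [mul_one] at this

theorem all_of_ring (p : ℕ) [CharP F p] {a b k : ℕ} {e : ℤ} (h : Gen2 D a b) (hk : k < D.nroots) (he : (e : F) ≠ 0)
    (h1 : (D.commTerms a b).head? = some (k, e, 1, 1)) (h2 : ∀ c ∈ (D.commTerms a b).tail, (p : ℤ) ∣ c.2.1)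
    (h3 : refl D a k = b) (h4 : refl D b k = a) {t : F} (ht : φ t ≠ t) (htM : S.x k t ∈ M) : ∀ c, S.x k c ∈ M := by
  obtain ⟨L, hL⟩ := List.head?_eq_some_iff.1 h1
  refine all_of_mul hx hR hk (neg_ne_zero.2 he) (by simp) (fun t u ht hu => ?_) ht htM
  have h5 := h4 ▸ mem_refl h.2.1 hk (n_one_mem hx h.2.1) ht
  have h6 := h3 ▸ mem_refl h.1 hk (n_one_mem hx h.1) hu
  have := mul_mem (mul_mem (mul_mem (inv_mem h6) (inv_mem h5)) h6) h5
  rw [st_comm_eq S h, hL, List.map_cons, H40.gword_cons,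
    st_gword_one S p h fun c hc => ⟨by simp [hL, hc], h2 c (by simp [hL, hc])⟩] at this
  simpa using this

omit hx hR in
/-- the roots `a`, `b`, `s = a + b`, `l = 2a + b` of a subsystem of type `B₂` -/
def B2OK (D : ChevalleyDatum) (a b s l : ℕ) : Prop :=
  Gen2 D a b ∧ Gen2 D a s ∧ Gen2 D l a ∧ Gen2 D l s ∧ Gen2 D l b ∧ Gen2 D s b ∧
  D.commTerms l a = [] ∧ D.commTerms l s = [] ∧ D.commTerms l b = [] ∧ D.commTerms s b = [] ∧
  (∃ e ∈ [1, -1], ∃ e' ∈ [1, -1], D.commTerms a b = [(s, e, 1, 1), (l, e', 2, 1)]) ∧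
  (∃ e ∈ [2, -2], D.commTerms a s = [(l, e, 1, 1)]) ∧
  refl D b s = a ∧ refl D b l = l ∧ refl D a s = s ∧ refl D a l = b ∧ D.pairing s l = 2

omit hx hR in
instance decB2OK (D : ChevalleyDatum) (a b s l : ℕ) : Decidable (B2OK D a b s l) := by unfold B2OK; infer_instance

theorem all_of_B2_odd (h2 : (2 : F) ≠ 0) {a b s l : ℕ} (h : B2OK D a b s l) {t : F} (ht : φ t ≠ t)
    (htM : S.x l t ∈ M) (c : F) : S.x l c ∈ M := by
  obtain ⟨hab, has, ⟨hl, ha, -⟩, ⟨-, hs, -⟩, ⟨-, hb, -⟩, -, -, -, -, -, ⟨e, he, e', he', h3⟩, ⟨f, hf, h4⟩, h5, -, -,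
    h6, -⟩ := h
  have h7 : ∀ t, S.x l t ∈ M → S.x s t ∈ M := fun t ht => by
    have h8 := h6 ▸ mem_refl ha hl (n_one_mem hx ha) ht
    have h9 := hx a ha 1 (map_one _)
    have := mul_mem (mul_mem (mul_mem (inv_mem h8) (inv_mem h9)) h8) h9
    rw [st_comm_eq S hab, h3] at this
    have h10 : ∀ e ∈ ([1, -1] : List ℤ), ∀ {r} (hr : r < D.nroots), S.x r (e * t) ∈ M ↔ S.x r t ∈ M := fun e he r hr => by
      simp only [List.mem_cons, List.not_mem_nil, or_false] at he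
      rcases he with rfl | rfl <;> simp [← H40.x_inv S hr]
    simp only [gword, List.map_cons, List.map_nil, List.prod_cons, List.prod_nil, mul_one, pow_one, even_two,
      Even.neg_pow, one_pow, mul_neg, neg_mul] at this
    rwa [mul_mem_cancel_right ((h10 _ he' hl).2 ht), ← H40.x_inv S hs, inv_mem_iff, h10 _ he hs] at this
  have h8 : ∀ t u, S.x s t ∈ M → S.x s u ∈ M → S.x l (-f * t * u) ∈ M := fun t u ht hu => by
    have h8 := h5 ▸ mem_refl hb hs (n_one_mem hx hb) ht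
    have := mul_mem (mul_mem (mul_mem (inv_mem hu) (inv_mem h8)) hu) h8
    rw [st_comm_eq S has, h4] at this
    simpa [gword] using this
  have h9 : (-f : F) ≠ 0 := by
    simp only [List.mem_cons, List.not_mem_nil, or_false] at hf
    rcases hf with rfl | rfl <;> simpa using h2
  have := h8 ((-f : F)⁻¹ * c) 1 (all_of_mul hx hR hs h9 (by simp) (fun t u ht hu => h7 _ (h8 t u ht hu)) ht
    (h7 t htM) _) (hx s hs 1 (map_one _))
  rwa [mul_one, mul_inv_cancel_left₀ h9] at this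

theorem all_of_B2_two [Finite F] [CharP F 2] (h0 : ∃ t, φ t ≠ t) {a b s l : ℕ} (h : B2OK D a b s l) {t t' : F}
    (ht : φ t ≠ t ∨ φ t' ≠ t') (htM : S.x s t * S.x l t' ∈ M) (c : F) : S.x l c ∈ M := by
  obtain ⟨hab, has, hla, hls, hlb, hsb, e1, e2, e3, e4, ⟨e, he, e', he', h3⟩, ⟨f, hf, h4⟩, h5, h6, h7, h8, -⟩ := h
  have hl := hla.1
  have ha := hab.1
  have hb := hab.2.1
  have hs := has.2.1
  have hpm : ∀ e ∈ ([1, -1] : List ℤ), (e : F) = 1 := fun e he => by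
    simp only [List.mem_cons, List.not_mem_nil, or_false] at he
    rcases he with rfl | rfl <;> simp [CharTwo.neg_eq]
  have heta : ∀ {q r}, q < D.nroots → r < D.nroots → ∀ u, S.n q 1 * S.x r u * (S.n q 1)⁻¹ = S.x (refl D q r) u :=
    fun hq hr u => by
      rw [H40.n_conj' S hq hr one_ne_zero, hpm _ (by simpa using Chev.eta_eq_or hq hr)]; simp
  have c1 := st_commute S 2 hla (by simp [e1])
  have c2 := st_commute S 2 hls (by simp [e2])
  have c3 := st_commute S 2 hlb (by simp [e3])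
  have c4 := st_commute S 2 hsb (by simp [e4])
  have c5 := st_commute S 2 has (by
    simp only [List.mem_cons, List.not_mem_nil, or_false] at hf
    rcases hf with rfl | rfl <;> simp [h4])
  have key : ∀ t t' u u', S.x s t * S.x l t' ∈ M → S.x s u * S.x l u' ∈ M →
      S.x s (t * u') * S.x l (t ^ 2 * u') ∈ M := fun t t' u u' h1 h2 => by
    have h9 : S.x a t * S.x l t' ∈ M := by
      simpa [← conj_mul, heta hb hs, heta hb hl, h5, h6] using
        mul_mem (mul_mem (n_one_mem hx hb) h1) (inv_mem (n_one_mem hx hb))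
    have h10 : S.x s u * S.x b u' ∈ M := by
      simpa [← conj_mul, heta ha hs, heta ha hl, h7, h8] using
        mul_mem (mul_mem (n_one_mem hx ha) h2) (inv_mem (n_one_mem hx ha))
    have h11 := st_comm_eq S hab t u'
    simp only [h3, gword, List.map_cons, List.map_nil, List.prod_cons, List.prod_nil, mul_one, pow_one, hpm e he,
      hpm e' he', CharTwo.neg_eq, one_mul] at h11
    have := mul_mem (mul_mem (mul_mem (inv_mem h10) (inv_mem h9)) h10) h9
    have h12 := ((((c1 t' t).inv_left.mul_left (c2 t' u)).mul_left (c3 t' u')).mul_left (c1 t' t)).eq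
    rw [← h11]
    convert this using 1
    calc _ = (S.x b u')⁻¹ * (S.x s u)⁻¹ * (S.x l t')⁻¹ * (S.x l t' * (S.x s u * (S.x a t)⁻¹ * S.x b u' * S.x a t)) := by
          group
      _ = _ := by rw [(c5 t u).inv_right.eq, ← h12]; group
  have hadd : ∀ {t t' u u'}, S.x s t * S.x l t' ∈ M → S.x s u * S.x l u' ∈ M →
      S.x s (t + u) * S.x l (t' + u') ∈ M := fun {t t' u u'} h1 h2 => by
    rw [← S.x_add s hs, ← S.x_add l hl, ← (c2 t' u).symm.mul_mul_mul_comm]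
    exact mul_mem h1 h2
  let A : AddSubgroup F :=
    { carrier := {t | ∃ t', S.x s t * S.x l t' ∈ M}
      add_mem' := fun ⟨_, h1⟩ ⟨_, h2⟩ => ⟨_, hadd h1 h2⟩
      zero_mem' := ⟨0, mul_mem (hx s hs 0 (map_zero _)) (hx l hl 0 (map_zero _))⟩
      neg_mem' := fun {x} h => by rwa [CharTwo.neg_eq x] }
  have h9 : ∀ u u', S.x s u * S.x l u' ∈ M → ∀ a ∈ A, u' * a ∈ A := fun u u' h1 a ⟨_, h2⟩ =>
    ⟨_, mul_comm a u' ▸ key _ _ _ _ h2 h1⟩
  have h10 := fun t' (h : φ t' = t') => mul_mem (hx s hs 0 (map_zero _)) (hx l hl t' h)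
  obtain ⟨u, u', h11, h12⟩ : ∃ u u', S.x s u * S.x l u' ∈ M ∧ φ u' ≠ u' := by
    rcases ht with ht | ht
    · refine ⟨_, _, key _ _ _ _ htM (h10 1 (map_one _)), fun e => ht (frobenius_inj F 2 ?_)⟩
      simpa [frobenius_def] using e
    · exact ⟨_, _, htM, ht⟩
  have h13 : ∀ c, ∃ c', S.x s c * S.x l c' ∈ M := fun c => by
    have := mul_mem_of_ring hR A (fun c hc => h9 _ _ (h10 c hc)) h12 (h9 _ _ h11) c 1
      ⟨0, mul_mem (hx s hs 1 (map_one _)) (hx l hl 0 (map_zero _))⟩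
    rwa [mul_one] at this
  have h14 : ∀ t u, S.x s (t * u) * S.x l (t ^ 2 * u) ∈ M := fun t u => by
    obtain ⟨v, rfl⟩ := surjective_frobenius F 2 u
    obtain ⟨_, h1⟩ := h13 t
    obtain ⟨_, h2⟩ := h13 v
    simpa [frobenius_def] using key _ _ _ _ h1 (key _ _ _ _ h2 (h10 1 (map_one _)))
  obtain ⟨d, hd⟩ := h0
  have h15 : d ^ 2 + d ≠ 0 := fun e => by
    rcases mul_eq_zero.1 (show d * (d + 1) = 0 by linear_combination e) with e | e
    · simp [e] at hd
    · simp [eq_neg_of_add_eq_zero_left e] at hd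
  have := hadd (h14 d (c / (d ^ 2 + d))) (h14 1 (d * (c / (d ^ 2 + d))))
  rwa [one_mul, CharTwo.add_self_eq_zero, H40.x_zero S hs, one_mul, one_pow, one_mul, ← add_mul,
    mul_div_cancel₀ _ h15] at this

end Cfsg.Agent.H33
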