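import Cfsg.Agent.H33.SubA

/-! Overgroups of the subgroup of rational points in a twisted group. -/

set_option autoImplicit false

namespace Cfsg.Agent.H33

open Cfsg.Agent.H38 Cfsg.Agent.H64

variable {ι R : Type} [Fintype ι] [DecidableEq ι]
variable {P : RS ι R} {F : Type*} [Field F] {G : Type*} [Group G] {X : RG P F G}

theorem Co.inv {a : R} (ha : P.Pos a) {y : G} {t : F} (h : Co X a y t) : Co X a y⁻¹ (-t) := by
  have := coK_conj ha (inv_mem (X.x_mem_U ha t)) (inv_mem h)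
  rw [Co, X.x_neg]
  simpa [mul_assoc] using this

theorem Co.comm_mul {b : R} (hb : P.Pos b) {y g g' : G} {e e' : F} (hg : g' ∈ X.U)
    (h : Co X b (y⁻¹ * g⁻¹ * y * g) e) (h' : Co X b (y⁻¹ * g'⁻¹ * y * g') e') :
    Co X b (y⁻¹ * (g * g')⁻¹ * y * (g * g')) (e' + e) := by
  convert h'.mul hb (h.conj hb hg) using 1
  group

theorem cl_ge {k : ℤ} (hk : 0 < k) (T : Set R) (hT : ∀ a ∈ T, P.ht a = k) :
    P.Cl (htL ι) {a | a ∉ T ∧ k ≤ P.ht a} := by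
  refine ⟨fun r hr s hs a ha => ?_, fun r hr => hk.trans_le hr.2⟩
  have h1 := ht_comb (P.pos_iff_ht.2 (hk.trans_le hr.2)) (P.pos_iff_ht.2 (hk.trans_le hs.2)) ha
  have h2 := hr.2
  have h3 := hs.2
  exact ⟨fun h => by have := hT a h; omega, by omega⟩

theorem exists_co [Finite R] {a : R} (ha : P.Pos a) {y : G} (hy : y ∈ X.US {b | P.ht a ≤ P.ht b}) :
    ∃ t, Co X a y t := by
  obtain ⟨t, z, hz, rfl⟩ := exists_x_mul X.toRG0 (cl_ge (P.ht_pos ha) ∅ (by simp)) (r := a) (by simp)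
    (X.US_mono (fun b hb => And.intro (by simp) hb) hy)
  exact ⟨t, by rw [Co, inv_mul_cancel_left]; exact X.US_mono (fun b hb => And.intro hb.2 hb.1.2) hz⟩

theorem mem_hi_of_co [Finite R] (hX : X.Faithful) {k : ℤ} (hk : 0 < k) {y : G} (hy : y ∈ X.US {b | k ≤ P.ht b})
    (h : ∀ a, P.ht a = k → Co X a y 0) : y ∈ X.US {b | k < P.ht b} := by
  have key : ∀ T : Set R, T.Finite → (∀ a ∈ T, P.ht a = k) → y ∈ X.US {a | a ∉ T ∧ k ≤ P.ht a} := fun T hT => by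
    induction T, hT using Set.Finite.induction_on with
    | empty => exact fun _ => X.US_mono (fun b hb => And.intro (by simp) hb) hy
    | @insert a T ha _ ih =>
      intro hT
      have h1 := hT a (by simp)
      have h2 : ∀ b ∈ T, P.ht b = k := fun b hb => hT b (by simp [hb])
      obtain ⟨t, z, hz, e⟩ := exists_x_mul X.toRG0 (cl_ge hk T h2) (r := a) ⟨ha, h1.ge⟩ (ih h2)
      have h3 : Co X a y t := by
        rw [Co, e, inv_mul_cancel_left]; exact X.US_mono (fun b hb => And.intro hb.2 (h1 ▸ hb.1.2)) hz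
      rw [e, h3.unique hX (P.pos_iff_ht.2 (h1 ▸ hk)) (h a h1), X.x_zero, one_mul]
      refine X.US_mono (fun b hb => ?_) hz
      exact ⟨fun h => (Set.mem_insert_iff.1 h).elim hb.2 hb.1.1, hb.1.2⟩
  refine X.US_mono (fun b hb => ?_) (key {a | P.ht a = k} (Set.toFinite _) fun _ h => h)
  exact lt_of_le_of_ne hb.2 fun e => hb.1 (Eq.symm e)

namespace SubD

variable (S : SubD X)

/-- the coefficient at `r` is detected by a commutator -/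
def Good (r : R) : Prop := ∃ g ∈ S.G0, g ∈ X.U ∧ ∀ y t, S.μ.σ y = y → Co X r y t →
  y⁻¹ * g⁻¹ * y * g ∈ S.G0 → S.l.φ t = t

/-- a twisting map and the field automorphism belonging to it -/
structure Tw (s₀ : R) : Prop where
  hl : ∀ s t, S.l.σ (X.x s t) = X.x s (S.l.φ t)
  hφ : ∀ t, S.μ.φ t = S.l.φ t
  hc : ∀ s, S.μ.τ s = s → S.μ.c s = 1
  hc' : ∀ s, S.l.φ (S.μ.c s) = S.μ.c s
  pos : P.Pos s₀
  fix : ∀ a, P.ht s₀ < P.ht a → S.μ.τ a = a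
  orb : ∀ a, P.ht a = P.ht s₀ → S.μ.τ.SameCycle s₀ a
  exY : ∀ r t, (S.μ.τ r = r → S.μ.c r * S.μ.φ t = t) → ∃ Y, S.μ.σ Y = Y ∧
    (X.x r t)⁻¹ * Y ∈ X.US {a | a ≠ r ∧ S.μ.τ.SameCycle r a} ∧ (S.l.φ t = t → S.l.σ Y = Y)

/-- the coefficients at `s` of the elements of `M` -/
def parA (M : Subgroup G) {s : R} (hs : P.Pos s) : AddSubgroup F where
  carrier := {t | ∃ y ∈ M, Co X s y t}
  add_mem' := fun ⟨_, h1, h2⟩ ⟨_, h3, h4⟩ => ⟨_, mul_mem h1 h3, h2.mul hs h4⟩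
  zero_mem' := ⟨1, one_mem _, co_zero (one_mem _)⟩
  neg_mem' := fun ⟨_, h1, h2⟩ => ⟨_, inv_mem h1, h2.inv hs⟩

variable {S} {s₀ : R} (h : S.Tw s₀)
include h

theorem Tw.x_mem {s : R} (hs : S.μ.τ s = s) {t : F} (ht : S.l.φ t = t) : X.x s t ∈ S.G0 :=
  ⟨(S.μ.σ_x s t).trans (by rw [hs, h.hc s hs, one_mul, h.hφ, ht]; rfl), (h.hl s t).trans (congrArg _ ht)⟩

theorem Tw.hi_mem {w : G} (hw : w ∈ X.US {a | P.ht s₀ < P.ht a}) (hμ : S.μ.σ w = w) : w ∈ S.G0 := by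
  refine ⟨hμ, Eq.trans ?_ hμ⟩
  clear hμ
  induction hw using RG0.US_induction with
  | h1 => simp
  | hm g _ r hr t ih =>
    rw [map_mul, map_mul, ih, S.μ.σ_x, h.fix r hr, h.hc r (h.fix r hr), one_mul, h.hφ, ← h.hl]; rfl

theorem Tw.good_of_τ {r : R} (hr : S.Good (S.μ.τ r)) : S.Good r := by
  obtain ⟨g, h1, h2, h3⟩ := hr
  refine ⟨g, h1, h2, fun y t hy hco hk => ?_⟩
  have := h3 y _ hy (hy ▸ hco.twist S.μ) hk
  rw [map_mul, h.hc', mul_right_inj' (S.μ.c_ne r), h.hφ] at this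
  exact S.l.φ.injective this

theorem Tw.mem_parA [Finite R] {M : Subgroup G} (h0 : S.G0 ≤ M) {t : F} (ht : S.l.φ t = t) :
    t ∈ parA (X := X) M h.pos := by
  obtain ⟨Y, h6, h7, h8⟩ := h.exY s₀ t fun e => by rw [h.hc _ e, one_mul, h.hφ, ht]
  exact ⟨Y, h0 ⟨h6, h8 ht⟩, X.US_mono (fun a ha => And.intro ha.1 (sameCycle_ind (p := fun a => P.ht s₀ ≤ P.ht a)
    (fun a h => (S.μ.τ_ht a).symm ▸ h) ha.2 le_rfl)) h7⟩

theorem Tw.mul_mem_parA {M : Subgroup G} {k : G} (hk : k ∈ X.H) (hk' : k ∈ M) {c : F}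
    (e : ∀ t, k * X.x s₀ t * k⁻¹ = X.x s₀ (c * t)) : ∀ t ∈ parA (X := X) M h.pos, c * t ∈ parA (X := X) M h.pos := by
  rintro t ⟨y, hy, h1⟩
  refine ⟨_, mul_mem (mul_mem hk' hy) (inv_mem hk'), ?_⟩
  rw [Co, ← e]
  simpa [mul_assoc] using (X.acts_of_mem_H hk).conj_mem (T := {b | b ≠ s₀ ∧ P.ht s₀ ≤ P.ht b}) (fun _ h => h) h1

variable [Fintype R] (hX : X.Faithful)
include hX

omit [Fintype R] in
theorem Tw.good_of_fix {r : R} (hr : P.Pos r) (hr' : S.μ.τ r = r) : S.Good r :=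
  ⟨1, one_mem _, one_mem _, fun y t hy hco _ => by
    have := hco.twist S.μ
    rw [hr', hy, h.hc r hr', one_mul, h.hφ] at this
    exact this.unique hX hr hco⟩

theorem Tw.good_of_comm {r s b : R} (hr : P.Pos r) (hs : P.Pos s) (hb : P.cf b = P.cf r + P.cf s)
    (hB : ∀ s', s' ≠ s → S.μ.τ.SameCycle s s' → ∀ a, P.cf b ≠ P.cf a + P.cf s') {e : F} (he : e ≠ 0)
    (he' : S.l.φ e = e) (hc : ∀ t, Co X b ((X.x r t)⁻¹ * (X.x s 1)⁻¹ * X.x r t * X.x s 1) (e * t)) : S.Good r := by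
  obtain ⟨g, hg, h1⟩ := S.ex s
  have h2 : ∀ a, S.μ.τ.SameCycle s a → P.ht a = P.ht s := fun a ha =>
    sameCycle_ind (p := fun a => P.ht a = P.ht s) (fun a h => (S.μ.τ_ht a).trans h) ha rfl
  refine ⟨g, hg, by simpa using mul_mem (X.x_mem_U hs 1) (X.US_mono (fun a ha => P.pos_iff_ht.2
    (h2 a ha.2 ▸ P.ht_pos hs)) h1), fun y t _ hy hk => ?_⟩
  have := S.fix_of_co hX h.hl (P.pos_iff_ht.2 (by rw [ht_cf hb]; exact add_pos (P.ht_pos hr) (P.ht_pos hs)))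
    (Co.comm hr hs hb (fun a ha => ⟨h2 a ha.2, hB a ha.1 ha.2⟩) h1 hy (hc t)) hk
  simpa [he, he'] using this

theorem Tw.mem_of_co {w : G} (hw : Co X s₀ w 0) (hμ : S.μ.σ w = w) : w ∈ S.G0 :=
  h.hi_mem (mem_hi_of_co hX (P.ht_pos h.pos) hw.mem fun a ha => sameCycle_ind (p := fun a => Co X a w 0)
    (fun a h => by simpa [hμ] using h.twist S.μ) (h.orb a ha) hw) hμ

variable {M : Subgroup G} (h0 : S.G0 ≤ M) (h1 : ∀ g ∈ M, S.μ.σ g = g)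
include h0 h1

theorem Tw.mem_iff {y : G} {t : F} (hy : Co X s₀ y t) (hμ : S.μ.σ y = y) : y ∈ M ↔ t ∈ parA (X := X) M h.pos := by
  refine ⟨fun hy' => ⟨y, hy', hy⟩, fun ⟨z, hz, hz'⟩ => (mul_mem_cancel_left (inv_mem hz)).1 (h0 ?_)⟩
  refine h.mem_of_co hX (by simpa using (hz'.inv h.pos).mul h.pos hy) ?_
  rw [map_mul, map_inv, hμ, h1 z hz]

theorem Tw.transport {d : Equiv.Perm R} (hd : d ∈ P.W) (hd' : ∀ s, d (S.μ.τ s) = S.μ.τ (d s)) {s : R} (hs : d s = s₀)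
    {B : Set R} (hB : ∀ a ∈ B, d a ≠ s₀ ∧ P.ht s₀ ≤ P.ht (d a)) : ∃ c, c ≠ 0 ∧ S.l.φ c = c ∧ ∀ y t, S.μ.σ y = y →
      (X.x s t)⁻¹ * y ∈ X.US B → (y ∈ M ↔ c * t ∈ parA (X := X) M h.pos) := by
  obtain ⟨n, hn, hn'⟩ := S.exists_rep hX hd hd'
  obtain ⟨c, hc, e⟩ := hn'.acts.exists_conj s
  refine ⟨c, hc, ?_, fun y t hμ hy => ?_⟩
  · have := congrArg S.l.σ (e 1)
    rw [map_mul, map_mul, map_inv, (S.mem_G0.1 hn).2, h.hl, map_one, e, h.hl] at this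
    simpa using (hX.x_inj _ this).symm
  · rw [← h.mem_iff hX h0 h1 (y := n * y * n⁻¹) ?_ (by rw [map_mul, map_mul, map_inv, (S.mem_G0.1 hn).1, hμ]),
      mul_mem_cancel_right (inv_mem (h0 hn)), mul_mem_cancel_left (h0 hn)]
    rw [Co, ← hs, ← e]
    simpa [mul_assoc, hs] using hn'.acts.conj_mem hB hy

variable [Fintype F] (p : ℕ) [hp : Fact p.Prime] [CharP F p] [Finite G] [Nonempty ι]

include hp in
theorem Tw.le (hG : X.grp = ⊤) (hP : P.Conn) (hZ : Subgroup.center G = ⊥) {θ β : R}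
    (hθ : ∀ r, P.Pos r → ∀ t u, X.x r t * X.x θ u = X.x θ u * X.x r t) (hβ : β ≠ θ) (h2 : P.ht s₀ < P.ht θ)
    (h3 : P.ht s₀ < P.ht β) (hgood : ∀ r, P.Pos r → P.ht r < P.ht s₀ → S.Good r)
    (hA : ∀ t ∈ parA (X := X) M h.pos, S.l.φ t = t) : M ≤ S.G0 := by
  by_contra hne
  have h4 := P.ht_pos h.pos
  refine S.false_of_tw hX hG hθ p (S.spe hX p hG hP hZ h0 h1 (fun g hg hu => And.right (?_ : g ∈ S.G0)) hne) h0 h1
    (h.x_mem (h.fix _ h2) (map_one _)) hβ fun u hu hu' => h.hi_mem ?_ ?_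
  · refine S.U_le_G0 hX h0 h1 (fun r _ => h.exY r) (Z := {a | P.ht s₀ ≤ P.ht a})
      (fun a ha => le_of_le_of_eq ha (S.μ.τ_ht a).symm)
      (fun a ha => P.pos_iff_ht.2 (h4.trans_le ha)) (fun z hz hz' m hm hm' => h.hi_mem (lev_comm' h4 hm hz)
        (by simp [hz', hm'])) (fun r hr hr' => hgood r hr (not_le.1 hr')) (fun z hz hzM => ?_) hg hu
    obtain ⟨t, ht⟩ := exists_co h.pos hz
    exact (h.mem_iff hX le_rfl (fun _ hg => hg.1) ht (h1 z hzM)).2 (h.mem_parA le_rfl (hA t ⟨z, hzM, ht⟩))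
  · have h5 := X.x_mem (S := {a | P.ht β ≤ P.ht a}) (le_refl (P.ht β)) 1
    have := mul_mem (X.x_mem (S := {a | P.ht s₀ < P.ht a}) h3 1) (X.US_mono (T := {a | P.ht s₀ < P.ht a})
      (fun a ha => h3.trans ha) (lev_comm' (h4.trans h3) (inv_mem hu) h5))
    simpa [mul_assoc] using this
  · rw [map_mul, map_mul, map_inv, hu', (S.mem_G0.1 (h.x_mem (h.fix _ h3) (map_one _))).1]

end SubD

theorem top_of_span {K : Type*} [Field K] {φ : K →+* K}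
    (hR : ∀ R : Subring K, (∀ t, φ t = t → t ∈ R) → (∃ t ∈ R, φ t ≠ t) → R = ⊤) {t : K} (ht : φ t ≠ t) {s : Set K}
    (h1 : 1 ∈ s) (hs : ∀ A : AddSubgroup K, (∀ c, φ c = c → ∀ a ∈ A, c * a ∈ A) → s ⊆ A → ∀ a ∈ s, t * a ∈ A)
    {A : AddSubgroup K} (hA : ∀ c, φ c = c → ∀ a ∈ A, c * a ∈ A) (hA' : s ⊆ A) (c : K) : c ∈ A := by
  have := mul_mem_of_ring hR (sInf {A | (∀ c, φ c = c → ∀ a ∈ A, c * a ∈ A) ∧ s ⊆ A})
    (fun c hc a ha => AddSubgroup.mem_sInf.2 fun A hA => hA.1 c hc a (AddSubgroup.mem_sInf.1 ha A hA)) ht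
    (fun a ha => AddSubgroup.mem_sInf.2 fun A hA => AddSubgroup.mem_sInf.1 ha (A.comap (AddMonoidHom.mulLeft t))
      ⟨fun c hc a ha => show t * (c * a) ∈ A from mul_left_comm c t a ▸ hA.1 c hc _ ha, hs A hA.1 hA.2⟩) c 1
    (AddSubgroup.mem_sInf.2 fun A hA => hA.2 h1)
  exact mul_one c ▸ AddSubgroup.mem_sInf.1 this A ⟨hA, hA'⟩

end Cfsg.Agent.H33
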