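import Cfsg.Agent.H33.SubTw
import Cfsg.Agent.H33.SubCh
import Cfsg.Agent.H38.Closure

/-! Maximality of the subgroups of rational points in the twisted groups of types `E₆` and `D₄`. -/

set_option autoImplicit false

namespace Cfsg.Agent.H33

open Cfsg.Lie Cfsg.Lie.ChevalleyDatum Cfsg.Agent.H37 Cfsg.Agent.H38 Cfsg.Agent.H64 Cfsg.Agent.H40

/-- tables for a diagram symmetry -/
def TwTab (D : ChevalleyDatum) (τ : ℕ → ℕ) (γ : ℕ → ℤ) (s₀ : ℕ) (L : List ℕ) : Prop :=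
  (∀ s < D.nroots, (τ s = s → γ s = 1) ∧ τ (τ (τ s)) ∈ [s, τ s, τ (τ s)] ∧ ∀ a ∈ [τ s, τ (τ s)], a = s ∨ cmR D s a) ∧
  (D.nroots / 2 ≤ s₀ ∧ hN D s₀ < hN D (D.nroots - 1) ∧ hN D s₀ < hN D (D.nroots - 2) ∧
    D.pairing (D.nroots - 1) s₀ = 1) ∧
  (∀ a < D.nroots, (hN D s₀ < hN D a → τ a = a) ∧ (hN D a = hN D s₀ → a ∈ [s₀, τ s₀, τ (τ s₀)])) ∧
  ∀ a < D.nroots, D.nroots / 2 ≤ a → hN D a < hN D s₀ → τ a = a ∨ a ∈ L ∨ ∃ s < D.nroots, D.nroots / 2 ≤ s ∧ a ≠ s ∧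
    ∃ c ∈ (D.commTerms s a).head?, R1 D [1, -1] c.1 a s ∧ ∀ s' ∈ [τ s, τ (τ s)], s' = s ∨
      ∀ k < D.nroots, ∃ i < D.rank, D.cartan i c.1 ≠ D.cartan i k + D.cartan i s'

set_option synthInstance.maxSize 4000 in
instance decTwTab (D : ChevalleyDatum) (τ : ℕ → ℕ) (γ : ℕ → ℤ) (s₀ : ℕ) (L : List ℕ) :
    Decidable (TwTab D τ γ s₀ L) := by unfold TwTab; infer_instance

/-- a symmetric element of the Weyl group that moves an orbit to the orbit of `s₀` -/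
def TrOK (D : ChevalleyDatum) (τ : ℕ → ℕ) (s₀ : ℕ) (W : List ℕ) (s : ℕ) (L : List ℕ) : Prop :=
  (∀ i ∈ W, i < D.rank) ∧ (∀ r < D.nroots, wdN D W (τ r) = τ (wdN D W r)) ∧ s < D.nroots ∧ wdN D W s = s₀ ∧
    ∀ a ∈ L, a < D.nroots ∧ wdN D W a ≠ s₀ ∧ hN D s₀ ≤ hN D (wdN D W a)

instance decTrOK (D : ChevalleyDatum) (τ : ℕ → ℕ) (s₀ : ℕ) (W : List ℕ) (s : ℕ) (L : List ℕ) :
    Decidable (TrOK D τ s₀ W s L) := by unfold TrOK; infer_instance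

theorem twTab_E6 : TwTab chevE6 tauE6 gamE6 68 [] := by decide +kernel
theorem twTab_D4 : TwTab chevD4 tauD4 gamD4 17 [15, 16, 19] := by decide +kernel

variable {D : ChevalleyDatum} [Chev D] (hD : IsChev D) {F : Type*} [Field F] {G : Type*} [Group G] {S : StRel D F G}
  {τ : ℕ → ℕ} {γ : ℕ → ℤ} {s₀ : Fin D.nroots} {L : List ℕ} (hT : TwTab D τ γ s₀ L) (hX : (rg S).Faithful)

theorem ne_add_of_cartan {b s : Fin D.nroots} (h : ∀ k < D.nroots, ∃ i < D.rank,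
    D.cartan i b ≠ D.cartan i k + D.cartan i s) (a : Fin D.nroots) : (rs D).cf b ≠ (rs D).cf a + (rs D).cf s := fun e => by
  obtain ⟨i, hi, h⟩ := h a a.2
  simpa [rs_A, h] using (rs D).A_of_cf (k := b) (r := a) (s := s) (a := 1) (b := 1) (by simpa using e) ⟨i, hi⟩

include hT in
theorem mem_of_sameCycle {ρ : Equiv.Perm (Fin D.nroots)} (hρ : ∀ s, (ρ s : ℕ) = τ s) {s a : Fin D.nroots}
    (h : ρ.SameCycle s a) : a = s ∨ a.1 ∈ [τ s, τ (τ s)] := by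
  have := sameCycle_ind (p := fun a : Fin D.nroots => a.1 ∈ [s.1, τ s, τ (τ s)]) (fun a ha => by
    have := (hT.1 s s.2).2.1
    simp only [List.mem_cons, List.not_mem_nil, or_false, hρ] at *
    rcases ha with h | h | h <;> simp [h, this]) h (by simp)
  rwa [List.mem_cons, Fin.val_inj] at this

include hD hT hX in
theorem exists_subD (hG : (rg S).grp = ⊤) {r : ℕ} (hr : r.Prime) (T : TwR (rg S) r) {l : MulAut G} {φ : F →+* F}
    (hl : ∀ r < D.nroots, ∀ t, l (S.x r t) = S.x r (φ t)) (hτ : ∀ s < D.nroots, τ s < D.nroots)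
    (hμ : ∀ s < D.nroots, ∀ t, T.σ (S.x s t) = S.x (τ s) (γ s * φ t)) :
    ∃ A : SubD (rg S), A.μ.σ = T.σ ∧ A.l.σ = l ∧ A.l.φ = φ ∧ (∀ s, (A.μ.τ s : ℕ) = τ s) ∧ A.Tw s₀ := by
  have e : ∀ s t, (rg S).x (T.τ s) (T.c s * T.φ t) = (rg S).x ⟨_, hτ s s.2⟩ (γ s * φ t) := fun s t =>
    (T.σ_x s t).symm.trans (hμ s s.2 t)
  have h1 : ∀ s, T.τ s = ⟨_, hτ s s.2⟩ := fun s => eq_of_x_eq hX (by simpa using T.c_ne s) (e s 1)
  have h1' : ∀ s, (T.τ s : ℕ) = τ s := fun s => congrArg Fin.val (h1 s)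
  simp only [← h1] at e
  have h2 : ∀ s, T.c s = γ s := fun s => by simpa using hX.x_inj _ (e s 1)
  have h3 : ∀ t, T.φ t = φ t := fun t => mul_left_cancel₀ (T.c_ne s₀) ((hX.x_inj _ (e s₀ t)).trans (by rw [h2]))
  have h4 : ∀ g, T.σ (l g) = l (T.σ g) := fun g => by
    have hg : g ∈ (rg S).grp := hG ▸ trivial
    induction hg using RG0.US_induction with
    | h1 => simp
    | hm g _ s _ t ih => simp [ih, rg_x, hl s s.2, hμ s s.2, hl _ (hτ s s.2)]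
  have h5 : ∀ s, T.τ s = s → T.c s = 1 := fun s hs => by
    rw [h2, (hT.1 s s.2).1 ((h1' s).symm.trans (congrArg Fin.val hs)), Int.cast_one]
  have h6 := fun s => T.exists_orb hX hr (s := s) fun a ha t u => by
    rcases mem_of_sameCycle hT h1' ha with rfl | h
    · exact (rg S).x_comm _ _ _
    rcases (hT.1 s s.2).2.2 a h with h | h
    · rw [show a = s from Fin.ext h]; exact (rg S).x_comm _ _ _
    · exact H40.x_commute S h.1 h.2.1 h.2.2.1 h.2.2.2.1 h.2.2.2.2 t u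
  refine ⟨⟨T.toTwist, fTw hl, h4, fun s => ?_⟩, rfl, rfl, rfl, h1', fun s t => hl s s.2 t, h3, h5,
    fun s => (congrArg φ (h2 s)).trans ((map_intCast φ _).trans (h2 s).symm), (rs_pos_iff _).2 hT.2.1.1,
    fun a ha => Fin.ext ((h1' a).trans ((hT.2.2.1 a a.2).1 (by simpa only [ht_eq_hN hD] using ha))), fun a ha => ?_,
    fun s t ht => ?_⟩
  · obtain ⟨Y, h7, h8, h9⟩ := h6 s 1 fun hs => by rw [h5 s hs, map_one, one_mul]
    exact ⟨Y, ⟨h7, h9 l h4 ((hl s s.2 1).trans (by rw [map_one]; rfl))⟩, h8⟩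
  · have := (hT.2.2.1 a a.2).2 (by simpa only [ht_eq_hN hD] using ha)
    simp only [List.mem_cons, List.not_mem_nil, or_false, ← h1', Fin.val_inj] at this
    rcases this with rfl | rfl | rfl
    exacts [Equiv.Perm.SameCycle.rfl, ⟨1, rfl⟩, ⟨2, rfl⟩]
  · obtain ⟨Y, h7, h8, h9⟩ := h6 s t ht
    exact ⟨Y, h7, h8, fun h => h9 l h4 ((hl s s.2 t).trans (congrArg _ h))⟩

variable {A : SubD (rg S)} (hρ : ∀ s, (A.μ.τ s : ℕ) = τ s) (h : A.Tw s₀) {M : Subgroup G} (h0 : A.G0 ≤ M)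
include hD hT hX h h0

omit hX in
theorem parA_mul (c : F) (hc : A.l.φ c = c) : ∀ t ∈ SubD.parA (X := rg S) M h.pos,
    c * t ∈ SubD.parA (X := rg S) M h.pos := by
  by_cases hc0 : c = 0
  · simp [hc0]
  have h1 := h.fix (top D) (by simpa only [ht_eq_hN hD, top_val] using hT.2.1.2.1)
  have h2 : ∀ c, A.l.φ c = c → S.n (top D) c ∈ M := fun c hc => n_mem_of (h0 (h.x_mem h1 hc))
    (h0 (h.x_mem (s := (rs D).neg (top D)) (by rw [A.μ.τ_neg, h1]) (by simp [hc])))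
  refine h.mul_mem_parA ((rg S).h_mem_H (top D) hc0) ?_ fun t => ?_
  · rw [rg_h, H40.h_def]; exact mul_mem (h2 c hc) (h2 _ (by simp))
  · rw [rg_h, rg_x, H40.h_conj S (top D).2 s₀.2 hc0, top_val, hT.2.1.2.2.2, zpow_one]; rfl

variable (h1 : ∀ g ∈ M, A.μ.σ g = g)
include hρ h1

theorem mem_iff_of_tr {W : List ℕ} {s : ℕ} {B : List ℕ} (hW : TrOK D τ s₀ W s B) {t : F} {w : List (ℕ × F)}
    (hw : w.map Prod.fst = B) (hy : A.μ.σ (gword S.x ((s, t) :: w)) = gword S.x ((s, t) :: w)) :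
    gword S.x ((s, t) :: w) ∈ M ↔ t ∈ SubD.parA (X := rg S) M h.pos := by
  obtain ⟨h2, h3, h4, h5, h6⟩ := hW
  obtain ⟨c, hc, hc', h7⟩ := h.transport hX h0 h1 ((rs D).wd_mem_W (finW D W))
    (fun a => Fin.ext (by rw [wd_finW h2, hρ, hρ, wd_finW h2, h3 a a.2])) (s := ⟨s, h4⟩)
    (Fin.ext ((wd_finW h2 _).trans h5)) (B := {a | a.1 ∈ B}) fun a ha =>
      ⟨fun e => (h6 a ha).2.1 (by rw [← wd_finW h2, e]), by simpa only [ht_eq_hN hD, wd_finW h2] using (h6 a ha).2.2⟩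
  rw [h7 _ t hy (by
    rw [H40.gword_cons, rg_x, inv_mul_cancel_left]
    refine H40.gword_mem S fun q hq => ?_
    have : q.1 ∈ B := hw ▸ List.mem_map_of_mem hq
    exact (rg S).x_mem (r := ⟨q.1, (h6 _ this).1⟩) this _)]
  exact ⟨fun h8 => by simpa [hc] using parA_mul hD hT h h0 c⁻¹ (by simp [hc']) _ h8, parA_mul hD hT h h0 c hc' t⟩

theorem tw_le [Fintype F] (p : ℕ) [Fact p.Prime] [CharP F p] [Finite G] (hG : (rg S).grp = ⊤)
    (hZ : Subgroup.center G = ⊥) (hL : ∀ a : Fin D.nroots, a.1 ∈ L → A.Good a)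
    (hA : ∀ t ∈ SubD.parA (X := rg S) M h.pos, A.l.φ t = t) : M ≤ A.G0 := by
  have : Nonempty (Fin D.rank) := ⟨⟨0, by have := Chev.two_le_rank (D := D); omega⟩⟩
  have h2 : D.nroots - 2 < D.nroots := by have := nroots_pos (D := D); omega
  refine h.le hX h0 h1 p hG (rs_conn hD) hZ (x_comm_top (rg S).toRG0) (β := ⟨_, h2⟩) (fun e => ?_)
    (by simpa only [ht_eq_hN hD, top_val] using hT.2.1.2.1) (by simpa only [ht_eq_hN hD] using hT.2.1.2.2.1)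
    (fun a ha ha' => ?_) hA
  · have : D.nroots - 2 = D.nroots - 1 := congrArg Fin.val e
    have := Chev.two_mul_half (D := D)
    omega
  rcases hT.2.2.2 a a.2 ((rs_pos_iff a).1 ha) (by simpa only [ht_eq_hN hD] using ha') with
    h3 | h3 | ⟨s, hs, hs', h3, c, hc, h4, h5⟩
  · exact h.good_of_fix hX ha (Fin.ext ((hρ a).trans h3))
  · exact hL a h3
  have h6 := (Chev.commTerms_sound hs a.2 (List.mem_of_mem_head? hc)).1
  have h7 : (rs D).Pos ⟨s, hs⟩ := (rs_pos_iff _).2 hs'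
  obtain ⟨h8, e, he, h9⟩ := co_of_R1 S (b := ⟨_, h6⟩) (s := ⟨s, hs⟩) h4 ha h7 fun e => h3 (congrArg Fin.val e)
  refine h.good_of_comm hX ha h7 h8 (fun s' h10 h11 => ne_add_of_cartan ((h5 s' ((mem_of_sameCycle hT hρ
    h11).resolve_left h10)).resolve_left fun e => h10 (Fin.ext e))) (e := -e) ?_ (by simp) h9
  simp only [List.mem_cons, List.not_mem_nil, or_false] at he
  rcases he with rfl | rfl <;> simp

omit hT hX h h0 h1 hρ in
theorem tw_max [Fintype F] (p : ℕ) [Fact p.Prime] [CharP F p] {I : Type} {C : TwC D I} (T : TwD (matRel hD F) C)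
    {φ : F →+* F} (he : T.e = fun _ => φ) {r : ℕ} (hr : r.Prime) (T' : TwR (mgs hD F) r)
    (hT' : ∀ g, (T'.σ g : GL D.Idx F) = T.σ g) (hφ : ∃ t, φ t ≠ t) (hT : TwTab D C.τ C.γ s₀ L) (hs₀ : C.τ s₀ ≠ s₀)
    (hO : ∀ j, OrbJ C j) (W W' : I → List ℕ) (hW : ∀ j, (C.word j).tail = [] ∨
      (TrOK D C.τ s₀ (W j) (D.simple (C.word j).headI) ((C.word j).tail.map D.simple) ∧
      TrOK D C.τ s₀ (W' j) (D.neg (D.simple (C.word j).headI)) (((C.word j).tail.map D.simple).map D.neg)))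
    (hF : T.mt.Fix ≤ T.mt.G0) (hA : ∀ A : SubD (rg (ss F hD)), A.l.φ = φ →
      (∀ s < D.nroots, ∀ t, A.μ.σ ((ss F hD).x s t) = (ss F hD).x (C.τ s) (C.γ s * φ t)) →
      (∀ s, (A.μ.τ s : ℕ) = C.τ s) → ∀ h : A.Tw s₀, (∀ a : Fin D.nroots, a.1 ∈ L → A.Good a) ∧ ∀ M, A.G0 ≤ M →
        (∀ g ∈ M, A.μ.σ g = g) → ∀ t ∈ SubD.parA (X := rg (ss F hD)) M h.pos, φ t ≠ t →
          ∀ c, c ∈ SubD.parA (X := rg (ss F hD)) M h.pos) {M : Subgroup (GL D.Idx F)}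
    (hM : ∀ g, g ∈ M ↔ g ∈ T.mt.Fix ∧ ∀ i j, φ ((g : Matrix D.Idx D.Idx F) i j) = (g : Matrix D.Idx D.Idx F) i j) :
    M ≠ T.mt.Fix ∧ ∀ H, M ≤ H → H ≤ T.mt.Fix → H = M ∨ H = T.mt.Fix := by
  obtain ⟨l, hl, hl'⟩ := exists_fieldAut hD φ
  have hX := ss_faithful F hD
  have hμ : ∀ s < D.nroots, ∀ t, T'.σ ((ss F hD).x s t) = (ss F hD).x (C.τ s) (C.γ s * φ t) := fun s hs t =>
    Subtype.ext ((hT' _).trans ((T.σ_x s hs t).trans (by rw [he]; rfl)))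
  obtain ⟨A, e1, rfl, rfl, hρ, h⟩ := exists_subD hD hT hX (ss_grp F hD) hr T' hl C.τ_lt hμ
  rw [← e1] at hμ hT'
  obtain ⟨hL, hA⟩ := hA A rfl hμ hρ h
  have hfix : ∀ g : D.group F, g.1 ∈ T.mt.Fix ↔ A.μ.σ g = g := fun g => by
    rw [T.mem_mt_Fix, Subtype.ext_iff, hT']
    exact and_iff_right ((matRel_grp hD F).ge g.2)
  refine max_of_sub (fun g hg => matRel_grp hD F ▸ (T.mem_mt_Fix.1 hg).1) hM ?_ fun H hH h0 => ?_
  · obtain ⟨t, ht⟩ := hφ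
    obtain ⟨Y, h1, h2, -⟩ := h.exY s₀ t fun e => absurd ((hρ s₀).symm.trans (congrArg Fin.val e)) hs₀
    refine ⟨Y, (hfix Y).2 h1, fun h3 => ht (A.fix_of_co hX h.hl h.pos ((rg _).US_mono (fun a ha => And.intro ha.1
      (sameCycle_ind (p := fun a => (rs D).ht s₀ ≤ (rs D).ht a) (fun a h => (A.μ.τ_ht a).symm ▸ h) ha.2 le_rfl)) h2)
      ⟨h1, (hl' Y).2 h3⟩)⟩
  replace h0 : A.G0 ≤ H := fun g hg => h0 g ((hfix g).2 hg.1) ((hl' g).1 hg.2)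
  have h1 : ∀ g ∈ H, A.μ.σ g = g := fun g hg => (hfix g).1 (hH hg)
  refine or_iff_not_imp_left.2 fun h2 g hg => ?_
  obtain ⟨t, ht, ht'⟩ : ∃ t ∈ SubD.parA (X := rg (ss F hD)) H h.pos, A.l.φ t ≠ t := by
    by_contra! h3
    exact h2 fun g hg => (hl' g).1
      (tw_le hD hT hX hρ h h0 h1 p (ss_grp F hD) (grp_center F hD) hL h3 hg).2
  have key : ∀ {s B}, Orb C s B → (B = [] ∨ ∃ W, TrOK D C.τ s₀ W s B) → ∀ t, A.l.φ^[B.length + 1] t = t →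
      gword (matRel hD F).x (ow A.l.φ (s :: B) t) ∈ H.map (D.group F).subtype := fun {s B} h3 h4 t ht => by
    have h5 := (hfix (gword (ss F hD).x (ow A.l.φ (s :: B) t))).1 (by
      rw [show (ss F hD).x = fun r t => ⟨_, matRel_mem F hD r t⟩ from rfl, coe_gword]
      exact (T.ow_mem_Fix he h3).2 ht)
    refine ⟨_, ?_, coe_gword F hD _⟩
    rcases h4 with rfl | ⟨W, h4⟩
    · refine h0 ⟨h5, ?_⟩
      simp only [ow, gword, List.map_cons, List.map_nil, List.prod_cons, List.prod_nil, mul_one]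
      exact (hl s (h3.1 s (by simp)).1 t).trans (congrArg _ ht)
    · exact (mem_iff_of_tr hD hT hX hρ h h0 h1 h4 (ow_fst _ _ _) h5).2 (hA H h0 h1 _ ‹_› ht' t)
  obtain ⟨g', hg', e⟩ := T.G0_le_ox he hO (M := H.map (D.group F).subtype) (fun j t ht => by
    rw [ox, oy, (hO j).map_eq, List.map_cons]
    rw [← (hO j).len] at ht
    exact ⟨key (hO j).2.1 ((hW j).imp (fun h => by rw [h]; rfl) fun h => ⟨_, h.1⟩) t ht,
      key (hO j).2.2.1 ((hW j).imp (fun h => by rw [h]; rfl) fun h => ⟨_, h.2⟩) t (by simpa using ht)⟩) (hF hg)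
  exact Subtype.ext e ▸ hg'

omit hD hT hX h h0 h1 hρ in
theorem st_comm_one {a s k : ℕ} {e : ℤ} (h : Gen2 D s a ∧ D.commTerms s a = [(k, e, 1, 1)]) (t u : F) :
    (S.x a u)⁻¹ * (S.x s t)⁻¹ * S.x a u * S.x s t = S.x k (-(e * t * u)) := by
  rw [st_comm_eq S h.1, h.2]; simp [gword]

end Cfsg.Agent.H33
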